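import Groth.Agent.RelPC.Ring

/-!
Flat base change of pseudo-coherent morphisms.
-/

set_option autoImplicit false
set_option linter.style.haveILetI false

universe u

open CategoryTheory CategoryTheory.Limits AlgebraicGeometry TopologicalSpace Groth.Agent.DRingPC Groth.Agent.PerfMor
  Groth.Agent.PCohLib

attribute [local instance] HasDerivedCategory.standard

namespace Groth.Agent.RelPC

section Alg

variable {A B A' B' : Type u} [CommRing A] [CommRing B] [CommRing A'] [CommRing B'] [Algebra A A'] [Algebra A B]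
  [Algebra A' B'] [Algebra B B'] [Algebra A B'] [IsScalarTower A A' B'] [IsScalarTower A B B']
  [Algebra.IsPushout A A' B B']

attribute [local instance] MvPolynomial.algebraMvPolynomial in
/-- One degree of pseudo-coherence survives flat base change of a presentation. -/
lemma npc_pushPres {n : ℕ} {π : MvPolynomial (Fin n) A →+* B} (hc : π.comp MvPolynomial.C = algebraMap A B)
    [Module.Flat A A'] (m : ℤ)
    (h : NPC (FF (MvPolynomial (Fin n) A)) m ((DerivedCategory.singleFunctor _ 0).obj
      ((ModuleCat.restrictScalars π).obj (ModuleCat.of B B)))) :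
    NPC (FF (MvPolynomial (Fin n) A')) m ((DerivedCategory.singleFunctor _ 0).obj
      ((ModuleCat.restrictScalars (pushPres (A' := A') (B' := B') π)).obj (ModuleCat.of B' B'))) := by
  letI := π.toAlgebra
  letI := (pushPres (A' := A') (B' := B') π).toAlgebra
  letI : Algebra (MvPolynomial (Fin n) A) B' := ((algebraMap B B').comp π).toAlgebra
  haveI : IsScalarTower (MvPolynomial (Fin n) A) B B' := IsScalarTower.of_algebraMap_eq fun _ => rfl
  haveI : IsScalarTower (MvPolynomial (Fin n) A) (MvPolynomial (Fin n) A') B' :=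
    IsScalarTower.of_algebraMap_eq fun p => (RingHom.congr_fun (pushPres_map hc) p).symm
  haveI : IsScalarTower A (MvPolynomial (Fin n) A) B :=
    IsScalarTower.of_algebraMap_eq fun a => (RingHom.congr_fun hc a).symm
  haveI : IsScalarTower A (MvPolynomial (Fin n) A) B' :=
    IsScalarTower.of_algebraMap_eq fun a => by
      show _ = algebraMap B B' (π (MvPolynomial.C a))
      rw [show π (MvPolynomial.C a) = algebraMap A B a from RingHom.congr_fun hc a,
        ← IsScalarTower.algebraMap_apply]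
  haveI : IsScalarTower A' (MvPolynomial (Fin n) A') B' :=
    IsScalarTower.of_algebraMap_eq fun a => (show _ = pushPres (A' := A') (B' := B') π (MvPolynomial.C a) by
      simp [pushPres])
  haveI : IsScalarTower A (MvPolynomial (Fin n) A) (MvPolynomial (Fin n) A') :=
    IsScalarTower.of_algebraMap_eq fun a => (MvPolynomial.map_C (algebraMap A A') a).symm
  haveI : IsScalarTower A (MvPolynomial (Fin n) A') B' :=
    IsScalarTower.of_algebraMap_eq fun a => by
      show _ = pushPres (A' := A') (B' := B') π (MvPolynomial.C (algebraMap A A' a))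
      simp [pushPres, ← IsScalarTower.algebraMap_apply]
  haveI : Algebra.IsPushout (MvPolynomial (Fin n) A) (MvPolynomial (Fin n) A') B B' :=
    haveI : Algebra.IsPushout A B A' B' := .symm inferInstance
    Algebra.IsPushout.symm ((Algebra.IsPushout.comp_iff (R := A) (S := MvPolynomial (Fin n) A) (R' := A')
      (S' := MvPolynomial (Fin n) A') (T := B) (T' := B')).1 inferInstance)
  haveI : Module.Flat (MvPolynomial (Fin n) A) (MvPolynomial (Fin n) A') :=
    Module.Flat.isBaseChange A (MvPolynomial (Fin n) A) A' (MvPolynomial (Fin n) A')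
      (Algebra.IsPushout.out (R := A) (S := MvPolynomial (Fin n) A) (R' := A') (S' := MvPolynomial (Fin n) A'))
  exact (NPC_extend_of_flat (algebraMap (MvPolynomial (Fin n) A) (MvPolynomial (Fin n) A'))
    (RingHom.flat_algebraMap_iff.2 inferInstance)
    ((NPC_single_congr selfRestrictIso h).of_iso (singleQIso 0 _).symm)).of_iso
      (pushSingleIso (P := MvPolynomial (Fin n) A) (P' := MvPolynomial (Fin n) A') (B := B) (C := B'))

end Alg

variable {X S : Scheme.{u}} {f : X ⟶ S}

/-- The test for the structure sheaf on one chart. -/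
theorem chartPC_unit_iff {U : X.Opens} (hU : IsAffineOpen U) {V : S.Opens} {h : U ≤ f ⁻¹ᵁ V} {n : ℕ}
    {φ : MvPolynomial (Fin n) Γ(S, V) →+* Γ(X, U)} (hφ : DerSch.IsChart f U V h φ) (m : ℤ) :
    DerSch.ChartPC m (DCoh.toD X (DerSch.unitCx X)) U V φ ↔
      NPC (FF (MvPolynomial (Fin n) Γ(S, V))) m ((DerivedCategory.singleFunctor _ 0).obj
        ((ModuleCat.restrictScalars φ).obj (ModuleCat.of Γ(X, U) Γ(X, U)))) := by
  haveI : IsClosedImmersion hU.isoSpec.hom := inferInstance
  haveI : PreservesFiniteLimits (tilde.functor Γ(X, U)) := QCohLib.preservesFiniteLimits_tilde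
  let M : Dual.D Γ(X, U) := (DerivedCategory.singleFunctor _ 0).obj (ModuleCat.of Γ(X, U) Γ(X, U))
  let e1 : (chartF U hU.isoSpec.hom).obj (Coh.structureModule X) ≅ Coh.structureModule (Spec Γ(X, U)) :=
    (Scheme.Modules.pushforward hU.isoSpec.hom).mapIso (Scheme.Modules.restrictUnitIso U.ι ≪≫
      (Scheme.Modules.restrictUnitIso hU.isoSpec.hom).symm) ≪≫ (restrictPushIso hU.isoSpec.hom).app _
  have e : (DCoh.tildeD Γ(X, U)).obj M ≅ (chartD U hU.isoSpec.hom).obj (DCoh.inD X (Coh.structureModule X)) :=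
    ((tilde.functor Γ(X, U)).mapDerivedCategorySingleFunctor 0).app _ ≪≫
      (DerivedCategory.singleFunctor _ 0).mapIso (tildeSelf ≪≫ e1.symm) ≪≫ (chartDInD U hU.isoSpec.hom _).symm
  have he : DCoh.inD X (Coh.structureModule X) ≅ DCoh.toD X (DerSch.unitCx X) := Iso.refl _
  rw [chartPC_ring hU hφ m _ M (e ≪≫ (chartD U hU.isoSpec.hom).mapIso he), isPC_iff_NPC]
  exact ⟨fun h => NPC.of_iso h (restrictSingle φ 0 _), fun h => NPC.of_iso h (restrictSingle φ 0 _).symm⟩

/-- Flat base change. -/
theorem isNPC_baseChange {X Y Y' : Scheme.{u}} (f : X ⟶ Y) (n : ℤ)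
    (hf : DerSch.IsNPseudoCoherent f n) (h : Y' ⟶ Y) [Flat h] :
    DerSch.IsNPseudoCoherent (pullback.snd f h) n := by
  haveI : LocallyOfFiniteType f := hf.1
  let q := pullback.snd f h
  let p := pullback.fst f h
  refine isRel_of_local fun x => ?_
  obtain ⟨V, hV, hxV, -⟩ := exists_isAffineOpen_mem_and_subset (x := f (p x)) (U := ⊤) trivial
  have hcx : h (q x) = f (p x) := by
    rw [← Scheme.Hom.comp_apply, ← Scheme.Hom.comp_apply, pullback.condition]
  obtain ⟨V', hV', hxV', hV'V⟩ := exists_isAffineOpen_mem_and_subset (x := q x) (U := h ⁻¹ᵁ V)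
    (show h (q x) ∈ V from hcx ▸ hxV)
  obtain ⟨U, hU, hxU, hUV⟩ := exists_isAffineOpen_mem_and_subset (x := p x) (U := f ⁻¹ᵁ V) hxV
  have hpb : IsPullback p q f h := IsPullback.of_hasPullback f h
  let U' := p ⁻¹ᵁ U ⊓ q ⁻¹ᵁ V'
  have hU' : IsAffineOpen U' := by
    have : IsAffine V := hV
    have : IsAffine U := hU
    have : IsAffine V' := hV'
    exact .of_isIso (Scheme.Hom.isPullback_resLE hpb hV'V hUV rfl).isoPullback.hom
  have hpush : CategoryTheory.IsPushout (f.appLE V U hUV) (h.appLE V V' hV'V)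
      (p.appLE U U' inf_le_left) (q.appLE V' U' inf_le_right) :=
    (isIso_pushoutSection_iff hpb hV'V hUV rfl).1
      (isIso_pushoutSection_of_isAffineOpen hpb hV'V hUV rfl hV hV' hU)
  letI := (f.appLE V U hUV).hom.toAlgebra
  letI := (h.appLE V V' hV'V).hom.toAlgebra
  letI := (p.appLE U U' inf_le_left).hom.toAlgebra
  letI := (q.appLE V' U' inf_le_right).hom.toAlgebra
  letI : Algebra Γ(Y, V) Γ(pullback f h, U') := ((q.appLE V' U' inf_le_right).hom.comp (h.appLE V V' hV'V).hom).toAlgebra
  haveI : IsScalarTower Γ(Y, V) Γ(Y', V') Γ(pullback f h, U') := IsScalarTower.of_algebraMap_eq' rfl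
  haveI : IsScalarTower Γ(Y, V) Γ(X, U) Γ(pullback f h, U') :=
    IsScalarTower.of_algebraMap_eq' (congrArg CommRingCat.Hom.hom hpush.w).symm
  haveI : Algebra.IsPushout Γ(Y, V) Γ(Y', V') Γ(X, U) Γ(pullback f h, U') :=
    CommRingCat.isPushout_iff_isPushout.1 hpush.flip
  haveI : Module.Flat Γ(Y, V) Γ(Y', V') := HasRingHomProperty.appLE @Flat h inferInstance ⟨V, hV⟩ ⟨V', hV'⟩ hV'V
  obtain ⟨k, φ, hφ⟩ := exists_chart f ⟨U, hU⟩ ⟨V, hV⟩ hUV
  have hc : φ.comp MvPolynomial.C = algebraMap Γ(Y, V) Γ(X, U) := hφ.2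
  let φ' := pushPres (A' := Γ(Y', V')) (B' := Γ(pullback f h, U')) φ
  have hφ' : DerSch.IsChart q U' V' inf_le_right φ' :=
    ⟨pushPres_surjective hφ.1 hc, RingHom.ext fun a => by
      show φ' (MvPolynomial.C a) = _
      simp only [φ', pushPres, MvPolynomial.eval₂Hom_C]
      rfl⟩
  exact ⟨⟨U', hU'⟩, ⟨V', hV'⟩, inf_le_right, ⟨hxU, hxV'⟩, k, φ', hφ', (chartPC_unit_iff hU' hφ' n).2
    (npc_pushPres hc n ((chartPC_unit_iff hU hφ n).1 (chartPC_of_isRel hf hU hV hφ)))⟩

end Groth.Agent.RelPC
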