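import Groth.Prelude.Def_DerSch2
import Groth.Agent.ClosedExt.Basic
import Groth.Agent.DCohPerf.Coherent
import Groth.Agent.DCohPerf.Local

/-!
Relatively pseudo-coherent objects on quasi-compact schemes are bounded above.
-/

set_option autoImplicit false
set_option linter.style.haveILetI false

universe u

open CategoryTheory CategoryTheory.Limits AlgebraicGeometry TopologicalSpace

attribute [local instance] HasDerivedCategory.standard

namespace Groth.Agent.RelPC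

variable {X Y : Scheme.{u}}

lemma isClosedImmersion_chartImm {f : X ⟶ Y} {U : X.Opens} {V : Y.Opens} {h : U ≤ f ⁻¹ᵁ V} {n : ℕ}
    {φ : MvPolynomial (Fin n) Γ(Y, V) →+* Γ(X, U)} (hU : IsAffineOpen U) (hφ : DerSch.IsChart f U V h φ) :
    IsClosedImmersion (DerSch.chartImm U φ) := by
  haveI : IsClosedImmersion (Spec.map (CommRingCat.ofHom φ)) := IsClosedImmersion.spec_of_surjective _ hφ.1
  haveI : IsIso U.toSpecΓ := (hU.isoSpec_hom) ▸ (inferInstance : IsIso hU.isoSpec.hom)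
  exact inferInstanceAs (IsClosedImmersion (U.toSpecΓ ≫ Spec.map (CommRingCat.ofHom φ)))

/-- A module whose direct image along a closed immersion vanishes on `W` vanishes over `W`. -/
lemma isZero_restrict_of_push {U P : Scheme.{u}} (c : U ⟶ P) [IsClosedImmersion c] (M : U.Modules) (W : P.Opens)
    (h : IsZero ((DCohPerf.rF W.ι).obj ((Scheme.Modules.pushforward c).obj M))) :
    IsZero ((DCohPerf.rF (c ⁻¹ᵁ W).ι).obj M) := by
  refine QCohLib.isZero_restrict_of_subsingleton_stalk _ fun p => ⟨fun a b => ?_⟩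
  obtain ⟨A, hA, s, rfl⟩ := TopCat.Presheaf.exists_germ_eq _ a
  obtain ⟨B, hB, t, rfl⟩ := TopCat.Presheaf.exists_germ_eq _ b
  obtain ⟨O, hO, hOe⟩ := c.isClosedEmbedding.isInducing.isOpen_iff.1 (A ⊓ B ⊓ c ⁻¹ᵁ W).isOpen
  let O' : P.Opens := W ⊓ ⟨O, hO⟩
  have hle : c ⁻¹ᵁ O' ≤ A ⊓ B := fun q hq => by
    have h1 : q ∈ c.base ⁻¹' O := hq.2
    rw [hOe] at h1
    exact h1.1
  have hp : p.1 ∈ c ⁻¹ᵁ O' := ⟨p.2, show p.1 ∈ c.base ⁻¹' O by rw [hOe]; exact ⟨⟨hA, hB⟩, p.2⟩⟩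
  have hsub : W.ι ''ᵁ (W.ι ⁻¹ᵁ O') = O' := by
    rw [Scheme.Hom.image_preimage_eq_opensRange_inf, Scheme.Opens.opensRange_ι, ← inf_assoc, inf_idem]
  haveI := QCohLib.subsingleton_sections_of_isZero h (W.ι ⁻¹ᵁ O')
  haveI : Subsingleton Γ((Scheme.Modules.pushforward c).obj M, W.ι ''ᵁ (W.ι ⁻¹ᵁ O')) := this
  rw [hsub] at this
  haveI : Subsingleton Γ(M, c ⁻¹ᵁ O') := ‹_›
  exact TopCat.Presheaf.germ_ext M.presheaf (c ⁻¹ᵁ O') hp (homOfLE (hle.trans inf_le_left))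
    (homOfLE (hle.trans inf_le_right)) (Subsingleton.elim _ _)

theorem exists_isLE [CompactSpace X] (f : X ⟶ Y) (n : ℤ) (K : DCoh.D X) (hK : DerSch.IsPseudoCoherentRel f n K) :
    ∃ b : ℤ, K.IsLE b := by
  obtain ⟨-, 𝒱, h𝒱, hch⟩ := hK
  let G := DerivedCategory.Q.objPreimage K
  let eG : DCoh.toD X G ≅ K := DerivedCategory.Q.objObjPreimageIso K
  have key : ∀ x : X, ∃ (T : X.Opens) (b : ℤ), x ∈ T ∧ ∀ i, b < i →
      IsZero ((DCohPerf.rF T.ι).obj (DCoh.HD K i)) := fun x => by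
    have hx : f.base x ∈ (⨆ V ∈ 𝒱, (V : Y.Opens)) := h𝒱.symm ▸ trivial
    simp only [Opens.mem_iSup] at hx
    obtain ⟨V, hV, hxV⟩ := hx
    obtain ⟨𝒰, h𝒰, hU⟩ := hch V hV
    have hx' : x ∈ (⨆ U ∈ 𝒰, (U : X.Opens)) := h𝒰.symm ▸ hxV
    simp only [Opens.mem_iSup] at hx'
    obtain ⟨U, hUm, hxU⟩ := hx'
    have hle : (U : X.Opens) ≤ f ⁻¹ᵁ (V : Y.Opens) := h𝒰 ▸ le_iSup₂ (f := fun (U : X.affineOpens) _ => (U : X.Opens)) U hUm
    obtain ⟨m, φ, hφ, hPC⟩ := hU U hUm hle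
    let c := DerSch.chartImm (U : X.Opens) φ
    haveI : IsClosedImmersion c := isClosedImmersion_chartImm U.2 hφ
    obtain ⟨W, hyW, hW⟩ := hPC G ⟨eG⟩ (c.base ⟨x, hxU⟩)
    obtain ⟨E, α, hE, hiso, -⟩ := hW _ ⟨Iso.refl _⟩
    obtain ⟨⟨a, b, hz⟩, -⟩ := hE
    refine ⟨((c ⁻¹ᵁ W).ι ≫ (U : X.Opens).ι).opensRange, max n b, ⟨⟨⟨x, hxU⟩, hyW⟩, rfl⟩, fun i hi => ?_⟩
    haveI := hiso i (lt_of_le_of_lt (le_max_left _ _) hi)
    let Fc : X.Modules ⥤ ((W : Scheme.{u})).Modules :=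
      DCohPerf.rF (U : X.Opens).ι ⋙ Scheme.Modules.pushforward c ⋙ DCohPerf.rF W.ι
    haveI : (Scheme.Modules.pushforward c).Additive := ClosedExt.push_additive c
    haveI : (Scheme.Modules.pushforward c).PreservesHomology := ClosedExt.push_preservesHomology c
    haveI : PreservesFiniteLimits (Scheme.Modules.pushforward c) :=
      Functor.preservesFiniteLimits_of_preservesHomology _
    haveI : PreservesFiniteColimits (Scheme.Modules.pushforward c) :=
      Functor.preservesFiniteColimits_of_preservesHomology _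
    haveI : Fc.PreservesHomology :=
      by
      have h := Fc.exact_tfae.out 3 2
      exact h.1 ⟨inferInstance, inferInstance⟩
    have hzE : IsZero ((DerivedCategory.homologyFunctor _ i).obj (DerivedCategory.Q.obj E)) :=
      (HomologicalComplex.ExactAt.of_isZero (hz i (Or.inr (lt_of_le_of_lt (le_max_right _ _) hi)))).isZero_homology.of_iso
        ((DerivedCategory.homologyFunctorFactors _ i).app E)
    have hzC : IsZero (((Fc.mapHomologicalComplex (ComplexShape.up ℤ)).obj G).homology i) :=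
      hzE.of_iso (asIso ((DerivedCategory.homologyFunctor _ i).map α) ≪≫
        (DerivedCategory.homologyFunctorFactors _ i).app _).symm
    have hzF : IsZero (Fc.obj (G.homology i)) := hzC.of_iso ((G.sc i).mapHomologyIso Fc).symm
    have hzT := isZero_restrict_of_push c _ W hzF
    let e : DCohPerf.rF (U : X.Opens).ι ⋙ DCohPerf.rF (c ⁻¹ᵁ W).ι ≅ DCohPerf.rF ((c ⁻¹ᵁ W).ι ≫ (U : X.Opens).ι) :=
      (DCohPerf.rFComp _ _).symm
    have hzH : IsZero ((DCohPerf.rF ((c ⁻¹ᵁ W).ι ≫ (U : X.Opens).ι)).obj (DCoh.HD K i)) :=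
      hzT.of_iso ((DCohPerf.rF ((c ⁻¹ᵁ W).ι ≫ (U : X.Opens).ι)).mapIso
        (((DerivedCategory.homologyFunctor X.Modules i).mapIso eG).symm ≪≫
          (DerivedCategory.homologyFunctorFactors X.Modules i).app G) ≪≫ (e.app _).symm)
    let j := (c ⁻¹ᵁ W).ι ≫ (U : X.Opens).ι
    refine DCohPerf.isZero_of_cover (fun _ : PUnit.{1} => j.isoOpensRange.hom) (fun y => ⟨PUnit.unit, (Scheme.homeoOfIso j.isoOpensRange).surjective y⟩)
      fun _ => hzH.of_iso ?_
    exact ((DCohPerf.rFComp j.isoOpensRange.hom j.opensRange.ι).app _).symm ≪≫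
      (Scheme.Modules.restrictFunctorCongr j.isoOpensRange_hom_ι).app _
  choose T b hxT hT using key
  obtain ⟨s, hs⟩ := CompactSpace.isCompact_univ.elim_finite_subcover (fun x : X => (T x : Set X))
    (fun x => (T x).isOpen) (fun x _ => Set.mem_iUnion.2 ⟨x, hxT x⟩)
  obtain ⟨B, hB⟩ := (s.image b).bddAbove
  refine ⟨B, (DerivedCategory.isLE_iff K B).2 fun i hi => DCohPerf.isZero_of_cover (fun x : s => (T x.1).ι)
    (fun x => ?_) fun x => hT x.1 i (lt_of_le_of_lt (hB (Finset.mem_image_of_mem b x.2)) hi)⟩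
  obtain ⟨y, hy, hxy⟩ := Set.mem_iUnion₂.1 (hs (Set.mem_univ x))
  exact ⟨⟨y, hy⟩, by simpa using hxy⟩

end Groth.Agent.RelPC
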