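import Groth.Agent.RelPC.BoundAbove
import Groth.Agent.DCohPerf.Summand
import Groth.Agent.DCohPerf.HTop

/-!
The chart test as a test on a derived functor.
-/

set_option autoImplicit false
set_option linter.style.haveILetI false

universe u

open CategoryTheory CategoryTheory.Limits AlgebraicGeometry TopologicalSpace

attribute [local instance] HasDerivedCategory.standard

namespace Groth.Agent.RelPC

variable {X Y : Scheme.{u}}

/-- Restrict to `U` and push along `c`. -/
noncomputable abbrev chartF (U : X.Opens) {P : Scheme.{u}} (c : (U : Scheme.{u}) ⟶ P) : X.Modules ⥤ P.Modules :=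
  DCohPerf.rF U.ι ⋙ Scheme.Modules.pushforward c

section

variable (U : X.Opens) {P : Scheme.{u}} (c : (U : Scheme.{u}) ⟶ P) [IsClosedImmersion c]

instance additive_chartF : (chartF U c).Additive :=
  haveI : (Scheme.Modules.pushforward c).Additive := ClosedExt.push_additive c
  inferInstance

instance preservesFiniteLimits_chartF : PreservesFiniteLimits (chartF U c) :=
  haveI : (Scheme.Modules.pushforward c).Additive := ClosedExt.push_additive c
  haveI : (Scheme.Modules.pushforward c).PreservesHomology := ClosedExt.push_preservesHomology c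
  haveI : PreservesFiniteLimits (Scheme.Modules.pushforward c) := Functor.preservesFiniteLimits_of_preservesHomology _
  comp_preservesFiniteLimits _ _

instance preservesFiniteColimits_chartF : PreservesFiniteColimits (chartF U c) :=
  haveI : (Scheme.Modules.pushforward c).Additive := ClosedExt.push_additive c
  haveI : (Scheme.Modules.pushforward c).PreservesHomology := ClosedExt.push_preservesHomology c
  haveI : PreservesFiniteColimits (Scheme.Modules.pushforward c) := Functor.preservesFiniteColimits_of_preservesHomology _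
  comp_preservesFiniteColimits _ _

/-- The derived functor of a chart. -/
noncomputable abbrev chartD : DCoh.D X ⥤ DCoh.D P := (chartF U c).mapDerivedCategory

/-- Its value on complexes. -/
noncomputable def chartDQ (G : CochainComplex X.Modules ℤ) :
    (chartD U c).obj (DerivedCategory.Q.obj G) ≅
      DCoh.toD P ((DerSch.pushCx c).obj ((DCoh.restrictCx U).obj G)) :=
  (chartF U c).mapDerivedCategoryFactors.app G

/-- Its value on modules in degree zero. -/
noncomputable def chartDInD (M : X.Modules) :
    (chartD U c).obj (DCoh.inD X M) ≅ DCoh.inD P ((chartF U c).obj M) :=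
  ((chartF U c).mapDerivedCategorySingleFunctor 0).app M

end

theorem chartPC_iff (m : ℤ) (K : DCoh.D X) (U : X.Opens) (V : Y.Opens) {n : ℕ}
    (φ : MvPolynomial (Fin n) Γ(Y, V) →+* Γ(X, U)) [IsClosedImmersion (DerSch.chartImm U φ)] :
    DerSch.ChartPC m K U V φ ↔ DCoh.IsPseudoCoherentD m ((chartD U (DerSch.chartImm U φ)).obj K) := by
  constructor
  · intro h
    have e : DCoh.toD X (DerivedCategory.Q.objPreimage K) ≅ K := DerivedCategory.Q.objObjPreimageIso K
    exact DCohPerf.isPC_of_iso (h _ ⟨e⟩) ((chartDQ U _ _).symm ≪≫ (chartD U (DerSch.chartImm U φ)).mapIso e)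
  · intro h G hG
    obtain ⟨e⟩ := hG
    exact DCohPerf.isPC_of_iso h ((chartD U (DerSch.chartImm U φ)).mapIso e.symm ≪≫ chartDQ U _ G)

theorem isPseudoCoherentRel_summand (f : X ⟶ Y) (m : ℤ) (E K : DCoh.D X) [HasBinaryBiproduct E K]
    (h : DerSch.IsPseudoCoherentRel f m (E ⊞ K)) :
    DerSch.IsPseudoCoherentRel f m E ∧ DerSch.IsPseudoCoherentRel f m K := by
  obtain ⟨hlft, 𝒱, h𝒱, hch⟩ := h
  refine ⟨⟨hlft, 𝒱, h𝒱, fun V hV => ?_⟩, ⟨hlft, 𝒱, h𝒱, fun V hV => ?_⟩⟩ <;>
  · obtain ⟨𝒰, h𝒰, hU⟩ := hch V hV
    refine ⟨𝒰, h𝒰, fun U hUm h => ?_⟩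
    obtain ⟨n, φ, hφ, hPC⟩ := hU U hUm h
    refine ⟨n, φ, hφ, ?_⟩
    haveI := isClosedImmersion_chartImm U.2 hφ
    rw [chartPC_iff] at hPC ⊢
    let Φ := chartD (U : X.Opens) (DerSch.chartImm (U : X.Opens) φ)
    haveI := preservesBinaryBiproducts_of_preservesBiproducts Φ
    have h' := DCohPerf.isPC_of_iso hPC (Φ.mapBiprod E K)
    first
    | exact DCohPerf.isPC_summand _ _ h'
    | exact DCohPerf.isPC_summand _ _ (DCohPerf.isPC_of_iso h' (biprod.braiding _ _))

end Groth.Agent.RelPC
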