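import Groth.Agent.RelPC.FT
import Groth.Agent.DCohPerf.Local
import Groth.Agent.PCohLib.Stupid
import Groth.Agent.HigherDirect.QCohGlobal

/-!
Pseudo-coherence and direct images along closed immersions with pseudo-coherent structure sheaf.
-/

set_option autoImplicit false
set_option linter.style.haveILetI false

universe u

open CategoryTheory CategoryTheory.Limits CategoryTheory.Pretriangulated AlgebraicGeometry TopologicalSpace
  HomologicalComplex

attribute [local instance] HasDerivedCategory.standard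

namespace Groth.Agent.RelPC

variable {Z P : Scheme.{u}} (ι : Z ⟶ P) [IsClosedImmersion ι]

instance pushClosed_additive : (Scheme.Modules.pushforward ι).Additive := ClosedExt.push_additive ι

instance pushClosed_preservesFiniteLimits : PreservesFiniteLimits (Scheme.Modules.pushforward ι) :=
  haveI := ClosedExt.push_preservesHomology ι
  Functor.preservesFiniteLimits_of_preservesHomology _

instance pushClosed_preservesFiniteColimits : PreservesFiniteColimits (Scheme.Modules.pushforward ι) :=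
  haveI := ClosedExt.push_preservesHomology ι
  Functor.preservesFiniteColimits_of_preservesHomology _

instance isClosedImmersion_morphismRestrict (W : P.Opens) : IsClosedImmersion (ι ∣_ W) :=
  IsZariskiLocalAtTarget.restrict ‹_› W

/-- Exact direct image on derived categories. -/
noncomputable abbrev pushD : DCoh.D Z ⥤ DCoh.D P := (Scheme.Modules.pushforward ι).mapDerivedCategory

/-- Its value on complexes. -/
noncomputable def pushDQ (G : CochainComplex Z.Modules ℤ) :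
    (pushD ι).obj (DCoh.toD Z G) ≅ DCoh.toD P ((DerSch.pushCx ι).obj G) :=
  (Scheme.Modules.pushforward ι).mapDerivedCategoryFactors.app G

/-- Its value in degree zero. -/
noncomputable def pushDInD (M : Z.Modules) :
    (pushD ι).obj (DCoh.inD Z M) ≅ DCoh.inD P ((Scheme.Modules.pushforward ι).obj M) :=
  ((Scheme.Modules.pushforward ι).mapDerivedCategorySingleFunctor 0).app M

theorem nonempty_HD_pushD (E : DCoh.D Z) (i : ℤ) :
    Nonempty (DCoh.HD ((pushD ι).obj E) i ≅ (Scheme.Modules.pushforward ι).obj (DCoh.HD E i)) := by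
  haveI := ClosedExt.push_preservesHomology ι
  let G := DerivedCategory.Q.objPreimage E
  let e : DCoh.toD Z G ≅ E := DerivedCategory.Q.objObjPreimageIso E
  exact ⟨(DerivedCategory.homologyFunctor P.Modules i).mapIso ((pushD ι).mapIso e.symm ≪≫ pushDQ ι G) ≪≫
    (DerivedCategory.homologyFunctorFactors P.Modules i).app _ ≪≫
    (G.sc i).mapHomologyIso (Scheme.Modules.pushforward ι) ≪≫
    (Scheme.Modules.pushforward ι).mapIso (((DerivedCategory.homologyFunctorFactors Z.Modules i).app G).symm ≪≫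
      (DerivedCategory.homologyFunctor Z.Modules i).mapIso e)⟩

theorem nonempty_RD_pushD (W : P.Opens) (E : DCoh.D Z) :
    Nonempty ((DCohPerf.RD W.ι).obj ((pushD ι).obj E) ≅ (pushD (ι ∣_ W)).obj ((DCohPerf.RD (ι ⁻¹ᵁ W).ι).obj E)) := by
  obtain ⟨t⟩ := HigherDirect.nonempty_push_restrict_iso ι W
  let G := DerivedCategory.Q.objPreimage E
  let e : DCoh.toD Z G ≅ E := DerivedCategory.Q.objObjPreimageIso E
  exact ⟨(DCohPerf.RD W.ι).mapIso ((pushD ι).mapIso e.symm ≪≫ pushDQ ι G) ≪≫ DCohPerf.RQ W.ι _ ≪≫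
    DerivedCategory.Q.mapIso ((NatIso.mapHomologicalComplex t (ComplexShape.up ℤ)).app G) ≪≫
    (pushDQ (ι ∣_ W) ((DCohPerf.rC (ι ⁻¹ᵁ W).ι).obj G)).symm ≪≫ (pushD (ι ∣_ W)).mapIso ((DCohPerf.RQ (ι ⁻¹ᵁ W).ι G).symm ≪≫
      (DCohPerf.RD (ι ⁻¹ᵁ W).ι).mapIso e)⟩

/-- The structure sheaf of the source is pseudo-coherent on the target. -/
def GoodImm : Prop :=
  ∀ m : ℤ, DCoh.IsPseudoCoherentD m (DCoh.inD P ((Scheme.Modules.pushforward ι).obj (Coh.structureModule Z)))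

variable {ι}

theorem GoodImm.restrict (h : GoodImm ι) (W : P.Opens) : GoodImm (ι ∣_ W) := fun m => by
  obtain ⟨t⟩ := HigherDirect.nonempty_push_restrict_iso ι W
  exact DCohPerf.isPC_of_iso (DCohPerf.isPC_restrict (h m) W.ι)
    (((DCohPerf.rF W.ι).mapDerivedCategorySingleFunctor 0).app _ ≪≫
      (DerivedCategory.singleFunctor _ 0).mapIso (t.app _ ≪≫
        (Scheme.Modules.pushforward (ι ∣_ W)).mapIso (Scheme.Modules.restrictUnitIso (ι ⁻¹ᵁ W).ι)))

theorem isPC_push_free (h : GoodImm ι) (m : ℤ) : ∀ n : ℕ,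
    DCoh.IsPseudoCoherentD m ((pushD ι).obj (DCoh.inD Z (FlatMod.freeMod Z n)))
  | 0 => DCohPerf.isPC_of_isZero m fun i _ =>
      (DerivedCategory.homologyFunctor P.Modules i).map_isZero ((pushD ι).map_isZero
        ((DerivedCategory.singleFunctor Z.Modules 0).map_isZero
          ((IsZero.iff_id_eq_zero _).2 (Sigma.hom_ext _ _ fun j => j.elim0))))
  | n + 1 => by
    let S := DerivedCategory.singleFunctor Z.Modules 0 ⋙ pushD ι
    haveI := preservesBinaryBiproducts_of_preservesBiproducts S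
    have h1 : DCoh.IsPseudoCoherentD m (S.obj (FlatMod.freeMod Z 1)) :=
      DCohPerf.isPC_of_iso (h m) ((pushDInD ι _).symm ≪≫ S.mapIso
        (coproductUniqueIso fun _ : Fin 1 => Coh.structureModule Z).symm)
    have hb : DCoh.IsPseudoCoherentD m (S.obj (FlatMod.freeMod Z n) ⊞ S.obj (FlatMod.freeMod Z 1)) :=
      DCohPerf.isPC_triangle₂ m (binaryBiproductTriangle_distinguished _ _) (isPC_push_free h m n) h1
    exact DCohPerf.isPC_of_iso hb ((S.mapBiprod _ _).symm ≪≫ S.mapIso (LocFree.freeSumIso Z n 1))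

variable (ι) in
/-- Away from the image. -/
theorem exists_away (m : ℤ) (E : DCoh.D Z) {y : P} (hy : y ∉ Set.range ι.base) :
    ∃ (W : Scheme.{u}) (j : W ⟶ P) (_ : IsOpenImmersion j) (w : W), j w = y ∧
      DCoh.IsPseudoCoherentD m ((DCohPerf.RD j).obj ((pushD ι).obj E)) := by
  let W : P.Opens := ⟨(Set.range ι.base)ᶜ, ι.isClosedEmbedding.isClosed_range.isOpen_compl⟩
  refine ⟨(W : Scheme.{u}), W.ι, inferInstance, ⟨y, hy⟩, rfl, DCohPerf.isPC_of_isZero m fun i _ => ?_⟩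
  obtain ⟨e⟩ := DCohPerf.homology_restrict W.ι ((pushD ι).obj E) i
  obtain ⟨e'⟩ := nonempty_HD_pushD ι E i
  refine IsZero.of_iso ?_ (e ≪≫ (DCohPerf.rF W.ι).mapIso e')
  refine QCohLib.isZero_restrict_of_subsingleton_stalk _ fun p => ?_
  exact ModuleCat.subsingleton_of_isZero
    (ModGroth.PushStalk.isZero_stalk_push ι ι.isClosedEmbedding.isClosed_range p.2 _)

theorem exists_nhd (x : Z) (A : Z.Opens) (hx : x ∈ A) : ∃ W : P.Opens, ι.base x ∈ W ∧ ι ⁻¹ᵁ W = A := by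
  obtain ⟨O, hO, hOe⟩ := ι.isClosedEmbedding.isInducing.isOpen_iff.1 A.isOpen
  exact ⟨⟨O, hO⟩, show x ∈ ι.base ⁻¹' O by rw [hOe]; exact hx, Opens.ext hOe⟩

theorem isPC_push_finLocFree (h : GoodImm ι) (m : ℤ) {M : Z.Modules} (hM : FlatMod.IsFinLocFree M) :
    DCoh.IsPseudoCoherentD m ((pushD ι).obj (DCoh.inD Z M)) := by
  refine DCohPerf.isPC_of_locally fun y => ?_
  by_cases hy : y ∈ Set.range ι.base
  · obtain ⟨x, rfl⟩ := hy
    obtain ⟨U, n, hx, ⟨e⟩⟩ := hM x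
    obtain ⟨W, hxW, hW⟩ := exists_nhd (ι := ι) x U hx
    subst hW
    obtain ⟨t⟩ := nonempty_RD_pushD ι W (DCoh.inD Z M)
    refine ⟨(W : Scheme.{u}), W.ι, inferInstance, ⟨_, hxW⟩, rfl, ?_⟩
    exact DCohPerf.isPC_of_iso (isPC_push_free (h.restrict W) m n) ((pushD (ι ∣_ W)).mapIso
      ((DerivedCategory.singleFunctor _ 0).mapIso e.symm ≪≫
        (((DCohPerf.rF (ι ⁻¹ᵁ W).ι).mapDerivedCategorySingleFunctor 0).app M).symm) ≪≫ t.symm)
  · exact exists_away ι m _ hy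

theorem isPC_push_sp (h : GoodImm ι) {E : CochainComplex Z.Modules ℤ} (hE : DCoh.IsStrictlyPerfect E) :
    ∀ m : ℤ, DCoh.IsPseudoCoherentD m ((pushD ι).obj (DCoh.toD Z E)) := by
  obtain ⟨⟨a, b, hz⟩, hl⟩ := hE
  obtain ⟨k, hk⟩ : ∃ k : ℕ, b - a < k := ⟨(b - a + 1).toNat, by omega⟩
  induction k generalizing E b with
  | zero =>
    exact fun m => DCohPerf.isPC_of_isZero m fun i _ => (DerivedCategory.homologyFunctor P.Modules i).map_isZero
      ((pushD ι).map_isZero (DerivedCategory.Q.map_isZero ((IsZero.iff_id_eq_zero _).2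
        (HomologicalComplex.hom_ext _ _ fun i => (hz i (by omega)).eq_of_src _ _))))
  | succ k ih =>
    intro m
    obtain ⟨S, hS, h1, h2, h3, h3'⟩ := PCohLib.exists_ses_top E b (hz (b + 1) (Or.inr (by omega)))
    have hz3 : ∀ i, i < a ∨ b - 1 < i → IsZero (S.X₃.X i) := fun i hi => by
      by_cases hib : i = b
      · exact hib ▸ h3
      · exact (hz i (by omega)).of_iso (h3' i hib).some.symm
    have hl3 : ∀ i, FlatMod.IsFinLocFree (S.X₃.X i) := fun i => by
      by_cases hib : i = b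
      · exact DCohPerf.isFinLocFree_isZero (hib ▸ h3)
      · exact fun x => by
          obtain ⟨U, n, hx, ⟨e⟩⟩ := hl i x
          exact ⟨U, n, hx, ⟨(DCohPerf.rF U.ι).mapIso (h3' i hib).some.symm ≪≫ e⟩⟩
    have hT := (pushD ι).map_distinguished _ (DerivedCategory.triangleOfSES_distinguished hS)
    have p3 : DCoh.IsPseudoCoherentD m ((pushD ι).obj (DerivedCategory.Q.obj S.X₃)) :=
      ih hl3 (b - 1) hz3 (by omega) m
    have e1 : DerivedCategory.Q.obj S.X₁ ≅ (DCoh.inD Z (E.X b))⟦-b⟧ :=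
      DerivedCategory.Q.mapIso (eqToIso h1) ≪≫ PCohLib.singleQIso b _ ≪≫
        (PCohLib.singleShiftIso (-b) b 0 (by omega) _).symm
    have p1 : DCoh.IsPseudoCoherentD m ((pushD ι).obj (DerivedCategory.Q.obj S.X₁)) :=
      DCohPerf.isPC_of_iso (DCohPerf.isPC_shift (isPC_push_finLocFree h (m + -b) (hl b)) (-b) m rfl)
        (((pushD ι).commShiftIso (-b)).symm.app _ ≪≫ (pushD ι).mapIso e1.symm)
    have p2 := DCohPerf.isPC_triangle₂ m hT p1 p3
    exact DCohPerf.isPC_of_iso p2 ((pushD ι).mapIso (DerivedCategory.Q.mapIso (eqToIso h2)))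

theorem nq_pushD {m : ℤ} {K L : DCoh.D Z} {α : K ⟶ L} (hα : DCohPerf.NQ m α) :
    DCohPerf.NQ m ((pushD ι).map α) := by
  obtain ⟨C, g, d, hT⟩ := distinguished_cocone_triangle α
  refine (DCohPerf.nq_iff ((pushD ι).map_distinguished _ hT) m).2 fun i hi => ?_
  obtain ⟨e⟩ := nonempty_HD_pushD ι C i
  exact ((Scheme.Modules.pushforward ι).map_isZero ((DCohPerf.nq_iff hT m).1 hα i hi)).of_iso e

/-- Direct image preserves pseudo-coherence. -/
theorem isPC_pushD (h : GoodImm ι) {m : ℤ} {E : DCoh.D Z} (hE : DCoh.IsPseudoCoherentD m E) :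
    DCoh.IsPseudoCoherentD m ((pushD ι).obj E) := by
  refine DCohPerf.isPC_of_locally fun y => ?_
  by_cases hy : y ∈ Set.range ι.base
  · obtain ⟨x, rfl⟩ := hy
    obtain ⟨T, j, hj, w, hw, hs⟩ := (DCohPerf.isPC_iff m E).1 hE x
    obtain ⟨hm, k, hk, hkj⟩ := DCohPerf.exists_opens j w
    obtain ⟨W, hxW, hW⟩ := exists_nhd (ι := ι) x j.opensRange (hw ▸ hm)
    obtain ⟨F, α, hF, hα⟩ : DCohPerf.PCOn m E (ι ⁻¹ᵁ W).ι := by
      rw [hW]
      exact DCohPerf.pcOn_congr hkj (DCohPerf.pcOn_comp hs k)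
    obtain ⟨t⟩ := nonempty_RD_pushD ι W E
    refine ⟨(W : Scheme.{u}), W.ι, inferInstance, ⟨_, hxW⟩, rfl, ?_⟩
    exact DCohPerf.isPC_of_iso (DCohPerf.isPC_of_nq (isPC_push_sp (h.restrict W) hF m) _ (nq_pushD hα)) t.symm
  · exact exists_away ι m _ hy

section Top

variable {C : Type*} [Category C] [Abelian C] (K : CochainComplex C ℤ) (b : ℤ) (hb : IsZero (K.X (b + 1)))

/-- The projection of the top term to the top cohomology. -/
noncomputable def topπ : K.X b ⟶ K.homology b :=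
  K.liftCycles (𝟙 _) (b + 1) (by simp) (hb.eq_of_tgt _ _) ≫ K.homologyπ b

lemma epi_topπ : Epi (topπ K b hb) := by
  let τ := K.liftCycles (𝟙 (K.X b)) (b + 1) (by simp) (hb.eq_of_tgt _ _)
  haveI : IsIso τ := ⟨K.iCycles b, by simp [τ], by rw [← cancel_mono (K.iCycles b)]; simp [τ]⟩
  exact epi_comp _ _

lemma topπ_w : K.d (b - 1) b ≫ topπ K b hb = 0 := by
  rw [topπ, ← Category.assoc, show K.d (b - 1) b ≫ K.liftCycles (𝟙 _) (b + 1) (by simp) (hb.eq_of_tgt _ _) =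
    K.toCycles (b - 1) b from by rw [← cancel_mono (K.iCycles b)]; simp]
  exact K.toCycles_comp_homologyπ _ _

lemma topπ_exact : (ShortComplex.mk _ _ (topπ_w K b hb)).Exact := by
  let τ := K.liftCycles (𝟙 (K.X b)) (b + 1) (by simp) (hb.eq_of_tgt _ _)
  haveI : IsIso τ := ⟨K.iCycles b, by simp [τ], by rw [← cancel_mono (K.iCycles b)]; simp [τ]⟩
  refine ShortComplex.exact_of_iso ?_ (ShortComplex.exact_of_g_is_cokernel
    (ShortComplex.mk (K.toCycles (b - 1) b) (K.homologyπ b) (K.toCycles_comp_homologyπ _ _))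
    (K.homologyIsCokernel (b - 1) b (by simp)))
  refine ShortComplex.isoMk (Iso.refl _) (asIso τ).symm (Iso.refl _) ?_ ?_
  · show 𝟙 _ ≫ K.d (b - 1) b = K.toCycles (b - 1) b ≫ inv τ
    rw [IsIso.eq_comp_inv, Category.id_comp, ← cancel_mono (K.iCycles b)]
    simp [τ]
  · show inv τ ≫ topπ K b hb = K.homologyπ b ≫ 𝟙 _
    rw [IsIso.inv_comp_eq, Category.comp_id]
    rfl

lemma epi_comp_topπ_map {D : Type*} [Category D] [Abelian D] (R : C ⥤ D) [R.Additive] [PreservesFiniteLimits R]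
    [PreservesFiniteColimits R] {F : D} (u : F ⟶ R.obj (K.X b)) (hu : Epi (u ≫ R.map (topπ K b hb))) :
    Epi (u ≫ topπ ((R.mapHomologicalComplex (ComplexShape.up ℤ)).obj K) b (R.map_isZero hb)) := by
  let K' := (R.mapHomologicalComplex (ComplexShape.up ℤ)).obj K
  let S := (ShortComplex.mk _ _ (topπ_w K b hb)).map R
  let S' := ShortComplex.mk _ _ (topπ_w K' b (R.map_isZero hb))
  haveI : Epi (topπ K b hb) := epi_topπ K b hb
  haveI : Epi S.g := inferInstanceAs (Epi (R.map (topπ K b hb)))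
  haveI : Epi S'.g := epi_topπ K' b (R.map_isZero hb)
  have hS : S.Exact := (topπ_exact K b hb).map R
  have hS' : S'.Exact := topπ_exact K' b (R.map_isZero hb)
  let θ := hS.desc S'.g S'.zero
  have hθ : S.g ≫ θ = S'.g := hS.g_desc _ _
  have hgθ : Epi (S.g ≫ θ) := by rw [hθ]; exact epi_topπ K' b (R.map_isZero hb)
  have hθe : Epi θ := epi_of_epi S.g θ
  have h2 : Epi ((u ≫ R.map (topπ K b hb)) ≫ θ) := @epi_comp _ _ _ _ _ _ hu θ hθe
  rw [Category.assoc] at h2
  have e : R.map (topπ K b hb) ≫ θ = topπ K' b (R.map_isZero hb) := hθ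
  rw [e] at h2
  exact h2

end Top

theorem isPC_of_pushD_aux : ∀ (k : ℕ) {Z P : Scheme.{u}} (ι : Z ⟶ P) [IsClosedImmersion ι], GoodImm ι →
    ∀ (m b : ℤ) (E : DCoh.D Z), b < m + k → (∀ i, b < i → IsZero (DCoh.HD E i)) →
      DCoh.IsPseudoCoherentD m ((pushD ι).obj E) → DCoh.IsPseudoCoherentD m E := by
  intro k
  induction k with
  | zero => exact fun ι _ _ m b E hb hz _ => DCohPerf.isPC_of_isZero m fun i hi => hz i (by omega)
  | succ k ih =>
    intro Z P ι _ hι m b E hb hz hpc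
    by_cases hbm : b < m
    · exact DCohPerf.isPC_of_isZero m fun i hi => hz i (by omega)
    have hft0 : CohB1.IsFT (DCoh.HD ((pushD ι).obj E) b) :=
      DCohPerf.isFT_top b (DCohPerf.isPC_mono hpc (by omega)) fun i hi => by
        obtain ⟨e⟩ := nonempty_HD_pushD ι E i
        exact ((Scheme.Modules.pushforward ι).map_isZero (hz i hi)).of_iso e
    obtain ⟨eH⟩ := nonempty_HD_pushD ι E b
    have hft : CohB1.IsFT (DCoh.HD E b) := isFT_of_push ι (DCohPerf.isFT_of_epi eH.hom hft0)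
    haveI : E.IsLE b := (DerivedCategory.isLE_iff E b).2 hz
    obtain ⟨G, hG, ⟨eG⟩⟩ := E.exists_iso_Q_obj_of_isLE b
    have hGz : ∀ i, b < i → IsZero (G.X i) := fun i hi => CochainComplex.isZero_of_isStrictlyLE G b i hi
    have hz1 : IsZero (G.X (b + 1)) := hGz _ (by omega)
    have hftG : CohB1.IsFT (G.homology b) := DCohPerf.isFT_of_epi
      ((DerivedCategory.homologyFunctor Z.Modules b).mapIso eG ≪≫
        (DerivedCategory.homologyFunctorFactors Z.Modules b).app G).hom hft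
    refine DCohPerf.isPC_of_locally fun x => ?_
    obtain ⟨W₁, j, hj, w₁, hw₁, n, p, hp⟩ := DCohPerf.exists_free_epi hftG x
    haveI := epi_topπ G b hz1
    haveI : Epi ((DCohPerf.rF j).map (topπ G b hz1)) := inferInstance
    obtain ⟨W₂, j', hj', w₂, hw₂, l, hl⟩ := DCohPerf.exists_local_lift ((DCohPerf.rF j).map (topπ G b hz1))
      (DCohPerf.isFinLocFree_free n) p w₁
    obtain ⟨hm, i, hi, hij⟩ := DCohPerf.exists_opens (j' ≫ j) w₂
    obtain ⟨o, hxo, u, hu⟩ : ∃ (o : Z.Opens) (_ : x ∈ o) (u : FlatMod.freeMod (o : Scheme.{u}) n ⟶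
        (DCohPerf.rF o.ι).obj (G.X b)), Epi (u ≫ (DCohPerf.rF o.ι).map (topπ G b hz1)) := by
      refine ⟨(j' ≫ j).opensRange, ⟨w₂, by rw [Scheme.Hom.comp_apply, hw₂, hw₁]⟩, ?_⟩
      let c : DCohPerf.rF (j' ≫ j).opensRange.ι ≅ DCohPerf.rF j ⋙ DCohPerf.rF j' ⋙ DCohPerf.rF i :=
        Scheme.Modules.restrictFunctorCongr hij.symm ≪≫ DCohPerf.rFComp i (j' ≫ j) ≪≫
          Functor.isoWhiskerRight (DCohPerf.rFComp j' j) _ ≪≫ Functor.associator _ _ _
      let f := (LocFree.restrictFreeIso i n).inv ≫ (DCohPerf.rF i).map (LocFree.restrictFreeIso j' n).inv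
      refine ⟨f ≫ (DCohPerf.rF i).map l ≫ c.inv.app (G.X b), ?_⟩
      haveI := hp
      have e1 : (f ≫ (DCohPerf.rF i).map l ≫ c.inv.app (G.X b)) ≫
          (DCohPerf.rF (j' ≫ j).opensRange.ι).map (topπ G b hz1) =
          f ≫ (DCohPerf.rF i).map ((DCohPerf.rF j').map p) ≫ c.inv.app (G.homology b) := by
        have hn := c.inv.naturality (topπ G b hz1)
        simp only [Category.assoc]
        rw [← hl, ← hn, Functor.map_comp, Category.assoc]
        rfl
      rw [e1]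
      infer_instance
    obtain ⟨W, hxW, hW⟩ := exists_nhd (ι := ι) x o hxo
    subst hW
    refine ⟨((ι ⁻¹ᵁ W : Z.Opens) : Scheme.{u}), (ι ⁻¹ᵁ W).ι, inferInstance, ⟨x, hxo⟩, rfl, ?_⟩
    let R := DCohPerf.rF (ι ⁻¹ᵁ W).ι
    let G' := (DCohPerf.rC (ι ⁻¹ᵁ W).ι).obj G
    have hz1' : IsZero (G'.X (b + 1)) := R.map_isZero hz1
    let γ : FlatMod.freeMod ((ι ⁻¹ᵁ W : Z.Opens) : Scheme.{u}) n ⟶ G'.cycles b :=
      u ≫ G'.liftCycles (𝟙 _) (b + 1) (by simp) (hz1'.eq_of_tgt _ _)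
    haveI : Epi (γ ≫ G'.homologyπ b) := by
      have h := epi_comp_topπ_map G b hz1 R u hu
      have e : γ ≫ G'.homologyπ b = u ≫ topπ G' b hz1' := Category.assoc _ _ _
      rw [e]
      exact h
    have hex : PCohLib.ExactFrom (b + 1) G' := fun i hi =>
      ShortComplex.exact_of_isZero_X₂ _ (R.map_isZero (hGz i (by omega)))
    have hN := PCohLib.NQ_mkHomFromSingle γ hex
    let Fc := (HomologicalComplex.single ((ι ⁻¹ᵁ W : Z.Opens) : Scheme.{u}).Modules (ComplexShape.up ℤ) b).obj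
      (FlatMod.freeMod ((ι ⁻¹ᵁ W : Z.Opens) : Scheme.{u}) n)
    let v : Fc ⟶ G' := mkHomFromSingle (c := ComplexShape.up ℤ) (γ ≫ G'.iCycles b) (fun k _ => by simp)
    let eE : DCoh.toD _ G' ≅ (DCohPerf.RD (ι ⁻¹ᵁ W).ι).obj E :=
      (DCohPerf.RQ (ι ⁻¹ᵁ W).ι G).symm ≪≫ (DCohPerf.RD (ι ⁻¹ᵁ W).ι).mapIso eG.symm
    let φ : DCoh.toD _ Fc ⟶ (DCohPerf.RD (ι ⁻¹ᵁ W).ι).obj E := DerivedCategory.Q.map v ≫ eE.hom
    have hφ : DCohPerf.NQ b φ := DCohPerf.NQ.comp
      ⟨fun i hi => (PCohLib.isIso_homologyMap_Q_iff v i).2 (hN.1 i hi), (PCohLib.epi_homologyMap_Q_iff v b).2 hN.2⟩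
      (DCohPerf.nq_of_isIso b eE.hom)
    obtain ⟨C, g, d, hT⟩ := distinguished_cocone_triangle φ
    have hC := (DCohPerf.nq_iff hT b).1 hφ
    have hsp : DCoh.IsStrictlyPerfect Fc := DCohPerf.sp_single (DCohPerf.isFinLocFree_free n) b
    obtain ⟨t⟩ := nonempty_RD_pushD ι W E
    have hpc' : DCoh.IsPseudoCoherentD m ((pushD (ι ∣_ W)).obj ((DCohPerf.RD (ι ⁻¹ᵁ W).ι).obj E)) :=
      DCohPerf.isPC_of_iso (DCohPerf.isPC_restrict hpc W.ι) t
    have hpC : DCoh.IsPseudoCoherentD m ((pushD (ι ∣_ W)).obj C) :=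
      DCohPerf.isPC_triangle₃ m ((pushD (ι ∣_ W)).map_distinguished _ hT) (isPC_push_sp (hι.restrict W) hsp _) hpc'
    have hC' := ih (ι ∣_ W) (hι.restrict W) m (b - 1) C (by omega) (fun i hi => hC i (by omega)) hpC
    exact DCohPerf.isPC_triangle₂ m hT (DCohPerf.isPC_of_isPerfect (DCohPerf.isPerfect_of_sp hsp)) hC'

/-- Pseudo-coherence is detected after direct image. -/
theorem isPC_pushD_iff (h : GoodImm ι) (m : ℤ) (E : DCoh.D Z) :
    DCoh.IsPseudoCoherentD m ((pushD ι).obj E) ↔ DCoh.IsPseudoCoherentD m E := by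
  refine ⟨fun hE => DCohPerf.isPC_of_locally fun x => ?_, isPC_pushD h⟩
  obtain ⟨T, j, hj, w, hw, N, hmN, hN⟩ := DCohPerf.exists_bound_of_isPC hE (ι.base x)
  obtain ⟨hm, i, hi, hij⟩ := DCohPerf.exists_opens j w
  let W : P.Opens := j.opensRange
  have hxW : x ∈ ι ⁻¹ᵁ W := ⟨w, hw⟩
  refine ⟨((ι ⁻¹ᵁ W : Z.Opens) : Scheme.{u}), (ι ⁻¹ᵁ W).ι, inferInstance, ⟨x, hxW⟩, rfl, ?_⟩
  obtain ⟨t⟩ := nonempty_RD_pushD ι W E
  refine isPC_of_pushD_aux ((N - m).toNat + 1) (ι ∣_ W) (h.restrict W) m N _ (by omega) (fun k hk => ?_)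
    (DCohPerf.isPC_of_iso (DCohPerf.isPC_restrict hE W.ι) t)
  obtain ⟨e₁⟩ := DCohPerf.homology_restrict j ((pushD ι).obj E) k
  obtain ⟨e₂⟩ := nonempty_HD_pushD ι E k
  have hzj : IsZero ((DCohPerf.rF j).obj ((Scheme.Modules.pushforward ι).obj (DCoh.HD E k))) :=
    (hN k hk.le).of_iso (e₁ ≪≫ (DCohPerf.rF j).mapIso e₂).symm
  have hzW : IsZero ((DCohPerf.rF W.ι).obj ((Scheme.Modules.pushforward ι).obj (DCoh.HD E k))) :=
    ((DCohPerf.rF i).map_isZero hzj).of_iso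
      ((Scheme.Modules.restrictFunctorCongr hij.symm).app _ ≪≫ (DCohPerf.rFComp i j).app _)
  obtain ⟨e₃⟩ := DCohPerf.homology_restrict (ι ⁻¹ᵁ W).ι E k
  exact (isZero_restrict_of_push ι _ W hzW).of_iso e₃

end Groth.Agent.RelPC
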