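import Groth.Agent.RelPC.BaseChange
import Groth.Agent.DRingPC.Descent
import Mathlib.RingTheory.Flat.FaithfullyFlat.Basic

/-!
Descent of pseudo-coherent morphisms along flat coverings of the base.
-/

set_option autoImplicit false
set_option linter.style.haveILetI false

universe u

open CategoryTheory CategoryTheory.Limits AlgebraicGeometry TopologicalSpace Groth.Agent.DRingPC Groth.Agent.PerfMor
  Groth.Agent.PCohLib
open scoped TensorProduct

attribute [local instance] HasDerivedCategory.standard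

namespace Groth.Agent.RelPC

section Alg

variable {A B A' B' : Type u} [CommRing A] [CommRing B] [CommRing A'] [CommRing B'] [Algebra A A'] [Algebra A B]
  [Algebra A' B'] [Algebra B B'] [Algebra A B'] [IsScalarTower A A' B'] [IsScalarTower A B B']
  [Algebra.IsPushout A A' B B']

attribute [local instance] MvPolynomial.algebraMvPolynomial in
lemma npc_extend_of_pushPres {n : ℕ} {π : MvPolynomial (Fin n) A →+* B} (hc : π.comp MvPolynomial.C = algebraMap A B)
    [Module.Flat A A'] (m : ℤ) [Algebra (MvPolynomial (Fin n) A) B] (hπ : algebraMap (MvPolynomial (Fin n) A) B = π)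
    (h : NPC (FF (MvPolynomial (Fin n) A')) m ((DerivedCategory.singleFunctor _ 0).obj
      ((ModuleCat.restrictScalars (pushPres (A' := A') (B' := B') π)).obj (ModuleCat.of B' B')))) :
    NPC (FF (MvPolynomial (Fin n) A')) m (DRing.toD ((extCx (algebraMap (MvPolynomial (Fin n) A)
      (MvPolynomial (Fin n) A'))).obj ((HomologicalComplex.single _ (ComplexShape.up ℤ) 0).obj
        (ModuleCat.of (MvPolynomial (Fin n) A) B)))) := by
  subst hπ
  rename Algebra (MvPolynomial (Fin n) A) B => iPB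
  letI := (pushPres (A' := A') (B' := B') (algebraMap (MvPolynomial (Fin n) A) B)).toAlgebra
  letI : Algebra (MvPolynomial (Fin n) A) B' := ((algebraMap B B').comp (algebraMap (MvPolynomial (Fin n) A) B)).toAlgebra
  haveI : IsScalarTower (MvPolynomial (Fin n) A) B B' := IsScalarTower.of_algebraMap_eq fun _ => rfl
  haveI : IsScalarTower (MvPolynomial (Fin n) A) (MvPolynomial (Fin n) A') B' :=
    IsScalarTower.of_algebraMap_eq fun p => (RingHom.congr_fun (pushPres_map hc) p).symm
  haveI : IsScalarTower A (MvPolynomial (Fin n) A) B :=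
    IsScalarTower.of_algebraMap_eq fun a => (RingHom.congr_fun hc a).symm
  haveI : IsScalarTower A (MvPolynomial (Fin n) A) B' :=
    IsScalarTower.of_algebraMap_eq fun a => by
      show _ = algebraMap B B' (algebraMap (MvPolynomial (Fin n) A) B (MvPolynomial.C a))
      rw [show algebraMap (MvPolynomial (Fin n) A) B (MvPolynomial.C a) = algebraMap A B a from RingHom.congr_fun hc a,
        ← IsScalarTower.algebraMap_apply]
  haveI : IsScalarTower A' (MvPolynomial (Fin n) A') B' :=
    IsScalarTower.of_algebraMap_eq fun a => (show _ = pushPres (A' := A') (B' := B') (algebraMap (MvPolynomial (Fin n) A) B) (MvPolynomial.C a) by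
      simp [pushPres])
  haveI : IsScalarTower A (MvPolynomial (Fin n) A) (MvPolynomial (Fin n) A') :=
    IsScalarTower.of_algebraMap_eq fun a => (MvPolynomial.map_C (algebraMap A A') a).symm
  haveI : IsScalarTower A (MvPolynomial (Fin n) A') B' :=
    IsScalarTower.of_algebraMap_eq fun a => by
      show _ = pushPres (A' := A') (B' := B') (algebraMap (MvPolynomial (Fin n) A) B) (MvPolynomial.C (algebraMap A A' a))
      simp [pushPres, ← IsScalarTower.algebraMap_apply]
  haveI : Algebra.IsPushout (MvPolynomial (Fin n) A) (MvPolynomial (Fin n) A') B B' :=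
    haveI : Algebra.IsPushout A B A' B' := .symm inferInstance
    Algebra.IsPushout.symm ((Algebra.IsPushout.comp_iff (R := A) (S := MvPolynomial (Fin n) A) (R' := A')
      (S' := MvPolynomial (Fin n) A') (T := B) (T' := B')).1 inferInstance)
  haveI : Module.Flat (MvPolynomial (Fin n) A) (MvPolynomial (Fin n) A') :=
    Module.Flat.isBaseChange A (MvPolynomial (Fin n) A) A' (MvPolynomial (Fin n) A')
      (Algebra.IsPushout.out (R := A) (S := MvPolynomial (Fin n) A) (R' := A') (S' := MvPolynomial (Fin n) A'))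
  exact h.of_iso (pushSingleIso (P := MvPolynomial (Fin n) A) (P' := MvPolynomial (Fin n) A') (B := B) (C := B')).symm

end Alg

/-- A module killed by a jointly surjective flat family vanishes. -/
lemma subsingleton_of_flat_cover {A : Type u} [CommRing A] {ι : Type} (B : ι → Type u) [∀ j, CommRing (B j)]
    [∀ j, Algebra A (B j)] [∀ j, Module.Flat A (B j)]
    (hs : ∀ p : PrimeSpectrum A, ∃ j, p ∈ Set.range (PrimeSpectrum.comap (algebraMap A (B j))))
    (M : Type u) [AddCommGroup M] [Module A M] (h : ∀ j, Subsingleton (B j ⊗[A] M)) : Subsingleton M := by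
  refine subsingleton_of_forall_eq 0 fun m => ?_
  by_contra hm
  let I : Ideal A := LinearMap.ker (LinearMap.toSpanSingleton A M m)
  have hI : I ≠ ⊤ := fun e => hm (by
    have : (1 : A) ∈ I := e ▸ trivial
    simpa [I] using this)
  obtain ⟨p, hp, hIp⟩ := Ideal.exists_le_maximal I hI
  obtain ⟨j, q, hq⟩ := hs ⟨p, hp.isPrime⟩
  let g : (A ⧸ I) →ₗ[A] M := Submodule.liftQ I (LinearMap.toSpanSingleton A M m) le_rfl
  have hg : Function.Injective g := LinearMap.ker_eq_bot.1 (Submodule.ker_liftQ_eq_bot _ _ _ le_rfl)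
  haveI := h j
  haveI : Subsingleton (B j ⊗[A] (A ⧸ I)) := (Module.Flat.lTensor_preserves_injective_linearMap (M := B j) g hg).subsingleton
  haveI : Subsingleton (B j ⧸ (I • ⊤ : Submodule A (B j))) :=
    (TensorProduct.tensorQuotEquivQuotSMul (B j) I).symm.toEquiv.subsingleton
  have h1 : (1 : B j) ∈ (I • ⊤ : Submodule A (B j)) := (Submodule.Quotient.mk_eq_zero _).1 (Subsingleton.elim _ _)
  refine q.2.ne_top ((Ideal.eq_top_iff_one _).2 ?_)
  refine Submodule.smul_induction_on h1 (fun r hr b _ => ?_) (fun a b ha hb => q.asIdeal.add_mem ha hb)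
  rw [Algebra.smul_def]
  refine q.asIdeal.mul_mem_right _ ?_
  have hr' : r ∈ (PrimeSpectrum.comap (algebraMap A (B j)) q).asIdeal := by rw [hq]; exact hIp hr
  exact hr'

attribute [local instance] MvPolynomial.algebraMvPolynomial in
/-- Jointly surjective flat families stay covers after adding variables. -/
lemma isCover_poly {A : Type u} [CommRing A] {ι : Type} [Finite ι] (B : ι → Type u) [∀ j, CommRing (B j)]
    [∀ j, Algebra A (B j)] [∀ j, Module.Flat A (B j)]
    (hs : ∀ p : PrimeSpectrum A, ∃ j, p ∈ Set.range (PrimeSpectrum.comap (algebraMap A (B j)))) (k : ℕ) :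
    IsCover (A := MvPolynomial (Fin k) A) (fun j => MvPolynomial (Fin k) (B j)) := by
  have hz : ∀ (M : Type u) [AddCommGroup M] [Module (MvPolynomial (Fin k) A) M],
      (∀ j, Subsingleton (MvPolynomial (Fin k) (B j) ⊗[MvPolynomial (Fin k) A] M)) → Subsingleton M := by
    intro M _ _ h
    letI : Module A M := Module.compHom M (MvPolynomial.C (σ := Fin k) (R := A))
    haveI : IsScalarTower A (MvPolynomial (Fin k) A) M := IsScalarTower.of_algebraMap_smul fun _ _ => rfl
    refine subsingleton_of_flat_cover B hs M fun j => ?_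
    haveI := h j
    exact (Algebra.IsPushout.cancelBaseChange A (B j) (MvPolynomial (Fin k) A) (MvPolynomial (Fin k) (B j)) M).symm.toEquiv.subsingleton
  refine ⟨fun M _ _ h => ?_, fun M _ _ h => hz M h⟩
  classical
  choose S hS using fun j => (h j).fg_top
  choose T hT using fun j => TensorProduct.exists_finset (R := MvPolynomial (Fin k) A)
    (M := MvPolynomial (Fin k) (B j)) (N := M)
  haveI := Fintype.ofFinite ι
  let N : Submodule (MvPolynomial (Fin k) A) M :=
    Submodule.span _ (⋃ j, ⋃ x ∈ S j, Prod.snd '' (T j x : Set (MvPolynomial (Fin k) (B j) × M)))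
  have hN : N.FG := Submodule.fg_span (Set.finite_iUnion fun j => (S j).finite_toSet.biUnion fun x _ => (T j x).finite_toSet.image _)
  suffices N = ⊤ from ⟨this ▸ hN⟩
  rw [← Submodule.Quotient.subsingleton_iff]
  refine hz _ fun j => subsingleton_of_forall_eq 0 fun y => ?_
  let l := N.mkQ.baseChange (MvPolynomial (Fin k) (B j))
  have hl : Function.Surjective l := LinearMap.lTensor_surjective _ N.mkQ_surjective
  obtain ⟨y, rfl⟩ := hl y
  have hy : y ∈ LinearMap.ker l := by
    have hle : Submodule.span (MvPolynomial (Fin k) (B j)) (S j : Set _) ≤ LinearMap.ker l := by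
      rw [Submodule.span_le]
      intro x hx
      rw [SetLike.mem_coe, LinearMap.mem_ker, hT j x, map_sum]
      refine Finset.sum_eq_zero fun i hi => ?_
      rw [LinearMap.baseChange_tmul, show N.mkQ i.2 = 0 from (Submodule.Quotient.mk_eq_zero N).2
        (Submodule.subset_span (Set.mem_iUnion.2 ⟨j, Set.mem_iUnion₂.2 ⟨x, hx, i, hi, rfl⟩⟩)), TensorProduct.tmul_zero]
    exact hle (by rw [hS j]; trivial)
  exact hy

attribute [local instance] MvPolynomial.algebraMvPolynomial in
/-- Descent along flat, surjective, quasi-compact maps. -/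
theorem isNPC_descent {X Y Y' : Scheme.{u}} (f : X ⟶ Y) [LocallyOfFiniteType f] (h : Y' ⟶ Y) [Flat h] [Surjective h]
    [QuasiCompact h] (n : ℤ) (hf' : DerSch.IsNPseudoCoherent (pullback.snd f h) n) :
    DerSch.IsNPseudoCoherent f n := by
  let q := pullback.snd f h
  let p := pullback.fst f h
  refine isRel_of_local fun x => ?_
  obtain ⟨V, hV, hxV, -⟩ := exists_isAffineOpen_mem_and_subset (x := f x) (U := ⊤) trivial
  obtain ⟨U, hU, hxU, hUV⟩ := exists_isAffineOpen_mem_and_subset (x := x) (U := f ⁻¹ᵁ V) hxV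
  have hcpt : IsCompact ((h ⁻¹ᵁ V : Y'.Opens) : Set Y') := h.isCompact_preimage hV.isCompact
  obtain ⟨s, hsfin, hs⟩ := (isCompact_iff_finite_and_eq_biUnion_affineOpens).1 hcpt
  haveI : Finite s := hsfin.to_subtype
  obtain ⟨r, ⟨eι⟩⟩ := Finite.exists_equiv_fin s
  let V' : Fin r → Y'.affineOpens := fun j => (eι.symm j).1
  have hle : ∀ j, (V' j : Y'.Opens) ≤ h ⁻¹ᵁ V := fun j => by
    rw [hs]
    exact le_iSup₂ (f := fun (i : Y'.affineOpens) (_ : i ∈ s) => (i : Y'.Opens)) _ (eι.symm j).2
  letI := (f.appLE V U hUV).hom.toAlgebra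
  letI (j : Fin r) : Algebra Γ(Y, V) Γ(Y', (V' j : Y'.Opens)) := (h.appLE V (V' j) (hle j)).hom.toAlgebra
  haveI (j : Fin r) : Module.Flat Γ(Y, V) Γ(Y', (V' j : Y'.Opens)) :=
    HasRingHomProperty.appLE @Flat h inferInstance ⟨V, hV⟩ (V' j) (hle j)
  have hsur : ∀ 𝔭 : PrimeSpectrum Γ(Y, V), ∃ j, 𝔭 ∈ Set.range (PrimeSpectrum.comap
      (algebraMap Γ(Y, V) Γ(Y', (V' j : Y'.Opens)))) := fun 𝔭 => by
    obtain ⟨y, hy⟩ := h.surjective (hV.fromSpec 𝔭)
    have hyV : y ∈ ((h ⁻¹ᵁ V : Y'.Opens) : Set Y') := show h y ∈ V from hy ▸ hV.range_fromSpec.le ⟨𝔭, rfl⟩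
    rw [hs] at hyV
    simp only [SetLike.mem_coe, Opens.mem_iSup] at hyV
    obtain ⟨i, hi, hyi⟩ := hyV
    obtain ⟨j, hj⟩ : ∃ j, V' j = i := ⟨eι ⟨i, hi⟩, by simp [V']⟩
    subst hj
    refine ⟨j, (V' j).2.primeIdealOf ⟨y, hyi⟩, hV.fromSpec.isOpenEmbedding.injective ?_⟩
    rw [← hy]
    refine Eq.trans ?_ (congrArg h ((V' j).2.fromSpec_primeIdealOf ⟨y, hyi⟩))
    exact (Scheme.Hom.comp_apply _ _ _).symm.trans
      ((congrArg (fun t : Spec _ ⟶ Y => t ((V' j).2.primeIdealOf ⟨y, hyi⟩))
        (IsAffineOpen.SpecMap_appLE_fromSpec h hV (V' j).2 (hle j))).trans (Scheme.Hom.comp_apply _ _ _))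
  obtain ⟨k, φ, hφ⟩ := exists_chart f ⟨U, hU⟩ ⟨V, hV⟩ hUV
  have hc : φ.comp MvPolynomial.C = algebraMap Γ(Y, V) Γ(X, U) := hφ.2
  letI := φ.toAlgebra
  refine ⟨⟨U, hU⟩, ⟨V, hV⟩, hUV, hxU, k, φ, hφ, (chartPC_unit_iff hU hφ n).2 ?_⟩
  refine NPC_single_congr selfRestrictIso.symm ?_
  refine NPC.of_iso ?_ (PCohLib.singleQIso 0 (ModuleCat.of (MvPolynomial (Fin k) Γ(Y, V)) Γ(X, U)))
  haveI (j : Fin r) : Module.Flat (MvPolynomial (Fin k) Γ(Y, V)) (MvPolynomial (Fin k) Γ(Y', (V' j : Y'.Opens))) :=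
    Module.Flat.isBaseChange Γ(Y, V) (MvPolynomial (Fin k) Γ(Y, V)) Γ(Y', (V' j : Y'.Opens))
      (MvPolynomial (Fin k) Γ(Y', (V' j : Y'.Opens)))
      (Algebra.IsPushout.out (R := Γ(Y, V)) (S := MvPolynomial (Fin k) Γ(Y, V)) (R' := Γ(Y', (V' j : Y'.Opens)))
        (S' := MvPolynomial (Fin k) Γ(Y', (V' j : Y'.Opens))))
  refine NPC_of_cover' (isCover_poly (fun j => Γ(Y', (V' j : Y'.Opens))) hsur k) _ fun j => ?_
  have hpb : IsPullback p q f h := IsPullback.of_hasPullback f h
  let U' := p ⁻¹ᵁ U ⊓ q ⁻¹ᵁ (V' j : Y'.Opens)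
  have hU' : IsAffineOpen U' := by
    have : IsAffine V := hV
    have : IsAffine U := hU
    have : IsAffine (V' j : Y'.Opens) := (V' j).2
    exact .of_isIso (Scheme.Hom.isPullback_resLE hpb (hle j) hUV rfl).isoPullback.hom
  have hpush : CategoryTheory.IsPushout (f.appLE V U hUV) (h.appLE V (V' j) (hle j))
      (p.appLE U U' inf_le_left) (q.appLE (V' j) U' inf_le_right) :=
    (isIso_pushoutSection_iff hpb (hle j) hUV rfl).1
      (isIso_pushoutSection_of_isAffineOpen hpb (hle j) hUV rfl hV (V' j).2 hU)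
  letI := (p.appLE U U' inf_le_left).hom.toAlgebra
  letI := (q.appLE (V' j) U' inf_le_right).hom.toAlgebra
  letI : Algebra Γ(Y, V) Γ(pullback f h, U') :=
    ((q.appLE (V' j) U' inf_le_right).hom.comp (h.appLE V (V' j) (hle j)).hom).toAlgebra
  haveI : IsScalarTower Γ(Y, V) Γ(Y', (V' j : Y'.Opens)) Γ(pullback f h, U') := IsScalarTower.of_algebraMap_eq' rfl
  haveI : IsScalarTower Γ(Y, V) Γ(X, U) Γ(pullback f h, U') :=
    IsScalarTower.of_algebraMap_eq' (congrArg CommRingCat.Hom.hom hpush.w).symm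
  haveI : Algebra.IsPushout Γ(Y, V) Γ(Y', (V' j : Y'.Opens)) Γ(X, U) Γ(pullback f h, U') :=
    CommRingCat.isPushout_iff_isPushout.1 hpush.flip
  let φ' := pushPres (A' := Γ(Y', (V' j : Y'.Opens))) (B' := Γ(pullback f h, U')) φ
  have hφ' : DerSch.IsChart q U' (V' j) inf_le_right φ' :=
    ⟨pushPres_surjective hφ.1 hc, RingHom.ext fun a => by
      show φ' (MvPolynomial.C a) = _
      simp only [φ', pushPres, MvPolynomial.eval₂Hom_C]
      rfl⟩
  exact npc_extend_of_pushPres hc n rfl
    ((chartPC_unit_iff hU' hφ' n).1 (chartPC_of_isRel hf' hU' (V' j).2 hφ'))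

end Groth.Agent.RelPC
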