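import Groth.Agent.RelPC.Chart
import Groth.Agent.QCohLib.Coherent
import Groth.Agent.QCohLib.Criterion
import Mathlib.AlgebraicGeometry.Morphisms.FinitePresentation

/-!
`(-1)`-pseudo-coherent morphisms are the morphisms locally of finite presentation.
-/

set_option autoImplicit false
set_option linter.style.haveILetI false

universe u

open CategoryTheory CategoryTheory.Limits AlgebraicGeometry TopologicalSpace

attribute [local instance] HasDerivedCategory.standard

namespace Groth.Agent.RelPC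

variable {X Y : Scheme.{u}}

lemma isFP_chart_iff {f : X ⟶ Y} {U : X.Opens} {V : Y.Opens} {h : U ≤ f ⁻¹ᵁ V} {n : ℕ}
    {φ : MvPolynomial (Fin n) Γ(Y, V) →+* Γ(X, U)} (hU : IsAffineOpen U) (hφ : DerSch.IsChart f U V h φ)
    [IsClosedImmersion (DerSch.chartImm U φ)] :
    CohB1.IsFP ((chartF U (DerSch.chartImm U φ)).obj (Coh.structureModule X)) ↔ (RingHom.ker φ).FG := by
  let R := CommRingCat.of (MvPolynomial (Fin n) Γ(Y, V))
  let c : (U : Scheme.{u}) ⟶ Spec R := DerSch.chartImm U φ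
  haveI : IsAffine (U : Scheme.{u}) := hU
  haveI : (Coh.structureModule (U : Scheme.{u})).IsQuasicoherent :=
    (QCohLib.isCoh_of_isFP (DCohPerf.isFP_of_iso (coproductUniqueIso fun _ : Fin 1 => Coh.structureModule (U : Scheme.{u}))
      (DCohPerf.isFP_free 1))).1
  let N := (Scheme.Modules.pushforward c).obj (Coh.structureModule (U : Scheme.{u}))
  haveI : N.IsQuasicoherent := QCohLib.isQuasicoherent_pushforward c
  let e : (chartF U c).obj (Coh.structureModule X) ≅ N :=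
    (Scheme.Modules.pushforward c).mapIso (Scheme.Modules.restrictUnitIso U.ι)
  have hψ : ∀ r : R, c.appTop ((Scheme.ΓSpecIso R).inv r) = U.topIso.inv (φ r) := by
    have hc : c.appTop = (Spec.map (CommRingCat.ofHom φ)).appTop ≫ U.toSpecΓ.appTop := Scheme.Hom.comp_appTop _ _
    have hh : (Scheme.ΓSpecIso R).inv ≫ c.appTop = CommRingCat.ofHom φ ≫ U.topIso.inv := by
      rw [hc, ← Scheme.ΓSpecIso_inv_naturality_assoc, Scheme.Opens.toSpecΓ_appTop]
      exact congrArg (CommRingCat.ofHom φ ≫ ·) (Iso.inv_hom_id_assoc (Scheme.ΓSpecIso Γ(X, U)) U.topIso.inv)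
    exact fun r => ConcreteCategory.congr_hom hh r
  let one : QCohLib.ΓR N := (1 : Γ((U : Scheme.{u}), ⊤))
  let l : R →ₗ[R] QCohLib.ΓR N := LinearMap.toSpanSingleton R (QCohLib.ΓR N) one
  have hl : ∀ r : R, (show Γ((U : Scheme.{u}), ⊤) from l r) = U.topIso.inv (φ r) := fun r => by
    rw [← hψ r]
    change (show Γ((U : Scheme.{u}), ⊤) from r • one) = _
    refine (Scheme.Modules.smul_Spec_def r one).trans ?_
    rw [show (⊤ : (Spec R).Opens).leTop.op = 𝟙 _ from rfl, CategoryTheory.Functor.map_id]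
    exact mul_one (M := Γ((U : Scheme.{u}), ⊤)) _
  have hsurj : Function.Surjective l := fun y => by
    obtain ⟨r, hr⟩ := hφ.1 (U.topIso.hom (show Γ((U : Scheme.{u}), ⊤) from y))
    exact ⟨r, (hl r).trans (by rw [hr]; exact Iso.hom_inv_id_apply U.topIso _)⟩
  have hker : LinearMap.ker l = RingHom.ker φ := by
    ext r
    refine LinearMap.mem_ker.trans ?_
    rw [RingHom.mem_ker]
    refine ⟨fun h => ?_, fun h => (hl r).trans (by rw [h]; exact map_zero U.topIso.inv.hom)⟩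
    have h' := congrArg U.topIso.hom ((hl r).symm.trans h)
    exact (Iso.inv_hom_id_apply U.topIso _).symm.trans (h'.trans (map_zero U.topIso.hom.hom))
  refine ⟨fun hFP => ?_, fun hFG => ?_⟩
  · have := QCohLib.isFinitePresentation_iff_Spec.1 (DCohPerf.isFP_of_iso e hFP)
    exact hker ▸ Module.FinitePresentation.fg_ker l hsurj
  · exact DCohPerf.isFP_of_iso e.symm (QCohLib.isFinitePresentation_iff_Spec.2
      (Module.finitePresentation_of_surjective l hsurj (hker.symm ▸ hFG)))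

theorem exists_chart (f : X ⟶ Y) [LocallyOfFiniteType f] (U : X.affineOpens) (V : Y.affineOpens)
    (h : U.1 ≤ f ⁻¹ᵁ V.1) :
    ∃ (n : ℕ) (φ : MvPolynomial (Fin n) Γ(Y, V.1) →+* Γ(X, U.1)), DerSch.IsChart f U.1 V.1 h φ := by
  have hft := f.finiteType_appLE V.2 U.2 h
  algebraize [(f.appLE V.1 U.1 h).hom]
  obtain ⟨n, g, hg⟩ := Algebra.FiniteType.iff_quotient_mvPolynomial''.1 hft
  exact ⟨n, g.toRingHom, hg, g.comp_algebraMap⟩

theorem isPseudoCoherentRel_of_forall (f : X ⟶ Y) [LocallyOfFiniteType f] (m : ℤ) (K : DCoh.D X)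
    (H : ∀ (U : X.affineOpens) (V : Y.affineOpens) (h : U.1 ≤ f ⁻¹ᵁ V.1),
      ∃ (n : ℕ) (φ : MvPolynomial (Fin n) Γ(Y, V.1) →+* Γ(X, U.1)),
        DerSch.IsChart f U.1 V.1 h φ ∧ DerSch.ChartPC m K U.1 V.1 φ) :
    DerSch.IsPseudoCoherentRel f m K := by
  refine ⟨inferInstance, Set.univ, ?_, fun V _ => ⟨{U | U.1 ≤ f ⁻¹ᵁ V.1}, ?_, fun U _ h => H U V h⟩⟩
  · simp only [Set.mem_univ, iSup_pos]
    exact iSup_affineOpens_eq_top Y
  · refine le_antisymm (iSup₂_le fun U hU => hU) fun x hx => ?_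
    obtain ⟨U, hU, hxU, hle⟩ := Opens.isBasis_iff_nbhd.mp X.isBasis_affineOpens hx
    exact Opens.mem_iSup.2 ⟨⟨U, hU⟩, Opens.mem_iSup.2 ⟨hle, hxU⟩⟩

theorem isPseudoCoherentRel_of_isZero (f : X ⟶ Y) [LocallyOfFiniteType f] (m : ℤ) (M : X.Modules) (hm : 0 < m) :
    DerSch.IsPseudoCoherentRel f m (DCoh.inD X M) := by
  refine isPseudoCoherentRel_of_forall f m _ fun U V h => ?_
  obtain ⟨n, φ, hφ⟩ := exists_chart f U V h
  haveI := isClosedImmersion_chartImm U.2 hφ
  exact ⟨n, φ, hφ, (chartPC_iff m _ _ _ φ).2 (DCohPerf.isPC_of_iso (DCohPerf.isPC_of_isZero m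
    fun i hi => DCohPerf.isZero_HD_inD _ i (by omega)) (chartDInD _ _ M).symm)⟩

theorem isNPseudoCoherent_negOne_iff (f : X ⟶ Y) [LocallyOfFiniteType f] :
    DerSch.IsNPseudoCoherent f (-1) ↔ LocallyOfFinitePresentation f := by
  constructor
  · rintro ⟨-, 𝒱, h𝒱, hch⟩
    refine (HasRingHomProperty.iff_exists_appLE (P := @LocallyOfFinitePresentation)
      (RingHom.finitePresentation_stableUnderComposition.stableUnderCompositionWithLocalizationAway
        RingHom.finitePresentation_holdsForLocalizationAway).left).2 fun x => ?_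
    have hx : f.base x ∈ (⨆ V ∈ 𝒱, (V : Y.Opens)) := h𝒱.symm ▸ trivial
    simp only [Opens.mem_iSup] at hx
    obtain ⟨V, hV, hxV⟩ := hx
    obtain ⟨𝒰, h𝒰, hU⟩ := hch V hV
    have hx' : x ∈ (⨆ U ∈ 𝒰, (U : X.Opens)) := h𝒰.symm ▸ hxV
    simp only [Opens.mem_iSup] at hx'
    obtain ⟨U, hUm, hxU⟩ := hx'
    have hle : (U : X.Opens) ≤ f ⁻¹ᵁ (V : Y.Opens) :=
      h𝒰 ▸ le_iSup₂ (f := fun (U : X.affineOpens) _ => (U : X.Opens)) U hUm
    obtain ⟨n, φ, hφ, hPC⟩ := hU U hUm hle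
    haveI := isClosedImmersion_chartImm U.2 hφ
    have hk := (isFP_chart_iff U.2 hφ).1 ((DCohPerf.isPC_negOne_iff _).1
      (DCohPerf.isPC_of_iso ((chartPC_iff _ _ _ _ φ).1 hPC) (chartDInD _ _ _)))
    refine ⟨V, U, hxU, hle, ?_⟩
    algebraize [(f.appLE (V : Y.Opens) (U : X.Opens) hle).hom]
    let g : MvPolynomial (Fin n) Γ(Y, (V : Y.Opens)) →ₐ[Γ(Y, (V : Y.Opens))] Γ(X, (U : X.Opens)) :=
      { φ with commutes' := fun r => RingHom.congr_fun hφ.2 r }
    exact Algebra.FinitePresentation.of_surjective (f := g) hφ.1 hk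
  · intro hf
    refine isPseudoCoherentRel_of_forall f _ _ fun U V h => ?_
    obtain ⟨n, φ, hφ⟩ := exists_chart f U V h
    haveI := isClosedImmersion_chartImm U.2 hφ
    refine ⟨n, φ, hφ, (chartPC_iff _ _ _ _ φ).2 (DCohPerf.isPC_of_iso ((DCohPerf.isPC_negOne_iff _).2
      ((isFP_chart_iff U.2 hφ).2 ?_)) (chartDInD _ _ _).symm)⟩
    have hfp : (f.appLE V.1 U.1 h).hom.FinitePresentation :=
      HasRingHomProperty.appLE @LocallyOfFinitePresentation f hf V U h
    algebraize [(f.appLE V.1 U.1 h).hom]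
    let g : MvPolynomial (Fin n) Γ(Y, V.1) →ₐ[Γ(Y, V.1)] Γ(X, U.1) :=
      { φ with commutes' := fun r => RingHom.congr_fun hφ.2 r }
    haveI : Algebra.FinitePresentation Γ(Y, V.1) Γ(X, U.1) := hfp
    exact Algebra.FinitePresentation.ker_fg_of_mvPolynomial g hφ.1

end Groth.Agent.RelPC
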