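import Groth.Agent.RelPC.BoundAbove
import Groth.Agent.QCohLib.Pullback
import Groth.Agent.S7240

/-!
Cohomology sheaves of relatively pseudo-coherent objects are quasi-coherent.
-/

set_option autoImplicit false
set_option linter.style.haveILetI false

universe u

open CategoryTheory CategoryTheory.Limits AlgebraicGeometry TopologicalSpace

attribute [local instance] HasDerivedCategory.standard

namespace Groth.Agent.RelPC

variable {X Y : Scheme.{u}}

/-- A module whose direct image along a closed immersion is quasi-coherent on `W` is so over `W`. -/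
lemma isQCoh_restrict_of_push {U P : Scheme.{u}} (c : U ⟶ P) [IsClosedImmersion c] (M : U.Modules) (W : P.Opens)
    (h : ((DCohPerf.rF W.ι).obj ((Scheme.Modules.pushforward c).obj M)).IsQuasicoherent) :
    ((DCohPerf.rF (c ⁻¹ᵁ W).ι).obj M).IsQuasicoherent := by
  haveI := h
  haveI := ClosedExt.isIso_counit c M
  let e := asIso ((Scheme.Modules.pullbackPushforwardAdjunction c).counit.app M)
  exact @QCohLib.isQuasicoherent_of_iso _ _ _
    (QCohLib.pullbackRestrictIso c ((Scheme.Modules.pushforward c).obj M) (c ∣_ W) _ _ (morphismRestrict_ι c W) ≪≫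
      (DCohPerf.rF (c ⁻¹ᵁ W).ι).mapIso e)
    (QCohLib.isQuasicoherent_pullback (c ∣_ W) ((DCohPerf.rF W.ι).obj ((Scheme.Modules.pushforward c).obj M)))

theorem isQCoh_HD (f : X ⟶ Y) (n : ℤ) (K : DCoh.D X) (hK : DerSch.IsPseudoCoherentRel f n K) (i : ℤ) (hi : n < i) :
    Coh.IsQCoh (DCoh.HD K i) := by
  obtain ⟨-, 𝒱, h𝒱, hch⟩ := hK
  let G := DerivedCategory.Q.objPreimage K
  let eG : DCoh.toD X G ≅ K := DerivedCategory.Q.objObjPreimageIso K
  have key : ∀ x : X, ∃ (T : Scheme.{u}) (j : T ⟶ X) (_ : IsOpenImmersion j), x ∈ j.opensRange ∧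
      ((DCohPerf.rF j).obj (DCoh.HD K i)).IsQuasicoherent := fun x => by
    have hx : f.base x ∈ (⨆ V ∈ 𝒱, (V : Y.Opens)) := h𝒱.symm ▸ trivial
    simp only [Opens.mem_iSup] at hx
    obtain ⟨V, hV, hxV⟩ := hx
    obtain ⟨𝒰, h𝒰, hU⟩ := hch V hV
    have hx' : x ∈ (⨆ U ∈ 𝒰, (U : X.Opens)) := h𝒰.symm ▸ hxV
    simp only [Opens.mem_iSup] at hx'
    obtain ⟨U, hUm, hxU⟩ := hx'
    have hle : (U : X.Opens) ≤ f ⁻¹ᵁ (V : Y.Opens) := h𝒰 ▸ le_iSup₂ (f := fun (U : X.affineOpens) _ => (U : X.Opens)) U hUm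
    obtain ⟨m, φ, hφ, hPC⟩ := hU U hUm hle
    let c := DerSch.chartImm (U : X.Opens) φ
    haveI : IsClosedImmersion c := isClosedImmersion_chartImm U.2 hφ
    obtain ⟨W, hyW, hW⟩ := hPC G ⟨eG⟩ (c.base ⟨x, hxU⟩)
    obtain ⟨E, α, hE, hiso, -⟩ := hW _ ⟨Iso.refl _⟩
    haveI := hiso i hi
    let Fc : X.Modules ⥤ ((W : Scheme.{u})).Modules :=
      DCohPerf.rF (U : X.Opens).ι ⋙ Scheme.Modules.pushforward c ⋙ DCohPerf.rF W.ι
    haveI : (Scheme.Modules.pushforward c).Additive := ClosedExt.push_additive c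
    haveI : (Scheme.Modules.pushforward c).PreservesHomology := ClosedExt.push_preservesHomology c
    haveI : PreservesFiniteLimits (Scheme.Modules.pushforward c) :=
      Functor.preservesFiniteLimits_of_preservesHomology _
    haveI : PreservesFiniteColimits (Scheme.Modules.pushforward c) :=
      Functor.preservesFiniteColimits_of_preservesHomology _
    haveI : Fc.PreservesHomology := by
      have h := Fc.exact_tfae.out 3 2
      exact h.1 ⟨inferInstance, inferInstance⟩
    have hqF : (Fc.obj (G.homology i)).IsQuasicoherent := @QCohLib.isQuasicoherent_of_iso _ _ _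
      ((DerivedCategory.homologyFunctorFactors _ i).symm.app E ≪≫
        asIso ((DerivedCategory.homologyFunctor _ i).map α) ≪≫
        (DerivedCategory.homologyFunctorFactors _ i).app _ ≪≫ (G.sc i).mapHomologyIso Fc)
      (S7240.qcoh_homology hE i)
    have hqT := isQCoh_restrict_of_push c _ W hqF
    refine ⟨_, (c ⁻¹ᵁ W).ι ≫ (U : X.Opens).ι, inferInstance, ⟨⟨⟨x, hxU⟩, hyW⟩, rfl⟩, ?_⟩
    exact @QCohLib.isQuasicoherent_of_iso _ _ _
      (((DCohPerf.rFComp (c ⁻¹ᵁ W).ι (U : X.Opens).ι).symm.app _) ≪≫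
        (DCohPerf.rF ((c ⁻¹ᵁ W).ι ≫ (U : X.Opens).ι)).mapIso
          (((DerivedCategory.homologyFunctorFactors X.Modules i).app G).symm ≪≫
            (DerivedCategory.homologyFunctor X.Modules i).mapIso eG)) hqT
  choose T j hj hx hq using key
  haveI := hj
  exact QCohLib.isQuasicoherent_of_cover j (fun x => ⟨x, hx x⟩) hq

end Groth.Agent.RelPC
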