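import Groth.Agent.RelPC.FP
import Groth.Agent.RelPC.QCoh
import Groth.Agent.HigherDirect.QCohGlobal
import Groth.Agent.RelFPLib.Pullback
import Groth.Agent.DCohPerf.FreeLocal

/-!
Degree zero relative pseudo-coherence of a module.
-/

set_option autoImplicit false
set_option linter.style.haveILetI false

universe u

open CategoryTheory CategoryTheory.Limits AlgebraicGeometry TopologicalSpace Opposite

attribute [local instance] HasDerivedCategory.standard

namespace Groth.Agent.RelPC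

variable {X Y : Scheme.{u}}

/-- A finite free cover pushes forward along a closed immersion. -/
lemma isFT_push_of_generators {A P : Scheme.{u}} (c : A ⟶ P) [IsClosedImmersion c] {M : A.Modules}
    (σ : M.GeneratingSections) (hσ : σ.IsFiniteType) : CohB1.IsFT ((Scheme.Modules.pushforward c).obj M) := by
  let F := SheafOfModules.free (R := P.ringCatSheaf) σ.I
  let adj := Scheme.Modules.pullbackPushforwardAdjunction c
  have hu : Epi (adj.unit.app F) := (QCohLib.epi_iff_stalk_surjective _).2 fun y => by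
    by_cases hy : y ∈ Set.range c.base
    · obtain ⟨x, rfl⟩ := hy
      exact ClosedExt.surjective_stalk_unit c x F
    · haveI := ModuleCat.subsingleton_of_isZero (ModGroth.PushStalk.isZero_stalk_push c c.isClosedEmbedding.isClosed_range hy
        ((Scheme.Modules.pullback c).obj F))
      exact fun b => ⟨0, Subsingleton.elim (α := (DerSch.stalkFunctor P y).obj
        ((Scheme.Modules.pushforward c).obj ((Scheme.Modules.pullback c).obj F))) _ _⟩
  haveI : (Scheme.Modules.pushforward c).Additive := ClosedExt.push_additive c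
  haveI : (Scheme.Modules.pushforward c).PreservesHomology := ClosedExt.push_preservesHomology c
  haveI : PreservesFiniteColimits (Scheme.Modules.pushforward c) :=
    Functor.preservesFiniteColimits_of_preservesHomology _
  have hq : Epi ((QCohLib.pullbackFreeIso c σ.I).hom ≫ σ.π) :=
    @epi_comp _ _ _ _ _ _ inferInstance _ σ.epi
  haveI := hq
  haveI : Epi ((Scheme.Modules.pushforward c).map ((QCohLib.pullbackFreeIso c σ.I).hom ≫ σ.π)) :=
    inferInstance
  let p : F ⟶ (Scheme.Modules.pushforward c).obj M :=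
    adj.unit.app F ≫ (Scheme.Modules.pushforward c).map ((QCohLib.pullbackFreeIso c σ.I).hom ≫ σ.π)
  haveI : Finite σ.I := hσ.finite
  haveI : Epi p := @epi_comp _ _ _ _ _ _ hu _ inferInstance
  exact DCohPerf.isFT_of_epi p (DCohPerf.isFT_of_epi (DCohPerf.freeFinIso P σ.I).inv
    (QCohLib.isCoh_of_isFP (DCohPerf.isFP_free _)).2)

/-- Restriction preserves finite type. -/
lemma isFT_rF {U : Scheme.{u}} (j : U ⟶ X) [IsOpenImmersion j] {M : X.Modules} (h : CohB1.IsFT M) :
    CohB1.IsFT ((DCohPerf.rF j).obj M) :=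
  DCohPerf.isFT_of_epi ((Scheme.Modules.restrictFunctorIsoPullback j).app M).inv (QCohLib.isFiniteType_pullback j _ h)

lemma isFT_push {U P : Scheme.{u}} (c : U ⟶ P) [IsClosedImmersion c] {M : U.Modules} (hM : CohB1.IsFT M) :
    CohB1.IsFT ((Scheme.Modules.pushforward c).obj M) := by
  obtain ⟨ι, A, σ, hA, hσ⟩ := QCohLib.exists_cover_generatingSections hM
  refine DCohPerf.isFT_local fun y => ?_
  by_cases hy : y ∈ Set.range c.base
  · obtain ⟨x, rfl⟩ := hy
    obtain ⟨i, hi⟩ := hA x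
    obtain ⟨O, hO, hOe⟩ := c.isClosedEmbedding.isInducing.isOpen_iff.1 (A i).isOpen
    let W : P.Opens := ⟨O, hO⟩
    have hWA : c ⁻¹ᵁ W = A i := Opens.ext hOe
    have hxW : c.base x ∈ W := show x ∈ c.base ⁻¹' O by rw [hOe]; exact hi
    refine ⟨(W : Scheme.{u}), W.ι, inferInstance, ⟨c.base x, hxW⟩, rfl, ?_⟩
    obtain ⟨e⟩ := HigherDirect.nonempty_push_restrict_iso c W
    haveI : IsClosedImmersion (c ∣_ W) := IsZariskiLocalAtTarget.restrict ‹_› W
    have h : CohB1.IsFT ((Scheme.Modules.pushforward (c ∣_ W)).obj ((DCohPerf.rF (c ⁻¹ᵁ W).ι).obj M)) := by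
      obtain ⟨σ', hσ'⟩ : ∃ σ' : ((DCohPerf.rF (c ⁻¹ᵁ W).ι).obj M).GeneratingSections, σ'.IsFiniteType :=
        hWA.symm ▸ ⟨σ i, hσ i⟩
      exact isFT_push_of_generators _ σ' hσ'
    exact DCohPerf.isFT_of_epi (e.app M).inv h
  · let W : P.Opens := ⟨(Set.range c.base)ᶜ, c.isClosedEmbedding.isClosed_range.isOpen_compl⟩
    refine ⟨(W : Scheme.{u}), W.ι, inferInstance, ⟨y, hy⟩, rfl, (QCohLib.isCoh_of_isZero ?_).2⟩
    refine QCohLib.isZero_restrict_of_subsingleton_stalk _ fun p => ?_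
    exact ModuleCat.subsingleton_of_isZero
      (ModGroth.PushStalk.isZero_stalk_push c c.isClosedEmbedding.isClosed_range p.2 M)

lemma isFT_of_push {U P : Scheme.{u}} (c : U ⟶ P) [IsClosedImmersion c] {M : U.Modules}
    (hM : CohB1.IsFT ((Scheme.Modules.pushforward c).obj M)) : CohB1.IsFT M := by
  haveI := ClosedExt.isIso_counit c M
  exact DCohPerf.isFT_of_epi ((Scheme.Modules.pullbackPushforwardAdjunction c).counit.app M)
    (QCohLib.isFiniteType_pullback c _ hM)

theorem isPseudoCoherentRel_zero_iff (f : X ⟶ Y) [LocallyOfFiniteType f] (M : X.Modules) :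
    DerSch.IsPseudoCoherentRel f 0 (DCoh.inD X M) ↔ CohB1.IsFT M := by
  constructor
  · rintro ⟨-, 𝒱, h𝒱, hch⟩
    refine DCohPerf.isFT_local fun x => ?_
    have hx : f.base x ∈ (⨆ V ∈ 𝒱, (V : Y.Opens)) := h𝒱.symm ▸ trivial
    simp only [Opens.mem_iSup] at hx
    obtain ⟨V, hV, hxV⟩ := hx
    obtain ⟨𝒰, h𝒰, hU⟩ := hch V hV
    have hx' : x ∈ (⨆ U ∈ 𝒰, (U : X.Opens)) := h𝒰.symm ▸ hxV
    simp only [Opens.mem_iSup] at hx'
    obtain ⟨U, hUm, hxU⟩ := hx'
    have hle : (U : X.Opens) ≤ f ⁻¹ᵁ (V : Y.Opens) :=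
      h𝒰 ▸ le_iSup₂ (f := fun (U : X.affineOpens) _ => (U : X.Opens)) U hUm
    obtain ⟨n, φ, hφ, hPC⟩ := hU U hUm hle
    haveI := isClosedImmersion_chartImm U.2 hφ
    exact ⟨_, (U : X.Opens).ι, inferInstance, ⟨x, hxU⟩, rfl, isFT_of_push _ ((DCohPerf.isPC_zero_iff _).1
      (DCohPerf.isPC_of_iso ((chartPC_iff _ _ _ _ φ).1 hPC) (chartDInD _ _ _)))⟩
  · intro hM
    refine isPseudoCoherentRel_of_forall f _ _ fun U V h => ?_
    obtain ⟨n, φ, hφ⟩ := exists_chart f U V h
    haveI := isClosedImmersion_chartImm U.2 hφ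
    have h1 : CohB1.IsFT ((chartF U.1 (DerSch.chartImm U.1 φ)).obj M) :=
      isFT_push (DerSch.chartImm U.1 φ) (M := (DCohPerf.rF U.1.ι).obj M) (isFT_rF U.1.ι hM)
    have h2 := (DCohPerf.isPC_zero_iff ((chartF U.1 (DerSch.chartImm U.1 φ)).obj M)).2 h1
    have h3 := DCohPerf.isPC_of_iso h2 (chartDInD U.1 (DerSch.chartImm U.1 φ) M).symm
    exact ⟨n, φ, hφ, (chartPC_iff (0 : ℤ) (DCoh.inD X M) U.1 V.1 φ).2 h3⟩

end Groth.Agent.RelPC
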