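import Groth.Agent.RelPC.Ring
import Groth.Agent.DRingPC.Finite

/-!
Relative pseudo-coherence and finite morphisms.
-/

set_option autoImplicit false
set_option linter.style.haveILetI false

universe u

open CategoryTheory CategoryTheory.Limits AlgebraicGeometry TopologicalSpace Groth.Agent.DRingPC

attribute [local instance] HasDerivedCategory.standard

namespace Groth.Agent.RelPC

variable {X Y S : Scheme.{u}}

theorem nonempty_chartD_iso {U : X.Opens} (hU : IsAffineOpen U) [IsClosedImmersion hU.isoSpec.hom] (K : DCoh.D X) :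
    Nonempty ((chartD U hU.isoSpec.hom).obj K ≅ (DCohPerf.RD (hU.isoSpec.inv ≫ U.ι)).obj K) := by
  let G := DerivedCategory.Q.objPreimage K
  let eK : DCoh.toD X G ≅ K := DerivedCategory.Q.objObjPreimageIso K
  let F : chartF U hU.isoSpec.hom ≅ DCohPerf.rF (hU.isoSpec.inv ≫ U.ι) :=
    Functor.isoWhiskerLeft _ (DQC.restrictIsoPush hU.isoSpec.symm).symm ≪≫
      (DCohPerf.rFComp hU.isoSpec.inv U.ι).symm
  exact ⟨(chartD U hU.isoSpec.hom).mapIso eK.symm ≪≫ chartDQ U _ G ≪≫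
    DerivedCategory.Q.mapIso ((NatIso.mapHomologicalComplex F (ComplexShape.up ℤ)).app G) ≪≫
    (DCohPerf.RQ _ G).symm ≪≫ (DCohPerf.RD _).mapIso eK⟩

/-- Direct image along a finite morphism preserves and reflects relative pseudo-coherence. -/
theorem isRel_finite_iff (p : X ⟶ S) (q : Y ⟶ S) [LocallyOfFiniteType p] [LocallyOfFiniteType q]
    (π : X ⟶ Y) [IsFinite π] (w : π ≫ q = p) [DCoh.HasRpush π] (m : ℤ) (E : DCoh.D X) (hE : DCoh.IsQCohD E) :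
    DerSch.IsPseudoCoherentRel p m E ↔ DerSch.IsPseudoCoherentRel q m ((DCoh.Rpush π).obj E) := by
  subst w
  have key : ∀ (U' : Y.affineOpens) (V : S.affineOpens) (h₂ : (U' : Y.Opens) ≤ q ⁻¹ᵁ (V : S.Opens)),
      ∃ (n N : ℕ) (φ : MvPolynomial (Fin n) Γ(S, (V : S.Opens)) →+* Γ(Y, (U' : Y.Opens)))
        (Φ : MvPolynomial (Fin N) Γ(S, (V : S.Opens)) →+* Γ(X, π ⁻¹ᵁ (U' : Y.Opens)))
        (h₃ : π ⁻¹ᵁ (U' : Y.Opens) ≤ (π ≫ q) ⁻¹ᵁ (V : S.Opens)),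
        DerSch.IsChart q (U' : Y.Opens) (V : S.Opens) h₂ φ ∧
        DerSch.IsChart (π ≫ q) (π ⁻¹ᵁ (U' : Y.Opens)) (V : S.Opens) h₃ Φ ∧
        (DerSch.ChartPC m E (π ⁻¹ᵁ (U' : Y.Opens)) (V : S.Opens) Φ ↔
          DerSch.ChartPC m ((DCoh.Rpush π).obj E) (U' : Y.Opens) (V : S.Opens) φ) := by
    intro U' V h₂
    have hU : IsAffineOpen (π ⁻¹ᵁ (U' : Y.Opens)) := U'.2.preimage π
    have h₃ : π ⁻¹ᵁ (U' : Y.Opens) ≤ (π ≫ q) ⁻¹ᵁ (V : S.Opens) := fun x hx => h₂ hx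
    obtain ⟨n, φ, hφ⟩ := exists_chart q U' V h₂
    let φ₀ : Γ(Y, (U' : Y.Opens)) ⟶ Γ(X, π ⁻¹ᵁ (U' : Y.Opens)) := π.appLE (U' : Y.Opens) _ le_rfl
    have hφ₀ : Spec.map φ₀ = hU.isoSpec.inv ≫ (π ∣_ (U' : Y.Opens)) ≫ U'.2.isoSpec.hom := by
      rw [← cancel_mono U'.2.fromSpec, U'.2.SpecMap_appLE_fromSpec _ hU]
      simp only [Category.assoc]
      rw [IsAffineOpen.isoSpec_hom U'.2, U'.2.toSpecΓ_fromSpec, morphismRestrict_ι]
      rfl
    haveI : PreservesFiniteLimits (tilde.functor Γ(Y, (U' : Y.Opens))) := QCohLib.preservesFiniteLimits_tilde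
    haveI : PreservesFiniteLimits (tilde.functor Γ(X, π ⁻¹ᵁ (U' : Y.Opens))) := QCohLib.preservesFiniteLimits_tilde
    obtain ⟨M, ⟨eE⟩, ⟨eR⟩⟩ := DQC.exists_Rpush_chart π U'.2 φ₀ hφ₀ E hE
    haveI : IsClosedImmersion hU.isoSpec.hom := inferInstance
    haveI : IsClosedImmersion U'.2.isoSpec.hom := inferInstance
    obtain ⟨i₁⟩ := nonempty_chartD_iso hU E
    obtain ⟨i₂⟩ := nonempty_chartD_iso U'.2 ((DCoh.Rpush π).obj E)
    have hfin : φ₀.hom.Finite := by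
      have := π.finite_app (U' : Y.Opens) U'.2
      rwa [Scheme.Hom.app_eq_appLE] at this
    letI := φ₀.hom.toAlgebra
    haveI : Module.Finite Γ(Y, (U' : Y.Opens)) Γ(X, π ⁻¹ᵁ (U' : Y.Opens)) := hfin
    obtain ⟨k, g, hg⟩ := Algebra.FiniteType.iff_quotient_mvPolynomial''.1
      (inferInstance : Algebra.FiniteType Γ(Y, (U' : Y.Opens)) Γ(X, π ⁻¹ᵁ (U' : Y.Opens)))
    let Ψ : MvPolynomial (Fin k) (MvPolynomial (Fin n) Γ(S, (V : S.Opens))) →+* Γ(X, π ⁻¹ᵁ (U' : Y.Opens)) :=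
      g.toRingHom.comp (MvPolynomial.map φ)
    let e : MvPolynomial (Fin (k + n)) Γ(S, (V : S.Opens)) →+*
        MvPolynomial (Fin k) (MvPolynomial (Fin n) Γ(S, (V : S.Opens))) :=
      (MvPolynomial.sumRingEquiv Γ(S, (V : S.Opens)) (Fin k) (Fin n)).toRingHom.comp
        (MvPolynomial.renameEquiv Γ(S, (V : S.Opens)) finSumFinEquiv.symm).toRingEquiv.toRingHom
    have heb : Function.Bijective e := (MvPolynomial.sumRingEquiv _ _ _).bijective.comp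
      (MvPolynomial.renameEquiv _ finSumFinEquiv.symm).bijective
    let Φ := Ψ.comp e
    have hΨC : Ψ.comp MvPolynomial.C = φ₀.hom.comp φ := RingHom.ext fun r => by
      simp only [Ψ, RingHom.comp_apply, MvPolynomial.map_C]
      exact g.commutes _
    have heC : ∀ r, e (MvPolynomial.C r) = MvPolynomial.C (MvPolynomial.C r) := fun r => by simp [e]
    have hΦ : DerSch.IsChart (π ≫ q) (π ⁻¹ᵁ (U' : Y.Opens)) (V : S.Opens) h₃ Φ := by
      refine ⟨(hg.comp (MvPolynomial.map_surjective _ hφ.1)).comp heb.2, RingHom.ext fun r => ?_⟩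
      show Ψ (e (MvPolynomial.C r)) = _
      rw [heC, show Ψ (MvPolynomial.C (MvPolynomial.C r)) = φ₀ (φ (MvPolynomial.C r)) from RingHom.congr_fun hΨC _,
        show φ (MvPolynomial.C r) = q.appLE V U' h₂ r from RingHom.congr_fun hφ.2 r]
      exact ConcreteCategory.congr_hom (Scheme.Hom.appLE_comp_appLE π q (V : S.Opens) (U' : Y.Opens) _ h₂ le_rfl) r
    have hint : ∀ i, ∃ P : Polynomial (MvPolynomial (Fin n) Γ(S, (V : S.Opens))), P.Monic ∧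
        P.eval₂ (Ψ.comp MvPolynomial.C) (Ψ (MvPolynomial.X i)) = 0 := fun i => by
      obtain ⟨P, hP, hP'⟩ := (Algebra.IsIntegral.isIntegral (R := Γ(Y, (U' : Y.Opens))) (Ψ (MvPolynomial.X i)))
      obtain ⟨Q', hQ', -, hQm⟩ := Polynomial.lifts_and_natDegree_eq_and_monic
        (show P ∈ Polynomial.lifts φ from by
          rw [Polynomial.lifts_iff_coeff_lifts]
          exact fun j => hφ.1 _) hP
      refine ⟨Q', hQm, ?_⟩
      rw [hΨC, ← Polynomial.eval₂_map, hQ']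
      exact hP'
    refine ⟨n, k + n, φ, Φ, h₃, hφ, hΦ, ?_⟩
    rw [chartPC_ring hU hΦ m E M (eE.symm ≪≫ i₁.symm),
      chartPC_ring U'.2 hφ m _ ((DRing.restrictD φ₀.hom).obj M) (eR.symm ≪≫ i₂.symm), isPC_iff_NPC, isPC_iff_NPC]
    refine ((PCHom.of_bijective e heb).comp_iff Ψ m M).trans ((NPC_iff_of_monic Ψ hint m M).trans ?_)
    rw [hΨC]
    exact ⟨fun h => h.of_iso (restrictQComp φ₀.hom φ M), fun h => h.of_iso (restrictQComp φ₀.hom φ M).symm⟩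
  constructor
  · intro hK
    refine isRel_of_local fun y => ?_
    obtain ⟨V, hV, hyV, -⟩ := exists_isAffineOpen_mem_and_subset (x := q y) (U := ⊤) trivial
    obtain ⟨U', hU', hyU', h₂⟩ := exists_isAffineOpen_mem_and_subset (x := y) (U := q ⁻¹ᵁ V) hyV
    obtain ⟨n, N, φ, Φ, h₃, hφ, hΦ, hiff⟩ := key ⟨U', hU'⟩ ⟨V, hV⟩ h₂
    exact ⟨⟨U', hU'⟩, ⟨V, hV⟩, h₂, hyU', n, φ, hφ, hiff.1 (chartPC_of_isRel hK (hU'.preimage π) hV hΦ)⟩
  · intro hK
    refine isRel_of_local fun x => ?_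
    obtain ⟨V, hV, hyV, -⟩ := exists_isAffineOpen_mem_and_subset (x := q (π x)) (U := ⊤) trivial
    obtain ⟨U', hU', hyU', h₂⟩ := exists_isAffineOpen_mem_and_subset (x := π x) (U := q ⁻¹ᵁ V) hyV
    obtain ⟨n, N, φ, Φ, h₃, hφ, hΦ, hiff⟩ := key ⟨U', hU'⟩ ⟨V, hV⟩ h₂
    exact ⟨⟨_, hU'.preimage π⟩, ⟨V, hV⟩, h₃, hyU', N, Φ, hΦ, hiff.2 (chartPC_of_isRel hK hU' hV hφ)⟩

end Groth.Agent.RelPC
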