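import Groth.Agent.RelPC.Trunc
import Groth.Agent.PerfMor.FlatFP
import Groth.Agent.S9456

/-!
Finitely presented modules flat over the base are pseudo-coherent over a polynomial ring.
-/

set_option autoImplicit false
set_option linter.style.haveILetI false

universe u

open CategoryTheory CategoryTheory.Limits Groth.Agent.DRingPC Groth.Agent.PCohLib Groth.Agent.PerfMor
open TensorProduct

attribute [local instance] HasDerivedCategory.standard

namespace Groth.Agent.RelPC

attribute [local instance] MvPolynomial.algebraMvPolynomial in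
theorem npc_of_flat_fp (A : Type u) [CommRing A] {B : Type u} [CommRing B] [Algebra A B] [Algebra.FinitePresentation A B]
    (hB : PCRing (algebraMap A B)) (M : Type u) [AddCommGroup M] [Module B M] [Module A M] [IsScalarTower A B M]
    [Module.FinitePresentation B M] [Module.Flat A M] (m : ℤ) :
    NPC (FF B) m ((DerivedCategory.singleFunctor _ 0).obj (ModuleCat.of B M)) := by
  obtain ⟨R₀, _, _, S₀, _, _, iS, _, _, _, M₀, _, _, _, _, iM, hT, f, hR₀, hS₀, hM₀, hflat, hpush, hbc⟩ :=
    Groth.Agent.S9456.result A B M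
  obtain ⟨n, π₀, hπ₀⟩ := exists_presentation_ft R₀ S₀
  let α : MvPolynomial (Fin n) A →ₐ[A] B :=
    MvPolynomial.aeval fun i => algebraMap S₀ B (π₀ (MvPolynomial.X i))
  have hcomm : ∀ p, α (MvPolynomial.map (algebraMap R₀ A) p) = algebraMap S₀ B (π₀ p) := fun p => by
    induction p using MvPolynomial.induction_on with
    | C r =>
      simp [α, ← IsScalarTower.algebraMap_apply]
    | add x y hx hy => simp only [map_add, hx, hy]
    | mul_X p i hp => simp only [map_mul, hp, MvPolynomial.map_X, α, MvPolynomial.aeval_X]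
  have hα : Function.Surjective α := fun b => by
    haveI := hpush
    obtain ⟨t, rfl⟩ := (Algebra.IsPushout.equiv R₀ A S₀ B).surjective b
    induction t using TensorProduct.induction_on with
    | zero => exact ⟨0, by simp⟩
    | add x y hx hy =>
      obtain ⟨p, hp⟩ := hx; obtain ⟨q, hq⟩ := hy
      exact ⟨p + q, by rw [map_add, map_add, hp, hq]⟩
    | tmul a s =>
      obtain ⟨p, rfl⟩ := hπ₀ s
      exact ⟨a • MvPolynomial.map (algebraMap R₀ A) p, by
        rw [map_smul, hcomm, Algebra.IsPushout.equiv_tmul, Algebra.smul_def]⟩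
  have hαp : PCHom α.toRingHom := hB.pcHom α.toRingHom hα (RingHom.ext α.commutes)
  letI := α.toRingHom.toAlgebra
  letI := π₀.toRingHom.toAlgebra
  haveI : IsScalarTower R₀ (MvPolynomial (Fin n) R₀) S₀ :=
    IsScalarTower.of_algebraMap_eq fun a => (π₀.commutes a).symm
  letI : Algebra (MvPolynomial (Fin n) R₀) B := ((algebraMap S₀ B).comp π₀.toRingHom).toAlgebra
  haveI : IsScalarTower (MvPolynomial (Fin n) R₀) S₀ B := IsScalarTower.of_algebraMap_eq fun _ => rfl
  haveI : IsScalarTower (MvPolynomial (Fin n) R₀) (MvPolynomial (Fin n) A) B :=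
    IsScalarTower.of_algebraMap_eq fun p => (hcomm p).symm
  letI : Module (MvPolynomial (Fin n) R₀) M₀ := Module.compHom M₀ π₀.toRingHom
  haveI : IsScalarTower (MvPolynomial (Fin n) R₀) S₀ M₀ := IsScalarTower.of_algebraMap_smul fun _ _ => rfl
  haveI : IsScalarTower R₀ (MvPolynomial (Fin n) R₀) M₀ := IsScalarTower.of_algebraMap_smul fun a m => by
    show π₀ (algebraMap R₀ _ a) • m = a • m
    rw [π₀.commutes, algebraMap_smul]
  haveI : Module.Finite (MvPolynomial (Fin n) R₀) S₀ :=
    Module.Finite.of_surjective (Algebra.linearMap (MvPolynomial (Fin n) R₀) S₀) hπ₀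
  haveI : Module.Finite (MvPolynomial (Fin n) R₀) M₀ := Module.Finite.trans S₀ M₀
  haveI : IsNoetherianRing R₀ := Algebra.FiniteType.isNoetherianRing ℤ R₀
  haveI := hflat
  haveI := hpush
  letI : Module (MvPolynomial (Fin n) A) M := Module.compHom M α.toRingHom
  haveI : IsScalarTower (MvPolynomial (Fin n) A) B M := IsScalarTower.of_algebraMap_smul fun _ _ => rfl
  haveI : IsScalarTower A (MvPolynomial (Fin n) A) M := IsScalarTower.of_algebraMap_smul fun a x => by
    show α (algebraMap A _ a) • x = a • x
    rw [α.commutes, algebraMap_smul]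
  letI : Module (MvPolynomial (Fin n) R₀) M := Module.compHom M ((algebraMap S₀ B).comp π₀.toRingHom)
  haveI : IsScalarTower (MvPolynomial (Fin n) R₀) S₀ M := IsScalarTower.of_algebraMap_smul fun p x => by
    exact (algebraMap_smul B (π₀ p) x).symm
  haveI : IsScalarTower (MvPolynomial (Fin n) R₀) (MvPolynomial (Fin n) A) M :=
    IsScalarTower.of_algebraMap_smul fun p x => by
      show α (MvPolynomial.map (algebraMap R₀ A) p) • x = algebraMap S₀ B (π₀ p) • x
      rw [hcomm]
  let f' : M₀ →ₗ[MvPolynomial (Fin n) R₀] M := f.restrictScalars _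
  let g : MvPolynomial (Fin n) A ⊗[MvPolynomial (Fin n) R₀] M₀ →ₗ[MvPolynomial (Fin n) A] M :=
    f'.liftBaseChange (MvPolynomial (Fin n) A)
  haveI : IsScalarTower R₀ (MvPolynomial (Fin n) R₀) (MvPolynomial (Fin n) A) :=
    IsScalarTower.of_algebraMap_eq fun a => by
      show _ = MvPolynomial.map (algebraMap R₀ A) (MvPolynomial.C a)
      rw [MvPolynomial.map_C]; rfl
  let e₁ := Algebra.IsPushout.cancelBaseChange R₀ A (MvPolynomial (Fin n) R₀) (MvPolynomial (Fin n) A) M₀
  let e₂ := Algebra.IsPushout.cancelBaseChange R₀ A S₀ B M₀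
  have hg : Function.Bijective g := by
    have h : ∀ t, g (e₁.symm t) = hbc.equiv (e₂.symm t) := fun t => by
      induction t using TensorProduct.induction_on with
      | zero => simp only [map_zero]
      | add x y hx hy => simp only [map_add, hx, hy]
      | tmul a m =>
        simp only [e₁, e₂, Algebra.IsPushout.cancelBaseChange_symm_tmul, g, LinearMap.liftBaseChange_tmul,
          IsBaseChange.equiv_tmul]
        show (algebraMap A (MvPolynomial (Fin n) A) a) • f m = _
        rw [algebraMap_smul, algebraMap_smul]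
    have : (g : _ → M) = hbc.equiv ∘ e₂.symm ∘ e₁ := funext fun x => by
      simpa using h (e₁ x)
    rw [this]
    exact hbc.equiv.bijective.comp (e₂.symm.bijective.comp e₁.bijective)
  have h1 : NPC (FF (MvPolynomial (Fin n) A)) m
      ((DerivedCategory.singleFunctor _ 0).obj (ModuleCat.of (MvPolynomial (Fin n) A) M)) :=
    (NPC_single_congr (LinearEquiv.ofBijective g hg).toModuleIso (NPC_baseChange R₀ A (-m).toNat M₀)).mono (by omega)
  let el : M ≃ₗ[MvPolynomial (Fin n) A] (ModuleCat.restrictScalars α.toRingHom).obj (ModuleCat.of B M) :=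
    { toFun := fun x => x, invFun := fun x => x, map_add' := fun _ _ => rfl, map_smul' := fun _ _ => rfl }
  let eI : ModuleCat.of (MvPolynomial (Fin n) A) M ≅ (ModuleCat.restrictScalars α.toRingHom).obj (ModuleCat.of B M) :=
    el.toModuleIso
  exact hαp.NPC_of_restrict ((NPC_single_congr eI h1).of_iso (restrictSingle α.toRingHom 0 _).symm)

end Groth.Agent.RelPC
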