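import Groth.Agent.RelPC.FT

/-!
Degree `-1` relative pseudo-coherence of a module and relative finite presentation.
-/

set_option autoImplicit false
set_option linter.style.haveILetI false

universe u

open CategoryTheory CategoryTheory.Limits AlgebraicGeometry TopologicalSpace Opposite

attribute [local instance] HasDerivedCategory.standard

namespace Groth.Agent.RelPC

variable {X Y : Scheme.{u}}

lemma isQuasicoherent_chartF {U : X.Opens} {P : Scheme.{u}} (c : (U : Scheme.{u}) ⟶ P) [IsClosedImmersion c]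
    (M : X.Modules) [M.IsQuasicoherent] : ((chartF U c).obj M).IsQuasicoherent := by
  haveI : ((DCohPerf.rF U.ι).obj M).IsQuasicoherent := @QCohLib.isQuasicoherent_of_iso _ _ _
    ((Scheme.Modules.restrictFunctorIsoPullback U.ι).app M).symm (QCohLib.isQuasicoherent_pullback U.ι M)
  exact QCohLib.isQuasicoherent_pushforward c

lemma isFP_chart_iff_module {f : X ⟶ Y} {U : X.Opens} {V : Y.Opens} {h : U ≤ f ⁻¹ᵁ V} {n : ℕ}
    {φ : MvPolynomial (Fin n) Γ(Y, V) →+* Γ(X, U)} (_hφ : DerSch.IsChart f U V h φ)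
    [IsClosedImmersion (DerSch.chartImm U φ)] (M : X.Modules) [M.IsQuasicoherent] :
    CohB1.IsFP ((chartF U (DerSch.chartImm U φ)).obj M) ↔
      @Module.FinitePresentation (MvPolynomial (Fin n) Γ(Y, V)) Γ(M, U) _ _ (Module.compHom Γ(M, U) φ) := by
  let R := CommRingCat.of (MvPolynomial (Fin n) Γ(Y, V))
  let c : (U : Scheme.{u}) ⟶ Spec R := DerSch.chartImm U φ
  let N := (chartF U c).obj M
  haveI : N.IsQuasicoherent := isQuasicoherent_chartF c M
  letI : Module R Γ(M, U) := Module.compHom Γ(M, U) φ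
  have hψ : ∀ r : R, c.appTop ((Scheme.ΓSpecIso R).inv r) = U.topIso.inv (φ r) := by
    have hc : c.appTop = (Spec.map (CommRingCat.ofHom φ)).appTop ≫ U.toSpecΓ.appTop := Scheme.Hom.comp_appTop _ _
    have hh : (Scheme.ΓSpecIso R).inv ≫ c.appTop = CommRingCat.ofHom φ ≫ U.topIso.inv := by
      rw [hc, ← Scheme.ΓSpecIso_inv_naturality_assoc, Scheme.Opens.toSpecΓ_appTop]
      exact congrArg (CommRingCat.ofHom φ ≫ ·) (Iso.inv_hom_id_assoc (Scheme.ΓSpecIso Γ(X, U)) U.topIso.inv)
    exact fun r => ConcreteCategory.congr_hom hh r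
  let i : U ⟶ U.ι ''ᵁ (⊤ : (U : Scheme.{u}).Opens) := eqToHom U.ι_image_top.symm
  let j : U.ι ''ᵁ (⊤ : (U : Scheme.{u}).Opens) ⟶ U := eqToHom U.ι_image_top
  have hij : ∀ x : Γ(M, U.ι ''ᵁ (⊤ : (U : Scheme.{u}).Opens)), M.presheaf.map j.op (M.presheaf.map i.op x) = x := fun x => by
    have hh := ConcreteCategory.congr_hom (M.presheaf.map_comp i.op j.op) x
    rw [show i.op ≫ j.op = 𝟙 _ from Subsingleton.elim _ _, CategoryTheory.Functor.map_id] at hh
    exact hh.symm
  have hji : ∀ x : Γ(M, U), M.presheaf.map i.op (M.presheaf.map j.op x) = x := fun x => by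
    have hh := ConcreteCategory.congr_hom (M.presheaf.map_comp j.op i.op) x
    rw [show j.op ≫ i.op = 𝟙 _ from Subsingleton.elim _ _, CategoryTheory.Functor.map_id] at hh
    exact hh.symm
  let e : QCohLib.ΓR N ≃ₗ[R] Γ(M, U) :=
    { toFun := fun x => M.presheaf.map i.op (show Γ(M, U.ι ''ᵁ (⊤ : (U : Scheme.{u}).Opens)) from x)
      invFun := fun x => M.presheaf.map j.op x
      left_inv := fun x => hij x
      right_inv := fun x => hji x
      map_add' := fun a b => map_add _ _ _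
      map_smul' := fun r x => by
        have hs : (show Γ(M, U.ι ''ᵁ (⊤ : (U : Scheme.{u}).Opens)) from r • x) =
            (show Γ(X, U.ι ''ᵁ (⊤ : (U : Scheme.{u}).Opens)) from U.topIso.inv (φ r)) •
              (show Γ(M, U.ι ''ᵁ (⊤ : (U : Scheme.{u}).Opens)) from x) := by
          rw [← hψ r]
          refine (Scheme.Modules.smul_Spec_def (M := N) r x).trans ?_
          rw [show (⊤ : (Spec R).Opens).leTop.op = 𝟙 _ from rfl, CategoryTheory.Functor.map_id]
          refine Eq.trans ?_ (congrArg (· • (show Γ(M, U.ι ''ᵁ (⊤ : (U : Scheme.{u}).Opens)) from x))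
            (ConcreteCategory.congr_hom (congrArg Iso.inv (Scheme.Opens.ι_appIso U ⊤))
              (c.appTop ((Scheme.ΓSpecIso R).inv r))))
          rfl
        refine (congrArg (M.presheaf.map i.op) hs).trans ((Scheme.Modules.map_smul M i _ _).trans ?_)
        have hr : X.presheaf.map i.op (show Γ(X, U.ι ''ᵁ (⊤ : (U : Scheme.{u}).Opens)) from U.topIso.inv (φ r)) = φ r :=
          Iso.inv_hom_id_apply U.topIso (φ r)
        rw [hr]
        rfl }
  refine ⟨fun hFP => ?_, fun hFP => ?_⟩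
  · haveI := QCohLib.isFinitePresentation_iff_Spec.1 hFP
    exact Module.FinitePresentation.of_equiv e
  · haveI : Module.FinitePresentation R Γ(M, U) := hFP
    exact QCohLib.isFinitePresentation_iff_Spec.2 (Module.FinitePresentation.of_equiv e.symm)

theorem isPseudoCoherentRel_negOne_iff (f : X ⟶ Y) [LocallyOfFiniteType f] (M : X.Modules) :
    DerSch.IsPseudoCoherentRel f (-1) (DCoh.inD X M) ↔ (Coh.IsQCoh M ∧ Flatn.IsRelFP f M) := by
  constructor
  · intro hPC
    haveI hM : M.IsQuasicoherent := @QCohLib.isQuasicoherent_of_iso _ _ _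
      ((DerivedCategory.singleFunctorCompHomologyFunctorIso X.Modules 0).app M)
      (isQCoh_HD f (-1) _ hPC 0 (by omega))
    refine ⟨hM, ?_⟩
    obtain ⟨-, 𝒱, h𝒱, hch⟩ := hPC
    refine ⟨𝒱, h𝒱, fun V hV => ?_⟩
    obtain ⟨𝒰, h𝒰, hU⟩ := hch V hV
    refine ⟨𝒰, h𝒰, fun U hUm h => ?_⟩
    obtain ⟨n, φ, hφ, hPC⟩ := hU U hUm h
    haveI := isClosedImmersion_chartImm U.2 hφ
    have hfp := (isFP_chart_iff_module hφ M).1 ((DCohPerf.isPC_negOne_iff _).1
      (DCohPerf.isPC_of_iso ((chartPC_iff _ _ _ _ φ).1 hPC) (chartDInD _ _ M)))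
    letI := (f.appLE (V : Y.Opens) (U : X.Opens) h).hom.toAlgebra
    exact ⟨n, { φ with commutes' := fun r => RingHom.congr_fun hφ.2 r }, hφ.1, hfp⟩
  · rintro ⟨hM, hF⟩
    haveI : M.IsQuasicoherent := hM
    refine isPseudoCoherentRel_of_forall f _ _ fun U V h => ?_
    letI := (f.appLE (V : Y.Opens) (U : X.Opens) h).hom.toAlgebra
    obtain ⟨n, g, hg, hfp⟩ := RelFPLib.relFPOn_of_isRelFP hF U V h
    let φ : MvPolynomial (Fin n) Γ(Y, V.1) →+* Γ(X, U.1) := g.toRingHom
    have hφ : DerSch.IsChart f U.1 V.1 h φ := ⟨hg, g.comp_algebraMap⟩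
    haveI := isClosedImmersion_chartImm U.2 hφ
    have h1 := (isFP_chart_iff_module hφ M).2 hfp
    have h2 := (DCohPerf.isPC_negOne_iff ((chartF U.1 (DerSch.chartImm U.1 φ)).obj M)).2 h1
    have h3 := DCohPerf.isPC_of_iso h2 (chartDInD U.1 (DerSch.chartImm U.1 φ) M).symm
    exact ⟨n, φ, hφ, (chartPC_iff (-1 : ℤ) (DCoh.inD X M) U.1 V.1 φ).2 h3⟩

end Groth.Agent.RelPC
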