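import Groth.Agent.RelPC.Global
import Groth.Agent.KGrp.Euler

/-!
Relative pseudo-coherence from the terms and from the cohomology sheaves.
-/

set_option autoImplicit false
set_option linter.style.haveILetI false

universe u

open CategoryTheory CategoryTheory.Limits CategoryTheory.Pretriangulated AlgebraicGeometry DerivedCategory

attribute [local instance] HasDerivedCategory.standard

namespace Groth.Agent.RelPC

variable {X S : Scheme.{u}} {f : X ⟶ S}

theorem isRel_of_iso {m : ℤ} {K L : DCoh.D X} (h : DerSch.IsPseudoCoherentRel f m K) (e : K ≅ L) :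
    DerSch.IsPseudoCoherentRel f m L := by
  obtain ⟨hl, 𝒱, h𝒱, H⟩ := h
  refine ⟨hl, 𝒱, h𝒱, fun V hV => ?_⟩
  obtain ⟨𝒰, h𝒰, HU⟩ := H V hV
  refine ⟨𝒰, h𝒰, fun U hU hle => ?_⟩
  obtain ⟨n, φ, hφ, hPC⟩ := HU U hU hle
  exact ⟨n, φ, hφ, fun G hG => hPC G ⟨hG.some ≪≫ e.symm⟩⟩

theorem isRel_shift {m : ℤ} {K : DCoh.D X} (h : DerSch.IsPseudoCoherentRel f m K) (k m' : ℤ) (hm : m' + k = m) :
    DerSch.IsPseudoCoherentRel f m' (K⟦k⟧) := by
  haveI : LocallyOfFiniteType f := h.1
  refine isRel_iff.2 fun U V hle => ?_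
  obtain ⟨n, φ, hφ⟩ := exists_chart f U V hle
  haveI := isClosedImmersion_chartImm U.2 hφ
  exact ⟨n, φ, hφ, (chartPC_iff _ _ _ _ φ).2 (DCohPerf.isPC_of_iso
    (DCohPerf.isPC_shift ((chartPC_iff _ _ _ _ φ).1 (chartPC_of_isRel h U.2 V.2 hφ)) k m' hm)
    (((chartD (U : X.Opens) (DerSch.chartImm (U : X.Opens) φ)).commShiftIso k).symm.app K))⟩

theorem isRel_of_isZero [LocallyOfFiniteType f] (m : ℤ) {K : DCoh.D X}
    (hz : ∀ i, m ≤ i → IsZero (DCoh.HD K i)) : DerSch.IsPseudoCoherentRel f m K := by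
  refine isRel_iff.2 fun U V hle => ?_
  obtain ⟨n, φ, hφ⟩ := exists_chart f U V hle
  haveI := isClosedImmersion_chartImm U.2 hφ
  refine ⟨n, φ, hφ, (chartPC_iff _ _ _ _ φ).2 (DCohPerf.isPC_of_isZero m fun i hi => ?_)⟩
  obtain ⟨e⟩ := nonempty_chartD_push (U : X.Opens) (DerSch.chartImm (U : X.Opens) φ) K
  obtain ⟨e'⟩ := nonempty_HD_pushD (DerSch.chartImm (U : X.Opens) φ) ((DCohPerf.RD (U : X.Opens).ι).obj K) i
  exact ((Scheme.Modules.pushforward _).map_isZero
    (DCohPerf.isZero_homology_restrict _ K i (hz i hi))).of_iso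
      ((DerivedCategory.homologyFunctor _ i).mapIso e ≪≫ e')

theorem isRel_of_terms [LocallyOfFiniteType f] (m : ℤ) : ∀ (k : ℕ) (b : ℤ) (F : CochainComplex X.Modules ℤ),
    b < m + k → (∀ i : ℤ, b < i → IsZero (F.X i)) →
    (∀ i : ℤ, DerSch.IsPseudoCoherentRel f (m - i) (DCoh.inD X (F.X i))) →
    DerSch.IsPseudoCoherentRel f m (DCoh.toD X F) := by
  intro k
  induction k with
  | zero =>
    intro b F hb hz _
    refine isRel_of_isZero m fun i hi => ?_
    exact ((HomologicalComplex.exactAt_iff_isZero_homology F i).1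
      (ShortComplex.exact_of_isZero_X₂ _ (hz i (by omega)))).of_iso
      ((DerivedCategory.homologyFunctorFactors X.Modules i).app F)
  | succ k ih =>
    intro b F hb hz h
    obtain ⟨S', hS, h1, h2, h3, h3'⟩ := PCohLib.exists_ses_top F b (hz (b + 1) (by omega))
    have hz3 : ∀ i, b - 1 < i → IsZero (S'.X₃.X i) := fun i hi => by
      by_cases hib : i = b
      · exact hib ▸ h3
      · exact (hz i (by omega)).of_iso (h3' i hib).some.symm
    have hl3 : ∀ i, DerSch.IsPseudoCoherentRel f (m - i) (DCoh.inD X (S'.X₃.X i)) := fun i => by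
      by_cases hib : i = b
      · refine isRel_of_isZero _ fun j _ => (DerivedCategory.homologyFunctor X.Modules j).map_isZero
          ((DerivedCategory.singleFunctor X.Modules 0).map_isZero (hib ▸ h3))
      · exact isRel_of_iso (h i) ((DerivedCategory.singleFunctor X.Modules 0).mapIso (h3' i hib).some)
    have p3 : DerSch.IsPseudoCoherentRel f m (DCoh.toD X S'.X₃) := ih (b - 1) _ (by omega) hz3 hl3
    have e1 : DerivedCategory.Q.obj S'.X₁ ≅ (DCoh.inD X (F.X b))⟦-b⟧ :=
      DerivedCategory.Q.mapIso (eqToIso h1) ≪≫ PCohLib.singleQIso b _ ≪≫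
        (PCohLib.singleShiftIso (-b) b 0 (by omega) _).symm
    have p1 : DerSch.IsPseudoCoherentRel f m (DerivedCategory.Q.obj S'.X₁) :=
      isRel_of_iso (isRel_shift (h b) (-b) m (by omega)) e1.symm
    exact isRel_of_iso (isRel_triangle₂ m (DerivedCategory.triangleOfSES_distinguished hS) p1 p3)
      (DerivedCategory.Q.mapIso (eqToIso h2))

theorem isRel_of_cohomology [LocallyOfFiniteType f] (m : ℤ) : ∀ (k : ℕ) (b : ℤ) (E : DCoh.D X),
    b < m + k → E.IsLE b →
    (∀ i : ℤ, DerSch.IsPseudoCoherentRel f (m - i) (DCoh.inD X (DCoh.HD E i))) →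
    DerSch.IsPseudoCoherentRel f m E := by
  intro k
  induction k with
  | zero => exact fun b E hb hE _ => isRel_of_isZero m fun i hi => isZero_of_isLE E b i (by omega)
  | succ k ih =>
    intro b E hb hE h
    let T := (TStructure.t.triangleLTGE b).obj E
    have hT : T ∈ distTriang _ := TStructure.t.triangleLTGE_distinguished _ _
    have hA : T.obj₁.IsLE (b - 1) := inferInstanceAs (TStructure.t.IsLE _ _)
    have hC : T.obj₃.IsGE b := inferInstanceAs (TStructure.t.IsGE _ _)
    have isoA : ∀ i ≤ b - 1, IsIso ((homologyFunctor X.Modules i).map T.mor₁) := fun i hi => by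
      have h1 : Mono ((homologyFunctor X.Modules i).map T.mor₁) :=
        (HomologySequence.mono_homologyMap_mor₁_iff T hT (i - 1) i (by omega)).2
          ((isZero_of_isGE T.obj₃ b (i - 1) (by omega)).eq_of_src _ _)
      have h2 : Epi ((homologyFunctor X.Modules i).map T.mor₁) :=
        (HomologySequence.epi_homologyMap_mor₁_iff T hT i).2
          ((isZero_of_isGE T.obj₃ b i (by omega)).eq_of_tgt _ _)
      exact isIso_of_mono_of_epi _
    have isoC : ∀ i, b ≤ i → IsIso ((homologyFunctor X.Modules i).map T.mor₂) := fun i hi => by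
      have h1 : Mono ((homologyFunctor X.Modules i).map T.mor₂) :=
        (HomologySequence.mono_homologyMap_mor₂_iff T hT i).2
          ((isZero_of_isLE T.obj₁ (b - 1) i (by omega)).eq_of_src _ _)
      have h2 : Epi ((homologyFunctor X.Modules i).map T.mor₂) :=
        (HomologySequence.epi_homologyMap_mor₂_iff T hT i (i + 1) rfl).2
          ((isZero_of_isLE T.obj₁ (b - 1) (i + 1) (by omega)).eq_of_tgt _ _)
      exact isIso_of_mono_of_epi _
    have hA' : DerSch.IsPseudoCoherentRel f m T.obj₁ := by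
      refine ih (b - 1) T.obj₁ (by omega) hA fun i => ?_
      by_cases hi : i ≤ b - 1
      · have := isoA i hi
        exact isRel_of_iso (h i) ((DerivedCategory.singleFunctor X.Modules 0).mapIso
          (asIso ((homologyFunctor X.Modules i).map T.mor₁)).symm)
      · exact isRel_of_isZero _ fun j _ => (DerivedCategory.homologyFunctor X.Modules j).map_isZero
          ((DerivedCategory.singleFunctor X.Modules 0).map_isZero (isZero_of_isLE T.obj₁ (b - 1) i (by omega)))
    have hCle : T.obj₃.IsLE b := by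
      rw [isLE_iff]
      intro i hi
      have := isoC i hi.le
      exact (isZero_of_isLE E b i hi).of_iso (asIso ((homologyFunctor X.Modules i).map T.mor₂)).symm
    obtain ⟨A, ⟨eA⟩⟩ := T.obj₃.exists_iso_singleFunctor_obj_of_isGE_of_isLE b
    let eH : DCoh.HD E b ≅ A := (@asIso _ _ _ _ _ (isoC b le_rfl)) ≪≫
      (homologyFunctor X.Modules b).mapIso eA ≪≫ (singleFunctorCompHomologyFunctorIso X.Modules b).app A
    have hC' : DerSch.IsPseudoCoherentRel f m T.obj₃ :=
      isRel_of_iso (isRel_shift (h b) (-b) m (by omega)) ((shiftFunctor (DCoh.D X) (-b)).mapIso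
        ((DerivedCategory.singleFunctor X.Modules 0).mapIso eH) ≪≫
        ((singleFunctors X.Modules).shiftIso (-b) b 0 (by omega)).app A ≪≫ eA.symm)
    exact isRel_triangle₂ m hT hA' hC'

end Groth.Agent.RelPC
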