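import Groth.Agent.RelPC.FlatModule
import Groth.Agent.RelPC.Terms
import Groth.Agent.RelPC.RelFP
import Groth.Agent.RelPC.Finite
import Groth.Agent.FlatDescent.Sheaf
import Groth.Agent.FlatDescent.Global

/-!
Flat, relatively finitely presented modules are relatively pseudo-coherent.
-/

set_option autoImplicit false
set_option linter.style.haveILetI false

universe u

open CategoryTheory CategoryTheory.Limits AlgebraicGeometry TopologicalSpace Groth.Agent.DRingPC Groth.Agent.PCohLib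
  Groth.Agent.PerfMor

attribute [local instance] HasDerivedCategory.standard

namespace Groth.Agent.RelPC

variable {X Y : Scheme.{u}}

theorem isRel_of_flat (f : X ⟶ Y) [LocallyOfFiniteType f] (M : X.Modules) (hfl : FlatMod.IsFlatOver f M)
    (hfp : DerSch.IsPseudoCoherentRel f (-1) (DCoh.inD X M)) (m : ℤ) :
    DerSch.IsPseudoCoherentRel f m (DCoh.inD X M) := by
  obtain ⟨hM, hF⟩ := (isPseudoCoherentRel_negOne_iff f M).1 hfp
  haveI : M.IsQuasicoherent := hM
  refine isRel_iff.2 fun U V h => ?_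
  letI := (f.appLE (V : Y.Opens) (U : X.Opens) h).hom.toAlgebra
  obtain ⟨n, g, hg, hP⟩ := RelFPLib.relFPOn_of_isRelFP hF U V h
  let P := MvPolynomial (Fin n) Γ(Y, (V : Y.Opens))
  let B := Γ(X, (U : X.Opens))
  let N := Γ(M, (U : X.Opens))
  letI : Module Γ(Y, (V : Y.Opens)) N := Groth.FlatDescent.appLEModule f M (V : Y.Opens) (U : X.Opens) h
  letI : Module P N := Module.compHom N g.toRingHom
  haveI : IsScalarTower Γ(Y, (V : Y.Opens)) B N := IsScalarTower.of_algebraMap_smul fun _ _ => rfl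
  haveI : IsScalarTower Γ(Y, (V : Y.Opens)) P N := IsScalarTower.of_algebraMap_smul fun a x => by
    show g (algebraMap Γ(Y, (V : Y.Opens)) P a) • x = a • x
    rw [g.commutes]
    exact algebraMap_smul B a x
  haveI : Module.FinitePresentation P N := hP
  haveI : Module.Flat Γ(Y, (V : Y.Opens)) N := by
    refine Groth.FlatDescent.flat_of_flatAt (P := B) fun Q _ => ?_
    obtain ⟨⟨w, hw⟩, hwQ⟩ := U.2.isoSpec.hom.homeomorph.surjective (⟨Q, inferInstance⟩ : PrimeSpectrum B)
    have h1 := (Groth.FlatDescent.isFlatOverAt_iff f M V.2 U.2 h hw).mp (hfl w)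
    have h2 : (U.2.primeIdealOf ⟨w, hw⟩).asIdeal = Q := congrArg PrimeSpectrum.asIdeal hwQ
    simp only [h2] at h1
    exact h1
  have hN := npc_of_flat_fp Γ(Y, (V : Y.Opens)) (B := P) (perfRing_of_flat_fp).toPC N m
  let φ : P →+* B := g.toRingHom
  have hφ : DerSch.IsChart f (U : X.Opens) (V : Y.Opens) h φ := ⟨hg, g.comp_algebraMap⟩
  haveI : IsClosedImmersion U.2.isoSpec.hom := inferInstance
  haveI : PreservesFiniteLimits (tilde.functor Γ(X, (U : X.Opens))) := QCohLib.preservesFiniteLimits_tilde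
  haveI : (QCohLib.onSpec M U.2).IsQuasicoherent := inferInstance
  let e1 : tilde (ModuleCat.of Γ(X, (U : X.Opens)) N) ≅ (chartF (U : X.Opens) U.2.isoSpec.hom).obj M :=
    (tilde.functor Γ(X, (U : X.Opens))).mapIso (QCohLib.onSpecΓ M U.2).symm.toModuleIso ≪≫
      QCohLib.counitIso (QCohLib.onSpec M U.2) ≪≫ (DCohPerf.rFComp U.2.isoSpec.inv (U : X.Opens).ι).app M ≪≫
      (DQC.restrictIsoPush U.2.isoSpec.symm).app _
  let K : Dual.D Γ(X, (U : X.Opens)) := (DerivedCategory.singleFunctor _ 0).obj (ModuleCat.of Γ(X, (U : X.Opens)) N)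
  let e : (DCoh.tildeD Γ(X, (U : X.Opens))).obj K ≅ (chartD (U : X.Opens) U.2.isoSpec.hom).obj (DCoh.inD X M) :=
    ((tilde.functor Γ(X, (U : X.Opens))).mapDerivedCategorySingleFunctor 0).app _ ≪≫
      (DerivedCategory.singleFunctor _ 0).mapIso e1 ≪≫ (chartDInD (U : X.Opens) U.2.isoSpec.hom M).symm
  refine ⟨n, φ, hφ, (chartPC_ring U.2 hφ m _ K e).2 ((isPC_iff_NPC _ _ _).2 ?_)⟩
  let el : N ≃ₗ[P] (ModuleCat.restrictScalars φ).obj (ModuleCat.of B N) :=
    { toFun := fun x => x, invFun := fun x => x, map_add' := fun _ _ => rfl, map_smul' := fun _ _ => rfl }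
  let eI : ModuleCat.of P N ≅ (ModuleCat.restrictScalars φ).obj (ModuleCat.of B N) := el.toModuleIso
  exact (NPC_single_congr eI hN).of_iso (restrictSingle φ 0 _).symm

theorem isRelAll_of_flat_terms (f : X ⟶ Y) [LocallyOfFiniteType f] (E : CochainComplex X.Modules ℤ) (b : ℤ)
    (hb : ∀ i : ℤ, b < i → IsZero (E.X i)) (hfl : ∀ i : ℤ, FlatMod.IsFlatOver f (E.X i))
    (hfp : ∀ i : ℤ, DerSch.IsPseudoCoherentRel f (-1)
      (DCoh.toD X ((HomologicalComplex.single _ (ComplexShape.up ℤ) 0).obj (E.X i)))) :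
    DerSch.IsPseudoCoherentRelAll f (DCoh.toD X E) := fun m =>
  isRel_of_terms m ((b - m).toNat + 1) b E (by omega) hb fun i => isRel_of_flat f _ (hfl i)
    (isRel_of_iso (hfp i) ((DerivedCategory.singleFunctorIsoCompQ X.Modules 0).app _).symm) (m - i)

end Groth.Agent.RelPC
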