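import Groth.Agent.RelPC.Localize

/-!
Relative pseudo-coherence holds on every chart.
-/

set_option autoImplicit false
set_option linter.style.haveILetI false

universe u

open CategoryTheory CategoryTheory.Limits AlgebraicGeometry TopologicalSpace

attribute [local instance] HasDerivedCategory.standard

namespace Groth.Agent.RelPC

variable {X S : Scheme.{u}}

/-- Some chart on the pair passes the test. -/
def GoodPair (f : X ⟶ S) (m : ℤ) (K : DCoh.D X) (U : X.Opens) (V : S.Opens) (h : U ≤ f ⁻¹ᵁ V) : Prop :=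
  ∃ (n : ℕ) (φ : MvPolynomial (Fin n) Γ(S, V) →+* Γ(X, U)), DerSch.IsChart f U V h φ ∧ DerSch.ChartPC m K U V φ

variable {f : X ⟶ S} {m : ℤ} {K : DCoh.D X}

theorem goodPair_congr {U U' : X.Opens} {V V' : S.Opens} (hU : U = U') (hV : V = V') {h : U ≤ f ⁻¹ᵁ V}
    {h' : U' ≤ f ⁻¹ᵁ V'} : GoodPair f m K U V h ↔ GoodPair f m K U' V' h' := by
  subst hU hV
  rfl

theorem GoodPair.basicOpen {U : X.Opens} (hU : IsAffineOpen U) {V : S.Opens} {h : U ≤ f ⁻¹ᵁ V}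
    (hP : GoodPair f m K U V h) (g : Γ(X, U)) :
    GoodPair f m K (X.basicOpen g) V ((X.basicOpen_le g).trans h) := by
  obtain ⟨n, φ, hφ, hPC⟩ := hP
  haveI := isClosedImmersion_chartImm hU hφ
  obtain ⟨G, hG⟩ := hφ.1 g
  obtain ⟨ψ, hψ, hiff⟩ := exists_sourceChart hU hφ g G hG m K
  exact ⟨_, ψ, hψ, hiff.2 (DCohPerf.isPC_restrict ((chartPC_iff m K U V φ).1 hPC) _)⟩

theorem GoodPair.of_cover {U : X.Opens} (hU : IsAffineOpen U) {V : S.Opens} {h : U ≤ f ⁻¹ᵁ V} {n : ℕ}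
    {φ : MvPolynomial (Fin n) Γ(S, V) →+* Γ(X, U)} (hφ : DerSch.IsChart f U V h φ)
    (s : Set Γ(X, U)) (hs : Ideal.span s = ⊤)
    (H : ∀ g ∈ s, GoodPair f m K (X.basicOpen g) V ((X.basicOpen_le g).trans h)) :
    GoodPair f m K U V h := by
  haveI := isClosedImmersion_chartImm hU hφ
  refine ⟨n, φ, hφ, (chartPC_iff m K U V φ).2 ?_⟩
  let c := DerSch.chartImm U φ
  refine DCohPerf.isPC_of_locally fun y => ?_
  by_cases hy : y ∈ Set.range c.base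
  · obtain ⟨x, rfl⟩ := hy
    have hx : (x.1 : X) ∈ ⨆ g : s, X.basicOpen (g : Γ(X, U)) := by
      rw [hU.iSup_basicOpen_eq_self_iff.2 hs]
      exact x.2
    obtain ⟨g, hxg⟩ := Opens.mem_iSup.1 hx
    obtain ⟨k, ψ₀, hψ₀, hPC⟩ := H g g.2
    obtain ⟨G, hG⟩ := hφ.1 g
    obtain ⟨ψ, hψ, hiff⟩ := exists_sourceChart hU hφ (g : Γ(X, U)) G hG m K
    refine ⟨_, Scheme.Opens.ι (X := Spec (PR Γ(S, V) n)) (PrimeSpectrum.basicOpen G), inferInstance, ⟨c.base x, ?_⟩, rfl,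
      hiff.1 ((chartPC_indep (hU.basicOpen _) hψ₀ hψ m K).1 hPC)⟩
    have hx' : x ∈ U.toSpecΓ ⁻¹ᵁ PrimeSpectrum.basicOpen (g : Γ(X, U)) := by
      rw [toSpecΓ_preimage hU]
      exact hxg
    rw [← hG] at hx'
    exact hx'
  · obtain ⟨i⟩ := nonempty_chartD_push U c K
    obtain ⟨W, j, hj, w, hw, hp⟩ := exists_away c m ((DCohPerf.RD U.ι).obj K) hy
    exact ⟨W, j, hj, w, hw, DCohPerf.isPC_of_iso hp ((DCohPerf.RD j).mapIso i.symm)⟩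

theorem GoodPair.of_base_basicOpen {U : X.Opens} (hU : IsAffineOpen U) {V : S.Opens} (hV : IsAffineOpen V)
    (r : Γ(S, V)) {h' : U ≤ f ⁻¹ᵁ S.basicOpen r} (h : U ≤ f ⁻¹ᵁ V)
    (hP : GoodPair f m K U (S.basicOpen r) h') : GoodPair f m K U V h := by
  obtain ⟨n, φ, hφ, hPC⟩ := hP
  obtain ⟨ψ, hψ, hiff⟩ := exists_targetChart hU hV r h' h hφ m K
  exact ⟨_, ψ, hψ, hiff.2 hPC⟩

theorem GoodPair.base_basicOpen [LocallyOfFiniteType f] {U : X.affineOpens} {V : S.affineOpens}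
    (r : Γ(S, (V : S.Opens))) (h' : (U : X.Opens) ≤ f ⁻¹ᵁ S.basicOpen r) {h : (U : X.Opens) ≤ f ⁻¹ᵁ (V : S.Opens)}
    (hP : GoodPair f m K U V h) : GoodPair f m K U (S.basicOpen r) h' := by
  obtain ⟨n, φ, hφ⟩ := exists_chart f U (S.affineBasicOpen r) h'
  obtain ⟨ψ, hψ, hiff⟩ := exists_targetChart U.2 V.2 r h' h hφ m K
  obtain ⟨k, ψ₀, hψ₀, hPC⟩ := hP
  exact ⟨n, φ, hφ, hiff.1 ((chartPC_indep U.2 hψ₀ hψ m K).1 hPC)⟩

theorem exists_basicOpen_goodPair [LocallyOfFiniteType f]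
    (U₀ : X.affineOpens) (V₀ : S.affineOpens) (h₀ : (U₀ : X.Opens) ≤ f ⁻¹ᵁ (V₀ : S.Opens))
    (U₁ : X.affineOpens) (V₁ : S.affineOpens) (h₁ : (U₁ : X.Opens) ≤ f ⁻¹ᵁ (V₁ : S.Opens))
    (hP : GoodPair f m K U₁ V₁ h₁) (x : X) (hx₀ : x ∈ (U₀ : X.Opens)) (hx₁ : x ∈ (U₁ : X.Opens)) :
    ∃ g : Γ(X, (U₀ : X.Opens)), x ∈ X.basicOpen g ∧
      GoodPair f m K (X.basicOpen g) V₀ ((X.basicOpen_le g).trans h₀) := by
  obtain ⟨a, b, hab, hya⟩ := exists_basicOpen_le_affine_inter V₀.2 V₁.2 (f x) ⟨h₀ hx₀, h₁ hx₁⟩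
  let U₁' : X.affineOpens := X.affineBasicOpen (f.appLE (V₁ : S.Opens) (U₁ : X.Opens) h₁ b)
  have hU₁' : (U₁' : X.Opens) = (U₁ : X.Opens) ⊓ f ⁻¹ᵁ S.basicOpen b := by
    change X.basicOpen _ = _
    rw [Scheme.basicOpen_appLE]
  have hx' : x ∈ (U₁' : X.Opens) := by rw [hU₁']; exact ⟨hx₁, hab ▸ hya⟩
  have hle : (U₁' : X.Opens) ≤ f ⁻¹ᵁ S.basicOpen b := hU₁'.le.trans inf_le_right
  have p₁ : GoodPair f m K U₁' (S.affineBasicOpen b) hle :=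
    GoodPair.base_basicOpen (U := U₁') (V := V₁) b hle (hP.basicOpen U₁.2 _)
  obtain ⟨g, g', hg, hxg⟩ := exists_basicOpen_le_affine_inter U₀.2 U₁'.2 x ⟨hx₀, hx'⟩
  refine ⟨g, hxg, ?_⟩
  have p₂ := p₁.basicOpen U₁'.2 g'
  have hleg : X.basicOpen g ≤ f ⁻¹ᵁ S.basicOpen a := by
    rw [hg, hab]; exact (X.basicOpen_le g').trans hle
  exact GoodPair.of_base_basicOpen (U₀.2.basicOpen g) V₀.2 a (h' := hleg) _
    ((goodPair_congr hg.symm hab.symm).1 p₂)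

theorem exists_goodPair (hK : DerSch.IsPseudoCoherentRel f m K) (x : X) :
    ∃ (U : X.affineOpens) (V : S.affineOpens) (h : (U : X.Opens) ≤ f ⁻¹ᵁ (V : S.Opens)),
      x ∈ (U : X.Opens) ∧ GoodPair f m K U V h := by
  obtain ⟨-, 𝒱, h𝒱, H⟩ := hK
  have hfx : f x ∈ ⨆ V ∈ 𝒱, (V : S.Opens) := h𝒱 ▸ trivial
  simp only [Opens.mem_iSup] at hfx
  obtain ⟨V, hV, hVx⟩ := hfx
  obtain ⟨𝒰, h𝒰, HU⟩ := H V hV
  have hx : x ∈ ⨆ U ∈ 𝒰, (U : X.Opens) := h𝒰 ▸ hVx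
  simp only [Opens.mem_iSup] at hx
  obtain ⟨U, hU, hUx⟩ := hx
  have hUV : (U : X.Opens) ≤ f ⁻¹ᵁ (V : S.Opens) :=
    (le_iSup₂ (f := fun (U : X.affineOpens) (_ : U ∈ 𝒰) => (U : X.Opens)) U hU).trans h𝒰.le
  exact ⟨U, V, hUV, hUx, HU U hU hUV⟩

theorem goodPair_of_local [LocallyOfFiniteType f]
    (U : X.affineOpens) (V : S.affineOpens) (h : (U : X.Opens) ≤ f ⁻¹ᵁ (V : S.Opens))
    (H : ∀ x ∈ (U : X.Opens), ∃ (U₁ : X.affineOpens) (V₁ : S.affineOpens)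
      (h₁ : (U₁ : X.Opens) ≤ f ⁻¹ᵁ (V₁ : S.Opens)), x ∈ (U₁ : X.Opens) ∧ GoodPair f m K U₁ V₁ h₁) :
    GoodPair f m K U V h := by
  obtain ⟨n, φ, hφ⟩ := exists_chart f U V h
  refine GoodPair.of_cover U.2 hφ {g | GoodPair f m K (X.basicOpen g) V ((X.basicOpen_le g).trans h)} ?_
    fun g hg => hg
  rw [← U.2.iSup_basicOpen_eq_self_iff]
  refine le_antisymm (iSup_le fun g => X.basicOpen_le _) fun x hx => ?_
  obtain ⟨U₁, V₁, h₁, hx₁, hP⟩ := H x hx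
  obtain ⟨g, hxg, hg⟩ := exists_basicOpen_goodPair U V h U₁ V₁ h₁ hP x hx hx₁
  exact Opens.mem_iSup.mpr ⟨⟨g, hg⟩, hxg⟩

theorem goodPair_of_isRel (hK : DerSch.IsPseudoCoherentRel f m K)
    (U : X.affineOpens) (V : S.affineOpens) (h : (U : X.Opens) ≤ f ⁻¹ᵁ (V : S.Opens)) : GoodPair f m K U V h :=
  haveI : LocallyOfFiniteType f := hK.1
  goodPair_of_local U V h fun x _ => exists_goodPair hK x

/-- Relative pseudo-coherence holds along every chart. -/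
theorem chartPC_of_isRel (hK : DerSch.IsPseudoCoherentRel f m K) {U : X.Opens} (hU : IsAffineOpen U)
    {V : S.Opens} (hV : IsAffineOpen V) {h : U ≤ f ⁻¹ᵁ V} {n : ℕ} {φ : MvPolynomial (Fin n) Γ(S, V) →+* Γ(X, U)}
    (hφ : DerSch.IsChart f U V h φ) : DerSch.ChartPC m K U V φ := by
  obtain ⟨k, ψ, hψ, hPC⟩ := goodPair_of_isRel hK ⟨U, hU⟩ ⟨V, hV⟩ h
  exact (chartPC_indep hU hψ hφ m K).1 hPC

theorem isRel_iff [LocallyOfFiniteType f] :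
    DerSch.IsPseudoCoherentRel f m K ↔
      ∀ (U : X.affineOpens) (V : S.affineOpens) (h : (U : X.Opens) ≤ f ⁻¹ᵁ (V : S.Opens)), GoodPair f m K U V h :=
  ⟨goodPair_of_isRel, fun H => isPseudoCoherentRel_of_forall f m K H⟩

theorem isRel_of_local [LocallyOfFiniteType f]
    (H : ∀ x : X, ∃ (U₁ : X.affineOpens) (V₁ : S.affineOpens)
      (h₁ : (U₁ : X.Opens) ≤ f ⁻¹ᵁ (V₁ : S.Opens)), x ∈ (U₁ : X.Opens) ∧ GoodPair f m K U₁ V₁ h₁) :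
    DerSch.IsPseudoCoherentRel f m K :=
  isRel_iff.2 fun U V h => goodPair_of_local U V h fun x _ => H x

theorem isRel_triangle₃ (n : ℤ) {T : Pretriangulated.Triangle (DCoh.D X)} (hT : T ∈ Pretriangulated.distinguishedTriangles)
    (h₁ : DerSch.IsPseudoCoherentRel f (n + 1) T.obj₁) (h₂ : DerSch.IsPseudoCoherentRel f n T.obj₂) :
    DerSch.IsPseudoCoherentRel f n T.obj₃ := by
  haveI : LocallyOfFiniteType f := h₁.1
  refine isRel_iff.2 fun U V h => ?_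
  obtain ⟨k, φ, hφ⟩ := exists_chart f U V h
  haveI := isClosedImmersion_chartImm U.2 hφ
  exact ⟨k, φ, hφ, (chartPC_iff _ _ _ _ φ).2 (DCohPerf.isPC_triangle₃ n
    ((chartD (U : X.Opens) (DerSch.chartImm (U : X.Opens) φ)).map_distinguished _ hT)
    ((chartPC_iff _ _ _ _ φ).1 (chartPC_of_isRel h₁ U.2 V.2 hφ)) ((chartPC_iff _ _ _ _ φ).1 (chartPC_of_isRel h₂ U.2 V.2 hφ)))⟩

theorem isRel_triangle₂ (n : ℤ) {T : Pretriangulated.Triangle (DCoh.D X)} (hT : T ∈ Pretriangulated.distinguishedTriangles)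
    (h₁ : DerSch.IsPseudoCoherentRel f n T.obj₁) (h₃ : DerSch.IsPseudoCoherentRel f n T.obj₃) :
    DerSch.IsPseudoCoherentRel f n T.obj₂ := by
  haveI : LocallyOfFiniteType f := h₁.1
  refine isRel_iff.2 fun U V h => ?_
  obtain ⟨k, φ, hφ⟩ := exists_chart f U V h
  haveI := isClosedImmersion_chartImm U.2 hφ
  exact ⟨k, φ, hφ, (chartPC_iff _ _ _ _ φ).2 (DCohPerf.isPC_triangle₂ n
    ((chartD (U : X.Opens) (DerSch.chartImm (U : X.Opens) φ)).map_distinguished _ hT)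
    ((chartPC_iff _ _ _ _ φ).1 (chartPC_of_isRel h₁ U.2 V.2 hφ)) ((chartPC_iff _ _ _ _ φ).1 (chartPC_of_isRel h₃ U.2 V.2 hφ)))⟩

theorem isRel_triangle₁ (n : ℤ) {T : Pretriangulated.Triangle (DCoh.D X)} (hT : T ∈ Pretriangulated.distinguishedTriangles)
    (h₂ : DerSch.IsPseudoCoherentRel f n T.obj₂) (h₃ : DerSch.IsPseudoCoherentRel f (n - 1) T.obj₃) :
    DerSch.IsPseudoCoherentRel f n T.obj₁ := by
  haveI : LocallyOfFiniteType f := h₂.1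
  refine isRel_iff.2 fun U V h => ?_
  obtain ⟨k, φ, hφ⟩ := exists_chart f U V h
  haveI := isClosedImmersion_chartImm U.2 hφ
  obtain ⟨q, rfl⟩ : ∃ q : ℤ, n = q + 1 := ⟨n - 1, by omega⟩
  rw [show q + 1 - 1 = q by omega] at h₃
  exact ⟨k, φ, hφ, (chartPC_iff _ _ _ _ φ).2 (DCohPerf.isPC_triangle₁ q
    ((chartD (U : X.Opens) (DerSch.chartImm (U : X.Opens) φ)).map_distinguished _ hT)
    ((chartPC_iff _ _ _ _ φ).1 (chartPC_of_isRel h₂ U.2 V.2 hφ)) ((chartPC_iff _ _ _ _ φ).1 (chartPC_of_isRel h₃ U.2 V.2 hφ)))⟩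

end Groth.Agent.RelPC
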