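import Groth.Agent.RelPC.ClosedPC
import Mathlib.Algebra.MvPolynomial.Equiv
import Mathlib.RingTheory.Ideal.Quotient.Operations

/-!
Retractions of polynomial rings give closed immersions with pseudo-coherent structure sheaf.
-/

set_option autoImplicit false
set_option linter.style.haveILetI false

universe u

open CategoryTheory CategoryTheory.Limits CategoryTheory.Pretriangulated AlgebraicGeometry

attribute [local instance] HasDerivedCategory.standard

namespace Groth.Agent.RelPC

lemma isPC_tilde_free {R : CommRingCat.{u}} (M : ModuleCat.{u} R) [Module.Finite R M] [Module.Projective R M] (m : ℤ) :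
    DCoh.IsPseudoCoherentD m (DCoh.inD (Spec R) (tilde M)) :=
  DCohPerf.isPC_of_isPerfect (DCohPerf.isPerfect_inD_of_finLocFree (LocFree.isFinLocFree_tilde M))

/-- Goodness from a presentation of the quotient. -/
theorem goodImm_of_tilde {R' R : CommRingCat.{u}} (π : R' ⟶ R) (hπ : Function.Surjective π.hom)
    [IsClosedImmersion (Spec.map π)]
    (h : ∀ m : ℤ, DCoh.IsPseudoCoherentD m
      (DCoh.inD (Spec R') (tilde (ModuleCat.of R' (R' ⧸ RingHom.ker π.hom))))) :
    GoodImm (Spec.map π) := fun m => by
  let N := (Scheme.Modules.pushforward (Spec.map π)).obj (Coh.structureModule (Spec R))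
  haveI : (Coh.structureModule (Spec R)).IsQuasicoherent :=
    (QCohLib.isCoh_of_isFP (DCohPerf.isFP_of_iso (coproductUniqueIso fun _ : Fin 1 => Coh.structureModule (Spec R))
      (DCohPerf.isFP_free 1))).1
  haveI : N.IsQuasicoherent := QCohLib.isQuasicoherent_pushforward (Spec.map π)
  let one : QCohLib.ΓR N := (1 : Γ(Spec R, ⊤))
  let l : R' →ₗ[R'] QCohLib.ΓR N := LinearMap.toSpanSingleton R' (QCohLib.ΓR N) one
  have hl : ∀ r : R', (show Γ(Spec R, ⊤) from l r) = (Scheme.ΓSpecIso R).inv (π r) := fun r => by
    refine Eq.trans ?_ (ConcreteCategory.congr_hom (Scheme.ΓSpecIso_inv_naturality π) r).symm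
    refine (Scheme.Modules.smul_Spec_def (M := N) r one).trans ?_
    rw [show (⊤ : (Spec R').Opens).leTop.op = 𝟙 _ from rfl, CategoryTheory.Functor.map_id]
    exact mul_one (M := Γ(Spec R, ⊤)) _
  have hsurj : Function.Surjective l := fun y => by
    obtain ⟨r, hr⟩ := hπ ((Scheme.ΓSpecIso R).hom (show Γ(Spec R, ⊤) from y))
    exact ⟨r, (hl r).trans (by rw [hr]; exact Iso.hom_inv_id_apply (Scheme.ΓSpecIso R) _)⟩
  have hker : LinearMap.ker l = RingHom.ker π.hom := by
    ext r
    refine LinearMap.mem_ker.trans ?_
    rw [RingHom.mem_ker]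
    refine ⟨fun h => ?_, fun h => (hl r).trans (by rw [h]; exact map_zero (Scheme.ΓSpecIso R).inv.hom)⟩
    have h' := congrArg (Scheme.ΓSpecIso R).hom ((hl r).symm.trans h)
    exact (Iso.inv_hom_id_apply (Scheme.ΓSpecIso R) _).symm.trans (h'.trans (map_zero (Scheme.ΓSpecIso R).hom.hom))
  let e : (R' ⧸ RingHom.ker π.hom) ≃ₗ[R'] QCohLib.ΓR N :=
    (Submodule.quotEquivOfEq _ _ hker.symm).trans (l.quotKerEquivOfSurjective hsurj)
  exact DCohPerf.isPC_of_iso (h m) ((DerivedCategory.singleFunctor _ 0).mapIso
    ((tilde.functor R').mapIso e.toModuleIso ≪≫ QCohLib.counitIso N))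

/-- A retraction with kernel generated by a regular element. -/
theorem goodImm_of_principal {R' R : CommRingCat.{u}} (π : R' ⟶ R) (hπ : Function.Surjective π.hom)
    [IsClosedImmersion (Spec.map π)] (a : R') (ha : IsSMulRegular R' a) (hker : RingHom.ker π.hom = Ideal.span {a}) :
    GoodImm (Spec.map π) := by
  refine goodImm_of_tilde π hπ fun m => ?_
  rw [hker]
  let S : ShortComplex (ModuleCat.{u} R') := ShortComplex.mk (ModuleCat.ofHom (LinearMap.mulLeft R' a))
    (ModuleCat.ofHom (Submodule.mkQ (Ideal.span {a})))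
    (by ext; exact (Submodule.Quotient.mk_eq_zero _).2 (Ideal.mem_span_singleton'.2 ⟨_, mul_comm _ _⟩))
  have hS : S.ShortExact :=
    { exact := (ShortComplex.ShortExact.moduleCat_exact_iff_function_exact S).2 fun y =>
        ⟨fun h => by
          obtain ⟨c, hc⟩ := Ideal.mem_span_singleton'.1 ((Submodule.Quotient.mk_eq_zero _).1 h)
          exact ⟨c, (mul_comm a c).trans hc⟩,
         fun ⟨c, hc⟩ => (Submodule.Quotient.mk_eq_zero _).2 (Ideal.mem_span_singleton'.2 ⟨c, (mul_comm c a).trans hc⟩)⟩
      mono_f := (ModuleCat.mono_iff_injective _).2 ha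
      epi_g := (ModuleCat.epi_iff_surjective _).2 (Submodule.Quotient.mk_surjective _) }
  haveI : PreservesFiniteLimits (tilde.functor R') := QCohLib.preservesFiniteLimits_tilde
  haveI : PreservesFiniteColimits (tilde.functor R') := by
    haveI : PreservesColimitsOfSize.{0, 0} (tilde.functor R') := (tilde.adjunction (R := R')).leftAdjoint_preservesColimits
    exact PreservesColimitsOfSize.preservesFiniteColimits _
  have hS' : (S.map (tilde.functor R')).ShortExact := hS.map_of_exact _
  haveI : Module.Finite R' S.X₁ := inferInstanceAs (Module.Finite R' R')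
  haveI : Module.Projective R' S.X₁ := inferInstanceAs (Module.Projective R' R')
  haveI : Module.Finite R' S.X₂ := inferInstanceAs (Module.Finite R' R')
  haveI : Module.Projective R' S.X₂ := inferInstanceAs (Module.Projective R' R')
  exact DCohPerf.isPC_triangle₃ m hS'.singleTriangle_distinguished (isPC_tilde_free S.X₁ (m + 1)) (isPC_tilde_free S.X₂ m)

theorem GoodImm.of_eq {Z P : Scheme.{u}} {ι κ : Z ⟶ P} (e : ι = κ) [IsClosedImmersion ι] (h : GoodImm ι) :
    GoodImm κ := by
  subst e
  exact h

theorem GoodImm.comp {Z Y P : Scheme.{u}} {κ : Z ⟶ Y} {ι : Y ⟶ P} [IsClosedImmersion κ] [IsClosedImmersion ι]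
    (hκ : GoodImm κ) (hι : GoodImm ι) : GoodImm (κ ≫ ι) := fun m =>
  DCohPerf.isPC_of_iso (isPC_pushD hι (hκ m)) (pushDInD ι _ ≪≫
    (DerivedCategory.singleFunctor P.Modules 0).mapIso ((Scheme.Modules.pushforwardComp κ ι).app _))

section Poly

open MvPolynomial

variable (R : Type u) [CommRing R]

/-- A polynomial algebra, as a ring object. -/
noncomputable abbrev PR (n : ℕ) : CommRingCat.{u} := CommRingCat.of (MvPolynomial (Fin n) R)

variable {R}

lemma surjective_of_section {m n : ℕ} (π : MvPolynomial (Fin m) R →ₐ[R] MvPolynomial (Fin n) R) (i : Fin n → Fin m)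
    (h : ∀ j, π (X (i j)) = X j) : Function.Surjective π := fun p => by
  refine ⟨rename i p, ?_⟩
  rw [← AlgHom.comp_apply, show π.comp (rename i) = AlgHom.id R _ from MvPolynomial.algHom_ext fun j => by simp [h]]
  rfl

theorem goodImm_retraction : ∀ (k n : ℕ) (π : MvPolynomial (Fin (n + k)) R →ₐ[R] MvPolynomial (Fin n) R),
    (∀ j : Fin n, π (X (j.addNat k)) = X j) →
    ∀ [IsClosedImmersion (Spec.map (CommRingCat.ofHom π.toRingHom : PR R (n + k) ⟶ PR R n))],
      GoodImm (Spec.map (CommRingCat.ofHom π.toRingHom : PR R (n + k) ⟶ PR R n))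
  | 0, n, π, h, _ => by
    have e : π = AlgHom.id R _ := MvPolynomial.algHom_ext fun j => h j
    subst e
    refine goodImm_of_tilde _ Function.surjective_id fun m => ?_
    have hk : RingHom.ker (CommRingCat.ofHom (AlgHom.id R (MvPolynomial (Fin n) R)).toRingHom :
        PR R n ⟶ PR R n).hom = ⊥ := (RingHom.injective_iff_ker_eq_bot _).1 fun a b hab => hab
    rw [hk]
    haveI : Module.Projective (PR R n) (PR R n ⧸ (⊥ : Ideal (PR R n))) :=
      Module.Projective.of_equiv (Submodule.quotEquivOfEqBot (⊥ : Ideal (PR R n)) rfl).symm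
    exact isPC_tilde_free _ m
  | k + 1, n, π, h, _ => by
    let up : Fin n → Fin (n + k) := fun j => j.addNat k
    let q : MvPolynomial (Fin (n + k)) R := rename up (π (X (0 : Fin (n + k + 1))))
    let π₁ : MvPolynomial (Fin (n + k + 1)) R →ₐ[R] MvPolynomial (Fin (n + k)) R := aeval (Fin.cons q X)
    let π₀ : MvPolynomial (Fin (n + k)) R →ₐ[R] MvPolynomial (Fin n) R :=
      (π : MvPolynomial (Fin (n + k + 1)) R →ₐ[R] _).comp (rename Fin.succ)
    have h₀ : ∀ j : Fin n, π₀ (X (j.addNat k)) = X j := fun j => by
      show π (rename Fin.succ (X (j.addNat k))) = X j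
      rw [rename_X]
      exact h j
    have hsec : ∀ j : Fin (n + k), π₁ (X j.succ) = X j := fun j => by simp [π₁]
    have hq : π₀ q = π (X (0 : Fin (n + k + 1))) := by
      show π₀ (rename up _) = _
      rw [← AlgHom.comp_apply, show π₀.comp (rename up) = AlgHom.id R _ from MvPolynomial.algHom_ext fun j => by
        show π₀ (rename up (X j)) = X j
        rw [rename_X]
        exact h₀ j]
      rfl
    have hfac : (π : MvPolynomial (Fin (n + k + 1)) R →ₐ[R] _) = π₀.comp π₁ := MvPolynomial.algHom_ext fun j => by
      induction j using Fin.cases with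
      | zero => simp [π₁, hq]
      | succ j => rw [AlgHom.comp_apply, hsec]; show _ = π (rename Fin.succ (X j)); rw [rename_X]
    have hs₁ : Function.Surjective π₁ := surjective_of_section π₁ Fin.succ hsec
    have hs₀ : Function.Surjective π₀ := surjective_of_section π₀ _ h₀
    let P₁ : PR R (n + k + 1) ⟶ PR R (n + k) := CommRingCat.ofHom π₁.toRingHom
    let P₀ : PR R (n + k) ⟶ PR R n := CommRingCat.ofHom π₀.toRingHom
    haveI : IsClosedImmersion (Spec.map P₁) := IsClosedImmersion.spec_of_surjective _ hs₁
    haveI : IsClosedImmersion (Spec.map P₀) := IsClosedImmersion.spec_of_surjective _ hs₀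
    let a : MvPolynomial (Fin (n + k + 1)) R := X 0 - rename Fin.succ q
    have hker : RingHom.ker P₁.hom = Ideal.span {a} := by
      refine le_antisymm (fun p hp => ?_) ((Ideal.span_singleton_le_iff_mem _).2 ?_)
      · have e : (Ideal.Quotient.mkₐ R (Ideal.span {a})).comp ((rename Fin.succ).comp π₁) =
            Ideal.Quotient.mkₐ R (Ideal.span {a}) := MvPolynomial.algHom_ext fun j => by
          induction j using Fin.cases with
          | zero =>
            show Ideal.Quotient.mk _ (rename Fin.succ (π₁ (X 0))) = Ideal.Quotient.mk _ (X 0)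
            rw [Ideal.Quotient.eq]
            have : π₁ (X 0) = q := by simp [π₁]
            rw [this]
            exact Ideal.mem_span_singleton'.2 ⟨-1, by simp [a]⟩
          | succ j =>
            show Ideal.Quotient.mk _ (rename Fin.succ (π₁ (X j.succ))) = Ideal.Quotient.mk _ (X j.succ)
            rw [hsec, rename_X]
        have h' := AlgHom.congr_fun e p
        have hp' : π₁ p = 0 := hp
        refine Ideal.Quotient.eq_zero_iff_mem.1 ?_
        refine h'.symm.trans ?_
        show Ideal.Quotient.mk (Ideal.span {a}) (rename Fin.succ (π₁ p)) = 0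
        rw [hp', map_zero, map_zero]
      · show π₁ (X 0 - rename Fin.succ q) = 0
        rw [map_sub, ← AlgHom.comp_apply, show π₁.comp (rename Fin.succ) = AlgHom.id R _ from
          MvPolynomial.algHom_ext fun j => by
            show π₁ (rename Fin.succ (X j)) = X j
            rw [rename_X]
            exact hsec j]
        simp [π₁]
    have hreg : IsSMulRegular (MvPolynomial (Fin (n + k + 1)) R) a := by
      have ha : finSuccEquiv R (n + k) a = Polynomial.X - Polynomial.C q := by
        rw [map_sub, finSuccEquiv_X_zero]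
        congr 1
        exact AlgHom.congr_fun (show (finSuccEquiv R (n + k)).toAlgHom.comp (rename Fin.succ) =
          (IsScalarTower.toAlgHom R (MvPolynomial (Fin (n + k)) R) _) from MvPolynomial.algHom_ext fun j => by
            show finSuccEquiv R (n + k) (rename Fin.succ (X j)) = Polynomial.C (X j)
            rw [rename_X, finSuccEquiv_X_succ]) q
      intro s t hst
      apply (finSuccEquiv R (n + k)).injective
      apply (Polynomial.monic_X_sub_C q).isRegular.left
      have := congrArg (finSuccEquiv R (n + k)) hst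
      simpa [ha] using this
    refine GoodImm.of_eq (ι := Spec.map P₀ ≫ Spec.map P₁) ?_
      ((goodImm_retraction k n π₀ h₀).comp (goodImm_of_principal P₁ hs₁ a hreg hker))
    rw [← Spec.map_comp]
    congr 1
    exact CommRingCat.hom_ext (congrArg AlgHom.toRingHom hfac.symm)

end Poly

end Groth.Agent.RelPC
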