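import Groth.Agent.RelPC.GoodPoly
import Groth.Agent.RelPC.Chart

/-!
The chart test does not depend on the chart.
-/

set_option autoImplicit false
set_option linter.style.haveILetI false

universe u

open CategoryTheory CategoryTheory.Limits AlgebraicGeometry MvPolynomial

attribute [local instance] HasDerivedCategory.standard

namespace Groth.Agent.RelPC

variable {X Y : Scheme.{u}}

theorem goodImm_bijective {R' R : CommRingCat.{u}} (π : R' ⟶ R) (hπ : Function.Bijective π.hom)
    [IsClosedImmersion (Spec.map π)] : GoodImm (Spec.map π) := by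
  refine goodImm_of_tilde π hπ.2 fun m => ?_
  rw [(RingHom.injective_iff_ker_eq_bot _).1 hπ.1]
  haveI : Module.Projective R' (R' ⧸ (⊥ : Ideal R')) :=
    Module.Projective.of_equiv (Submodule.quotEquivOfEqBot (⊥ : Ideal R') rfl).symm
  exact isPC_tilde_free _ m

/-- Composing the chart with a closed immersion. -/
theorem nonempty_chartD_comp (U : X.Opens) {P Q : Scheme.{u}} (c : (U : Scheme.{u}) ⟶ P) (ι : P ⟶ Q)
    (d : (U : Scheme.{u}) ⟶ Q) (e : c ≫ ι = d) [IsClosedImmersion c] [IsClosedImmersion ι] [IsClosedImmersion d]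
    (K : DCoh.D X) : Nonempty ((pushD ι).obj ((chartD U c).obj K) ≅ (chartD U d).obj K) := by
  subst e
  let G := DerivedCategory.Q.objPreimage K
  let eK : DCoh.toD X G ≅ K := DerivedCategory.Q.objObjPreimageIso K
  exact ⟨(pushD ι).mapIso ((chartD U c).mapIso eK.symm ≪≫ chartDQ U c G) ≪≫ pushDQ ι _ ≪≫
    DerivedCategory.Q.mapIso ((NatIso.mapHomologicalComplex (Scheme.Modules.pushforwardComp c ι)
      (ComplexShape.up ℤ)).app ((DCoh.restrictCx U).obj G)) ≪≫
    (chartDQ U (c ≫ ι) G).symm ≪≫ (chartD U (c ≫ ι)).mapIso eK⟩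

variable {R A : Type u} [CommRing R] [CommRing A]

theorem chartPC_comp {U : X.Opens} {V : Y.Opens} {n N : ℕ} (φ : MvPolynomial (Fin n) Γ(Y, V) →+* Γ(X, U))
    (Φ : MvPolynomial (Fin N) Γ(Y, V) →+* Γ(X, U)) (π : MvPolynomial (Fin N) Γ(Y, V) →+* MvPolynomial (Fin n) Γ(Y, V))
    (e : φ.comp π = Φ) [IsClosedImmersion (DerSch.chartImm U φ)] [IsClosedImmersion (DerSch.chartImm U Φ)]
    [IsClosedImmersion (Spec.map (CommRingCat.ofHom π : PR Γ(Y, V) N ⟶ PR Γ(Y, V) n))]
    (hπ : GoodImm (Spec.map (CommRingCat.ofHom π : PR Γ(Y, V) N ⟶ PR Γ(Y, V) n))) (m : ℤ) (K : DCoh.D X) :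
    DerSch.ChartPC m K U V Φ ↔ DerSch.ChartPC m K U V φ := by
  have he : DerSch.chartImm U φ ≫ Spec.map (CommRingCat.ofHom π : PR Γ(Y, V) N ⟶ PR Γ(Y, V) n) =
      DerSch.chartImm U Φ := by
    subst e
    show (U.toSpecΓ ≫ Spec.map _) ≫ Spec.map _ = U.toSpecΓ ≫ Spec.map _
    rw [Category.assoc, ← Spec.map_comp]
    rfl
  obtain ⟨i⟩ := nonempty_chartD_comp U (DerSch.chartImm U φ) _ (DerSch.chartImm U Φ) he K
  rw [chartPC_iff, chartPC_iff, ← isPC_pushD_iff hπ]
  exact ⟨fun h => DCohPerf.isPC_of_iso h i.symm, fun h => DCohPerf.isPC_of_iso h i⟩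

/-- The variables of two charts side by side. -/
def glueVars (n k : ℕ) (a : Fin k → A) (b : Fin n → A) (i : Fin (n + k)) : A :=
  if h : i.val < k then a ⟨i.val, h⟩ else b ⟨i.val - k, by have := i.isLt; omega⟩

lemma glueVars_addNat (n k : ℕ) (a : Fin k → A) (b : Fin n → A) (j : Fin n) :
    glueVars n k a b (j.addNat k) = b j := by
  rw [glueVars, dif_neg (by simp)]
  congr 1
  ext
  simp

/-- Swapping the two groups. -/
def swapVars (n k : ℕ) : Fin (n + k) ≃ Fin (k + n) where
  toFun i := if h : i.val < k then ⟨i.val + n, by omega⟩ else ⟨i.val - k, by have := i.isLt; omega⟩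
  invFun i := if h : i.val < n then ⟨i.val + k, by omega⟩ else ⟨i.val - n, by have := i.isLt; omega⟩
  left_inv i := by
    by_cases h : i.val < k
    · simp [h]
    · have := i.isLt
      simp only [h, ↓reduceDIte]
      rw [dif_pos (by omega)]
      ext; simp; omega
  right_inv i := by
    by_cases h : i.val < n
    · simp [h]
    · have := i.isLt
      simp only [h, ↓reduceDIte]
      rw [dif_pos (by omega)]
      ext; simp; omega

lemma glueVars_swap (n k : ℕ) (a : Fin k → A) (b : Fin n → A) (i : Fin (n + k)) :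
    glueVars k n b a (swapVars n k i) = glueVars n k a b i := by
  by_cases h : i.val < k
  · simp [glueVars, swapVars, h]
  · have := i.isLt
    simp [glueVars, swapVars, h, show i.val - k < n by omega]

theorem chartPC_glue {f : X ⟶ Y} {U : X.Opens} {V : Y.Opens} {h : U ≤ f ⁻¹ᵁ V} (hU : IsAffineOpen U) {n : ℕ}
    {φ : MvPolynomial (Fin n) Γ(Y, V) →+* Γ(X, U)} (hφ : DerSch.IsChart f U V h φ) {k : ℕ} (a : Fin k → Γ(X, U))
    (m : ℤ) (K : DCoh.D X) :
    DerSch.ChartPC m K U V (eval₂Hom (f.appLE V U h).hom (glueVars n k a fun j => φ (MvPolynomial.X j))) ↔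
      DerSch.ChartPC m K U V φ := by
  classical
  choose l hl using hφ.1
  let π : MvPolynomial (Fin (n + k)) Γ(Y, V) →ₐ[Γ(Y, V)] MvPolynomial (Fin n) Γ(Y, V) :=
    aeval (glueVars n k (fun i => l (a i)) fun j => MvPolynomial.X j)
  have hπ : ∀ j : Fin n, π (MvPolynomial.X (j.addNat k)) = MvPolynomial.X j := fun j => by
    simp [π, glueVars_addNat]
  let Φ := eval₂Hom (f.appLE V U h).hom (glueVars n k a fun j => φ (MvPolynomial.X j))
  have e : φ.comp π.toRingHom = Φ := MvPolynomial.ringHom_ext (fun r => by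
      show φ (π (C r)) = Φ (C r)
      rw [show π (C r) = C r from by simp [π]]
      exact (RingHom.congr_fun hφ.2 r).trans (by simp [Φ]))
    fun i => by
      show φ (π (MvPolynomial.X i)) = Φ (MvPolynomial.X i)
      simp only [π, Φ, aeval_X, eval₂Hom_X', glueVars]
      split <;> simp [hl]
  have hs : Function.Surjective π := surjective_of_section π _ hπ
  have hΦ : DerSch.IsChart f U V h Φ := ⟨e ▸ hφ.1.comp hs, RingHom.ext fun r => by simp [Φ]⟩
  haveI := isClosedImmersion_chartImm hU hφ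
  haveI := isClosedImmersion_chartImm hU hΦ
  haveI : IsClosedImmersion (Spec.map (CommRingCat.ofHom π.toRingHom : PR Γ(Y, V) (n + k) ⟶ PR Γ(Y, V) n)) :=
    IsClosedImmersion.spec_of_surjective _ hs
  exact chartPC_comp φ Φ π.toRingHom e (goodImm_retraction k n π hπ) m K

theorem chartPC_indep {f : X ⟶ Y} {U : X.Opens} {V : Y.Opens} {h : U ≤ f ⁻¹ᵁ V} (hU : IsAffineOpen U) {n : ℕ}
    {φ : MvPolynomial (Fin n) Γ(Y, V) →+* Γ(X, U)} (hφ : DerSch.IsChart f U V h φ) {k : ℕ}
    {ψ : MvPolynomial (Fin k) Γ(Y, V) →+* Γ(X, U)} (hψ : DerSch.IsChart f U V h ψ) (m : ℤ) (K : DCoh.D X) :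
    DerSch.ChartPC m K U V φ ↔ DerSch.ChartPC m K U V ψ := by
  refine (chartPC_glue hU hφ (fun i => ψ (MvPolynomial.X i)) m K).symm.trans
    (Iff.trans ?_ (chartPC_glue hU hψ (fun j => φ (MvPolynomial.X j)) m K))
  let F₁ := eval₂Hom (f.appLE V U h).hom (glueVars n k (fun i => ψ (MvPolynomial.X i)) fun j => φ (MvPolynomial.X j))
  let F₂ := eval₂Hom (f.appLE V U h).hom (glueVars k n (fun j => φ (MvPolynomial.X j)) fun i => ψ (MvPolynomial.X i))
  let e := (renameEquiv Γ(Y, V) (swapVars n k)).toRingEquiv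
  have he : F₂.comp e.toRingHom = F₁ := MvPolynomial.ringHom_ext (fun r => by simp [F₁, F₂, e])
    fun i => by simp [F₁, F₂, e, glueVars_swap]
  have h₂ : DerSch.IsChart f U V h F₂ := by
    refine ⟨fun x => ?_, RingHom.ext fun r => by simp [F₂]⟩
    obtain ⟨p, rfl⟩ := hψ.1 x
    refine ⟨rename (fun j : Fin k => j.addNat n) p, ?_⟩
    rw [eval₂Hom_rename]
    refine RingHom.congr_fun (f := eval₂Hom _ _) (g := ψ) (MvPolynomial.ringHom_ext
      (fun r => (eval₂Hom_C _ _ r).trans (RingHom.congr_fun hψ.2 r).symm)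
      fun i => (eval₂Hom_X' _ _ i).trans (glueVars_addNat k n _ _ i)) p
  have h₁ : DerSch.IsChart f U V h F₁ := ⟨he ▸ h₂.1.comp e.surjective, RingHom.ext fun r => by simp [F₁]⟩
  haveI := isClosedImmersion_chartImm hU h₁
  haveI := isClosedImmersion_chartImm hU h₂
  haveI : IsClosedImmersion (Spec.map (CommRingCat.ofHom e.toRingHom : PR Γ(Y, V) (n + k) ⟶ PR Γ(Y, V) (k + n))) :=
    IsClosedImmersion.spec_of_surjective _ e.surjective
  exact chartPC_comp F₂ F₁ e.toRingHom he (goodImm_bijective _ e.bijective) m K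

end Groth.Agent.RelPC
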