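import Groth.Agent.RelPC.LocalizeBase
import Groth.Agent.RelPC.FP
import Groth.Agent.RelFPLib.Scheme

/-!
Relative pseudo-coherence is independent of the affine covers.
-/

set_option autoImplicit false
set_option linter.style.haveILetI false

universe u

open CategoryTheory CategoryTheory.Limits AlgebraicGeometry TopologicalSpace

attribute [local instance] HasDerivedCategory.standard

namespace Groth.Agent.RelPC

variable {X S : Scheme.{u}} {f : X ⟶ S} {m : ℤ} {K : DCoh.D X}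

lemma toSpecΓ_preimage {U : X.Opens} (hU : IsAffineOpen U) (g : Γ(X, U)) :
    U.toSpecΓ ⁻¹ᵁ PrimeSpectrum.basicOpen g = U.ι ⁻¹ᵁ X.basicOpen g := by
  rw [← hU.fromSpec_preimage_basicOpen g, ← Scheme.Hom.comp_preimage]
  congr 1
  rw [IsAffineOpen.toSpecΓ_fromSpec]

/-- The chart on a basic open of a chart. -/
theorem exists_sourceChart {U : X.Opens} (hU : IsAffineOpen U) {V : S.Opens} {h : U ≤ f ⁻¹ᵁ V} {n : ℕ}
    {φ : MvPolynomial (Fin n) Γ(S, V) →+* Γ(X, U)} (hφ : DerSch.IsChart f U V h φ) (g : Γ(X, U))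
    (G : MvPolynomial (Fin n) Γ(S, V)) (hG : φ G = g) (m : ℤ) (K : DCoh.D X)
    [IsClosedImmersion (DerSch.chartImm U φ)] :
    ∃ ψ : MvPolynomial (Fin (n + 1)) Γ(S, V) →+* Γ(X, X.basicOpen g),
      DerSch.IsChart f (X.basicOpen g) V ((X.basicOpen_le g).trans h) ψ ∧
      (DerSch.ChartPC m K (X.basicOpen g) V ψ ↔ DCoh.IsPseudoCoherentD m
        ((DCohPerf.RD (Scheme.Opens.ι (X := Spec (PR Γ(S, V) n)) (PrimeSpectrum.basicOpen G))).obj
          ((chartD U (DerSch.chartImm U φ)).obj K))) := by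
  haveI := hU.isLocalization_basicOpen g
  let res : Γ(X, U) ⟶ Γ(X, X.basicOpen g) := X.presheaf.map (homOfLE (X.basicOpen_le g)).op
  let L := Localization.Away G
  have hu : IsUnit ((res.hom.comp φ) G) := by
    rw [RingHom.comp_apply, hG]
    exact IsLocalization.Away.algebraMap_isUnit (S := Γ(X, X.basicOpen g)) g
  let θ : L →+* Γ(X, X.basicOpen g) := IsLocalization.Away.lift G hu
  have hθ : ∀ p, θ (algebraMap _ L p) = res (φ p) := fun p => IsLocalization.Away.lift_eq G hu p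
  let π : MvPolynomial (Fin (n + 1)) Γ(S, V) →+* L :=
    MvPolynomial.eval₂Hom ((algebraMap (MvPolynomial (Fin n) Γ(S, V)) L).comp MvPolynomial.C)
      (Fin.cons (α := fun _ => L) (IsLocalization.Away.invSelf G) fun i => algebraMap (MvPolynomial (Fin n) Γ(S, V)) L (MvPolynomial.X i))
  have hs : ∀ p, π (MvPolynomial.rename Fin.succ p) = algebraMap _ L p := fun p =>
    RingHom.congr_fun (f := π.comp (MvPolynomial.rename Fin.succ).toRingHom) (g := algebraMap _ L)
      (MvPolynomial.ringHom_ext (fun r => by simp [π]) fun i => by simp [π]) p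
  have h0 : algebraMap (MvPolynomial (Fin n) Γ(S, V)) L G * π (MvPolynomial.X 0) = 1 := by
    simp [π]
  obtain ⟨hπs, hπ⟩ := goodImm_away G π hs h0
  haveI : IsClosedImmersion (Spec.map (CommRingCat.ofHom π : PR Γ(S, V) (n + 1) ⟶ CommRingCat.of L)) :=
    IsClosedImmersion.spec_of_surjective _ hπs
  have hθs : Function.Surjective θ := fun y => by
    obtain ⟨k, a, ha⟩ := IsLocalization.Away.surj g y
    obtain ⟨p, hp⟩ := hφ.1 a
    refine ⟨algebraMap _ L p * IsLocalization.Away.invSelf G ^ k, ?_⟩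
    have hres : algebraMap Γ(X, U) Γ(X, X.basicOpen g) = res.hom := rfl
    rw [hres] at ha
    have hgi : res g * θ (IsLocalization.Away.invSelf G) = 1 := by
      have := congrArg θ (IsLocalization.Away.mul_invSelf (S := L) G)
      rwa [map_mul, hθ, hG, map_one] at this
    rw [map_mul, hθ, hp, ← ha, map_pow, mul_assoc, ← mul_pow, hgi, one_pow, mul_one]
  let ψ := θ.comp π
  have hψ : DerSch.IsChart f (X.basicOpen g) V ((X.basicOpen_le g).trans h) ψ := by
    refine ⟨hθs.comp hπs, RingHom.ext fun r => ?_⟩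
    have e : π (MvPolynomial.C r) = algebraMap (MvPolynomial (Fin n) Γ(S, V)) L (MvPolynomial.C r) := by
      have := hs (MvPolynomial.C r)
      rwa [MvPolynomial.rename_C] at this
    show θ (π (MvPolynomial.C r)) = _
    rw [e, hθ, show φ (MvPolynomial.C r) = f.appLE V U h r from RingHom.congr_fun hφ.2 r]
    exact ConcreteCategory.congr_hom (Scheme.Hom.appLE_map f h (homOfLE (X.basicOpen_le g)).op) r
  refine ⟨ψ, hψ, ?_⟩
  haveI := isClosedImmersion_chartImm (hU.basicOpen g) hψ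
  let c := DerSch.chartImm U φ
  let W : (Spec (PR Γ(S, V) n)).Opens := PrimeSpectrum.basicOpen G
  let e : (W : Scheme.{u}) ≅ Spec (CommRingCat.of L) := basicOpenIsoSpecAway (R := PR Γ(S, V) n) G
  let κ : (W : Scheme.{u}) ⟶ Spec (PR Γ(S, V) (n + 1)) := e.hom ≫ Spec.map (CommRingCat.ofHom π)
  haveI : IsClosedImmersion κ := inferInstanceAs (IsClosedImmersion (_ ≫ _))
  have hκ : GoodImm κ := by
    haveI : IsClosedImmersion e.hom := inferInstance
    exact GoodImm.comp (goodImm_isIso e.hom) hπ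
  have hpre : c ⁻¹ᵁ W = U.ι ⁻¹ᵁ X.basicOpen g := by
    rw [← toSpecΓ_preimage hU g, ← hG]
    rfl
  let t : ((c ⁻¹ᵁ W : (U : Scheme.{u}).Opens) : Scheme.{u}) ≅ X.basicOpen g :=
    IsOpenImmersion.isoOfRangeEq ((c ⁻¹ᵁ W).ι ≫ U.ι) (X.basicOpen g).ι (by
      rw [Scheme.Hom.comp_base, TopCat.coe_comp, Set.range_comp, Scheme.Opens.range_ι, Scheme.Opens.range_ι, hpre]
      exact Set.image_preimage_eq_of_subset (fun x hx => by
        rw [Scheme.Opens.range_ι]
        exact X.basicOpen_le g hx))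
  have ha : t.hom ≫ (X.basicOpen g).ι = (c ⁻¹ᵁ W).ι ≫ U.ι := IsOpenImmersion.isoOfRangeEq_hom_fac _ _ _
  have ha' : t.hom ≫ X.homOfLE (X.basicOpen_le g) = (c ⁻¹ᵁ W).ι := by
    rw [← cancel_mono U.ι, Category.assoc, Scheme.homOfLE_ι, ha]
  have hd' : t.hom ≫ (X.basicOpen g).toSpecΓ ≫ Spec.map (CommRingCat.ofHom θ) = (c ∣_ W) ≫ e.hom := by
    rw [← cancel_mono (Spec.map (CommRingCat.ofHom (algebraMap (PR Γ(S, V) n) L)))]
    simp only [Category.assoc]
    rw [basicOpenIsoSpecAway_hom_SpecMap, morphismRestrict_ι, ← Spec.map_comp,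
      show CommRingCat.ofHom (algebraMap (PR Γ(S, V) n) L) ≫ CommRingCat.ofHom θ = CommRingCat.ofHom φ ≫ res from
        CommRingCat.hom_ext (RingHom.ext hθ), Spec.map_comp, Scheme.Opens.toSpecΓ_SpecMap_presheaf_map_assoc,
      reassoc_of% ha']
    rfl
  have hd : t.hom ≫ DerSch.chartImm (X.basicOpen g) ψ = (c ∣_ W) ≫ κ := by
    show _ = (c ∣_ W) ≫ e.hom ≫ _
    rw [← Category.assoc (c ∣_ W), ← hd']
    simp only [Category.assoc, ← Spec.map_comp]
    rfl
  obtain ⟨i⟩ := nonempty_restrict_push U c W κ (X.basicOpen g) (DerSch.chartImm (X.basicOpen g) ψ) t.hom ha hd K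
  rw [chartPC_iff, ← isPC_pushD_iff hκ]
  exact ⟨fun h => DCohPerf.isPC_of_iso h i.symm, fun h => DCohPerf.isPC_of_iso h i⟩

/-- The chart over a basic open of the base, seen over the base. -/
theorem exists_targetChart {U : X.Opens} (hU : IsAffineOpen U) {V : S.Opens} (hV : IsAffineOpen V) (r : Γ(S, V))
    (h' : U ≤ f ⁻¹ᵁ S.basicOpen r) (h : U ≤ f ⁻¹ᵁ V) {n : ℕ}
    {φ : MvPolynomial (Fin n) Γ(S, S.basicOpen r) →+* Γ(X, U)}
    (hφ : DerSch.IsChart f U (S.basicOpen r) h' φ) (m : ℤ) (K : DCoh.D X) :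
    ∃ ψ : MvPolynomial (Fin (n + 1)) Γ(S, V) →+* Γ(X, U), DerSch.IsChart f U V h ψ ∧
      (DerSch.ChartPC m K U V ψ ↔ DerSch.ChartPC m K U (S.basicOpen r) φ) := by
  haveI := hV.isLocalization_basicOpen r
  letI alg : Algebra (MvPolynomial (Fin n) Γ(S, V)) (MvPolynomial (Fin n) Γ(S, S.basicOpen r)) :=
    MvPolynomial.algebraMvPolynomial
  haveI : IsLocalization.Away (MvPolynomial.C r) (MvPolynomial (Fin n) Γ(S, S.basicOpen r)) := by
    have := MvPolynomial.isLocalization (σ := Fin n) (Submonoid.powers r) Γ(S, S.basicOpen r)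
    rwa [Submonoid.map_powers] at this
  let L := MvPolynomial (Fin n) Γ(S, S.basicOpen r)
  let π : MvPolynomial (Fin (n + 1)) Γ(S, V) →+* L :=
    MvPolynomial.eval₂Hom ((algebraMap (MvPolynomial (Fin n) Γ(S, V)) L).comp MvPolynomial.C)
      (Fin.cons (α := fun _ => L) (IsLocalization.Away.invSelf (MvPolynomial.C r : MvPolynomial (Fin n) Γ(S, V))) fun i => algebraMap (MvPolynomial (Fin n) Γ(S, V)) L (MvPolynomial.X i))
  have hs : ∀ p, π (MvPolynomial.rename Fin.succ p) = algebraMap _ L p := fun p =>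
    RingHom.congr_fun (f := π.comp (MvPolynomial.rename Fin.succ).toRingHom) (g := algebraMap _ L)
      (MvPolynomial.ringHom_ext (fun r => by simp [π]) fun i => by simp [π]) p
  have h0 : algebraMap (MvPolynomial (Fin n) Γ(S, V)) L (MvPolynomial.C r) * π (MvPolynomial.X 0) = 1 := by
    simp only [π, MvPolynomial.eval₂Hom_X', Fin.cons_zero]
    exact IsLocalization.Away.mul_invSelf _
  obtain ⟨hπs, hπ⟩ := goodImm_away (MvPolynomial.C r) π hs h0
  haveI : IsClosedImmersion (Spec.map (CommRingCat.ofHom π : PR Γ(S, V) (n + 1) ⟶ PR Γ(S, S.basicOpen r) n)) :=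
    IsClosedImmersion.spec_of_surjective _ hπs
  let ψ := φ.comp π
  have hψ : DerSch.IsChart f U V h ψ := by
    refine ⟨hφ.1.comp hπs, RingHom.ext fun s => ?_⟩
    have e : π (MvPolynomial.C s) = MvPolynomial.C (algebraMap Γ(S, V) Γ(S, S.basicOpen r) s) := by
      have := hs (MvPolynomial.C s)
      rw [MvPolynomial.rename_C] at this
      rw [this]
      exact MvPolynomial.map_C _ _
    show φ (π (MvPolynomial.C s)) = _
    rw [e, show φ (MvPolynomial.C _) = f.appLE (S.basicOpen r) U h' _ from RingHom.congr_fun hφ.2 _]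
    exact ConcreteCategory.congr_hom (Scheme.Hom.map_appLE f h' (homOfLE (S.basicOpen_le r)).op) s
  refine ⟨ψ, hψ, ?_⟩
  haveI := isClosedImmersion_chartImm hU hφ
  haveI := isClosedImmersion_chartImm hU hψ
  have he : DerSch.chartImm U φ ≫ Spec.map (CommRingCat.ofHom π : PR Γ(S, V) (n + 1) ⟶ PR Γ(S, S.basicOpen r) n) =
      DerSch.chartImm U ψ := by
    show (U.toSpecΓ ≫ Spec.map _) ≫ Spec.map _ = U.toSpecΓ ≫ Spec.map _
    rw [Category.assoc, ← Spec.map_comp]
    rfl
  obtain ⟨i⟩ := nonempty_chartD_comp U (DerSch.chartImm U φ) _ (DerSch.chartImm U ψ) he K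
  rw [chartPC_iff, chartPC_iff, ← isPC_pushD_iff hπ]
  exact ⟨fun h => DCohPerf.isPC_of_iso h i.symm, fun h => DCohPerf.isPC_of_iso h i⟩

end Groth.Agent.RelPC
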