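import Groth.Agent.RelPC.Indep
import Mathlib.RingTheory.Localization.Away.AdjoinRoot
import Mathlib.RingTheory.MvPolynomial.Localization

/-!
Comparing chart functors along isomorphisms, and localizations as good closed immersions.
-/

set_option autoImplicit false
set_option linter.style.haveILetI false

universe u

open CategoryTheory CategoryTheory.Limits AlgebraicGeometry

attribute [local instance] HasDerivedCategory.standard

namespace Groth.Agent.RelPC

section

variable {X : Scheme.{u}}

/-- Restriction along an isomorphism followed by direct image. -/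
noncomputable def restrictPushIso {A B : Scheme.{u}} (t : A ⟶ B) [IsIso t] :
    DCohPerf.rF t ⋙ Scheme.Modules.pushforward t ≅ 𝟭 B.Modules :=
  let u : DCohPerf.rF t ≅ Scheme.Modules.pushforward (inv t) :=
    (Functor.leftUnitor _).symm ≪≫ Functor.isoWhiskerRight ((Scheme.Modules.pushforwardComp (inv t) t ≪≫
      Scheme.Modules.pushforwardCongr (IsIso.inv_hom_id t) ≪≫ Scheme.Modules.pushforwardId B).symm) _ ≪≫
      Functor.associator _ _ _ ≪≫ Functor.isoWhiskerLeft _ (Scheme.Modules.restrictFunctorAdjCounitIso t) ≪≫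
      Functor.rightUnitor _
  Functor.isoWhiskerRight u _ ≪≫ Scheme.Modules.pushforwardComp (inv t) t ≪≫
      Scheme.Modules.pushforwardCongr (IsIso.inv_hom_id t) ≪≫ Scheme.Modules.pushforwardId B

theorem goodImm_isIso {A B : Scheme.{u}} (t : A ⟶ B) [IsIso t] [IsClosedImmersion t] : GoodImm t := fun m =>
  DCohPerf.isPC_of_iso (DCohPerf.isPC_of_isPerfect
      (DCohPerf.isPerfect_inD_of_finLocFree (DCohPerf.isFinLocFree_free 1)))
    ((DerivedCategory.singleFunctor B.Modules 0).mapIso (coproductUniqueIso (fun _ : Fin 1 => Coh.structureModule B) ≪≫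
      (restrictPushIso t).symm.app _ ≪≫ (Scheme.Modules.pushforward t).mapIso (Scheme.Modules.restrictUnitIso t)))

theorem nonempty_functor_congr {A B Q : Scheme.{u}} (a : A ⟶ X) (b : B ⟶ X) [IsOpenImmersion a] [IsOpenImmersion b]
    (t : A ⟶ B) [IsIso t] (g : A ⟶ Q) (d : B ⟶ Q) (ha : t ≫ b = a) (hd : t ≫ d = g) :
    Nonempty (DCohPerf.rF a ⋙ Scheme.Modules.pushforward g ≅ DCohPerf.rF b ⋙ Scheme.Modules.pushforward d) := by
  subst ha hd
  exact ⟨Functor.isoWhiskerRight (DCohPerf.rFComp t b) _ ≪≫ Functor.associator _ _ _ ≪≫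
    Functor.isoWhiskerLeft (DCohPerf.rF b) (Functor.isoWhiskerLeft _ (Scheme.Modules.pushforwardComp t d).symm ≪≫
      (Functor.associator _ _ _).symm ≪≫ Functor.isoWhiskerRight (restrictPushIso t) _ ≪≫ Functor.leftUnitor _)⟩

/-- A chart is restriction followed by exact direct image. -/
theorem nonempty_chartD_push (U : X.Opens) {P : Scheme.{u}} (c : (U : Scheme.{u}) ⟶ P) [IsClosedImmersion c]
    (K : DCoh.D X) : Nonempty ((chartD U c).obj K ≅ (pushD c).obj ((DCohPerf.RD U.ι).obj K)) := by
  let G := DerivedCategory.Q.objPreimage K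
  let eK : DCoh.toD X G ≅ K := DerivedCategory.Q.objObjPreimageIso K
  exact ⟨(chartD U c).mapIso eK.symm ≪≫ chartDQ U c G ≪≫ (pushDQ c _).symm ≪≫
    (pushD c).mapIso ((DCohPerf.RQ U.ι G).symm ≪≫ (DCohPerf.RD U.ι).mapIso eK)⟩

/-- Restricting a chart to an open of the ambient space and pushing on. -/
theorem nonempty_restrict_push (U : X.Opens) {P Q : Scheme.{u}} (c : (U : Scheme.{u}) ⟶ P) [IsClosedImmersion c]
    (W : P.Opens) (κ : (W : Scheme.{u}) ⟶ Q) [IsClosedImmersion κ] (U' : X.Opens) (d : (U' : Scheme.{u}) ⟶ Q)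
    [IsClosedImmersion d] (t : ((c ⁻¹ᵁ W : (U : Scheme.{u}).Opens) : Scheme.{u}) ⟶ U') [IsIso t]
    (ha : t ≫ U'.ι = (c ⁻¹ᵁ W).ι ≫ U.ι) (hd : t ≫ d = (c ∣_ W) ≫ κ) (K : DCoh.D X) :
    Nonempty ((pushD κ).obj ((DCohPerf.RD W.ι).obj ((chartD U c).obj K)) ≅ (chartD U' d).obj K) := by
  let G := DerivedCategory.Q.objPreimage K
  let eK : DCoh.toD X G ≅ K := DerivedCategory.Q.objObjPreimageIso K
  obtain ⟨r⟩ := HigherDirect.nonempty_push_restrict_iso c W
  obtain ⟨s⟩ := nonempty_functor_congr ((c ⁻¹ᵁ W).ι ≫ U.ι) U'.ι t ((c ∣_ W) ≫ κ) d ha hd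
  let F : DCohPerf.rF U.ι ⋙ Scheme.Modules.pushforward c ⋙ DCohPerf.rF W.ι ⋙ Scheme.Modules.pushforward κ ≅
      chartF U' d :=
    Functor.isoWhiskerLeft (DCohPerf.rF U.ι) ((Functor.associator _ _ _).symm ≪≫ Functor.isoWhiskerRight r _ ≪≫
      Functor.associator _ _ _) ≪≫ (Functor.associator _ _ _).symm ≪≫
    Functor.isoWhiskerRight (DCohPerf.rFComp (c ⁻¹ᵁ W).ι U.ι).symm _ ≪≫
    Functor.isoWhiskerLeft _ (Scheme.Modules.pushforwardComp (c ∣_ W) κ) ≪≫ s
  exact ⟨(pushD κ).mapIso ((DCohPerf.RD W.ι).mapIso ((chartD U c).mapIso eK.symm ≪≫ chartDQ U c G) ≪≫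
      DCohPerf.RQ W.ι _) ≪≫ pushDQ κ _ ≪≫
    DerivedCategory.Q.mapIso ((NatIso.mapHomologicalComplex F (ComplexShape.up ℤ)).app G) ≪≫
    (chartDQ U' d G).symm ≪≫ (chartD U' d).mapIso eK⟩

end

open MvPolynomial in
/-- A localization at one element, presented by one more variable. -/
theorem goodImm_away {A P' : Type u} [CommRing A] [CommRing P'] {n : ℕ} [Algebra (MvPolynomial (Fin n) A) P']
    (G : MvPolynomial (Fin n) A) [IsLocalization.Away G P'] (π : MvPolynomial (Fin (n + 1)) A →+* P')
    (hs : ∀ p, π (rename Fin.succ p) = algebraMap _ P' p)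
    (h0 : algebraMap (MvPolynomial (Fin n) A) P' G * π (X 0) = 1) :
    Function.Surjective π ∧ ∀ [IsClosedImmersion (Spec.map (CommRingCat.ofHom π : PR A (n + 1) ⟶ CommRingCat.of P'))],
      GoodImm (Spec.map (CommRingCat.ofHom π : PR A (n + 1) ⟶ CommRingCat.of P')) := by
  let π' : Polynomial (MvPolynomial (Fin n) A) →ₐ[MvPolynomial (Fin n) A] P' := Polynomial.aeval (π (X 0))
  let e := finSuccEquiv A n
  have he : π = π'.toRingHom.comp e.toRingEquiv.toRingHom := MvPolynomial.ringHom_ext (fun r => by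
      have := hs (C r)
      rw [rename_C] at this
      simpa [π', e, finSuccEquiv_apply] using this)
    fun i => by
      induction i using Fin.cases with
      | zero => simp [π', e, finSuccEquiv_X_zero]
      | succ j =>
        have := hs (X j)
        rw [rename_X] at this
        simpa [π', e, finSuccEquiv_X_succ] using this
  haveI := IsLocalization.adjoin_inv G
  let f : AdjoinRoot (Polynomial.C G * Polynomial.X - 1) →ₐ[MvPolynomial (Fin n) A] P' :=
    AdjoinRoot.liftAlgHom _ (Algebra.ofId _ _) (π (X 0)) (by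
      show Polynomial.eval₂ (algebraMap (MvPolynomial (Fin n) A) P') (π (X 0)) _ = 0
      simp [h0])
  let ee := IsLocalization.algEquiv (Submonoid.powers G) (AdjoinRoot (Polynomial.C G * Polynomial.X - 1)) P'
  have hf : f = ee.toAlgHom :=
    Subsingleton.elim (h := IsLocalization.algHom_subsingleton (Submonoid.powers G)) _ _
  have hfb : Function.Bijective f := by
    rw [hf]
    exact ee.bijective
  have hπ' : π' = f.comp (Ideal.Quotient.mkₐ _ _ : Polynomial (MvPolynomial (Fin n) A) →ₐ[MvPolynomial (Fin n) A]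
      AdjoinRoot (Polynomial.C G * Polynomial.X - 1)) := by
    refine Polynomial.algHom_ext ?_
    show Polynomial.aeval (π (X 0)) Polynomial.X = f (AdjoinRoot.root _)
    simp [f]
  have hs' : Function.Surjective π' := by
    rw [hπ']
    exact hfb.2.comp Ideal.Quotient.mk_surjective
  have hsurj : Function.Surjective π := by
    rw [he]
    exact hs'.comp e.surjective
  refine ⟨hsurj, fun {_} => ?_⟩
  let a : MvPolynomial (Fin (n + 1)) A := rename Fin.succ G * X 0 - 1
  have hea : e a = Polynomial.C G * Polynomial.X - 1 := by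
    rw [map_sub, map_mul, map_one, finSuccEquiv_X_zero]
    congr 2
    exact AlgHom.congr_fun (show e.toAlgHom.comp (rename Fin.succ) =
      (IsScalarTower.toAlgHom A (MvPolynomial (Fin n) A) _) from MvPolynomial.algHom_ext fun j => by
        show e (rename Fin.succ (X j)) = Polynomial.C (X j)
        rw [rename_X, finSuccEquiv_X_succ]) G
  refine goodImm_of_principal _ hsurj a ?_ ?_
  · refine IsSMulRegular.of_right_eq_zero_of_smul fun p hp => e.injective ?_
    have hp' : (Polynomial.C G * Polynomial.X - 1) * e p = 0 := by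
      rw [← hea, ← map_mul, show a * p = 0 from hp, map_zero]
    rw [map_zero]
    ext k : 1
    rw [sub_mul, one_mul, mul_assoc, sub_eq_zero] at hp'
    induction k with
    | zero => rw [← hp']; simp
    | succ k ih => rw [← hp', Polynomial.coeff_C_mul, Polynomial.coeff_X_mul, ih]; simp
  · refine le_antisymm (fun p hp => ?_) ((Ideal.span_singleton_le_iff_mem _).2 ?_)
    · have hp' : π p = 0 := hp
      have h1 : Ideal.Quotient.mk (Ideal.span {Polynomial.C G * Polynomial.X - 1}) (e p) = 0 := by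
        refine hfb.1 (Eq.trans ?_ (map_zero f).symm)
        refine (AlgHom.congr_fun hπ' (e p)).symm.trans ?_
        rw [← hp', he]
        rfl
      obtain ⟨q, hq⟩ := Ideal.mem_span_singleton'.1 (Ideal.Quotient.eq_zero_iff_mem.1 h1)
      refine Ideal.mem_span_singleton'.2 ⟨e.symm q, e.injective ?_⟩
      rw [map_mul, AlgEquiv.apply_symm_apply, hea, hq]
    · show π (rename Fin.succ G * X 0 - 1) = 0
      rw [map_sub, map_mul, map_one, hs, h0, sub_self]

end Groth.Agent.RelPC
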