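import Groth.Agent.RelPC.Restrict
import Groth.Agent.DCohPerf.TildePC
import Groth.Agent.PerfMor.Mor

/-!
Composition with pseudo-coherent morphisms.
-/

set_option autoImplicit false
set_option linter.style.haveILetI false

universe u

open CategoryTheory CategoryTheory.Limits AlgebraicGeometry TopologicalSpace Groth.Agent.DRingPC Groth.Agent.PerfMor

attribute [local instance] HasDerivedCategory.standard

namespace Groth.Agent.RelPC

theorem goodImm_iff_pcHom {R' R : CommRingCat.{u}} (π : R' ⟶ R) (hπ : Function.Surjective π.hom)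
    [IsClosedImmersion (Spec.map π)] : GoodImm (Spec.map π) ↔ PCHom π.hom := by
  haveI : PreservesFiniteLimits (tilde.functor R') := QCohLib.preservesFiniteLimits_tilde
  let Q : ModuleCat.{u} R' := ModuleCat.of R' (R' ⧸ RingHom.ker π.hom)
  let N := (Scheme.Modules.pushforward (Spec.map π)).obj (Coh.structureModule (Spec R))
  haveI : (Coh.structureModule (Spec R)).IsQuasicoherent :=
    (QCohLib.isCoh_of_isFP (DCohPerf.isFP_of_iso (coproductUniqueIso fun _ : Fin 1 => Coh.structureModule (Spec R))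
      (DCohPerf.isFP_free 1))).1
  haveI : N.IsQuasicoherent := QCohLib.isQuasicoherent_pushforward (Spec.map π)
  let one : QCohLib.ΓR N := (1 : Γ(Spec R, ⊤))
  let l : R' →ₗ[R'] QCohLib.ΓR N := LinearMap.toSpanSingleton R' (QCohLib.ΓR N) one
  have hl : ∀ r : R', (show Γ(Spec R, ⊤) from l r) = (Scheme.ΓSpecIso R).inv (π r) := fun r => by
    refine Eq.trans ?_ (ConcreteCategory.congr_hom (Scheme.ΓSpecIso_inv_naturality π) r).symm
    refine (Scheme.Modules.smul_Spec_def (M := N) r one).trans ?_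
    rw [show (⊤ : (Spec R').Opens).leTop.op = 𝟙 _ from rfl, CategoryTheory.Functor.map_id]
    exact mul_one (M := Γ(Spec R, ⊤)) _
  have hsurj : Function.Surjective l := fun y => by
    obtain ⟨r, hr⟩ := hπ ((Scheme.ΓSpecIso R).hom (show Γ(Spec R, ⊤) from y))
    exact ⟨r, (hl r).trans (by rw [hr]; exact Iso.hom_inv_id_apply (Scheme.ΓSpecIso R) _)⟩
  have hker : LinearMap.ker l = RingHom.ker π.hom := by
    ext r
    refine LinearMap.mem_ker.trans ?_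
    rw [RingHom.mem_ker]
    refine ⟨fun h => ?_, fun h => (hl r).trans (by rw [h]; exact map_zero (Scheme.ΓSpecIso R).inv.hom)⟩
    have h' := congrArg (Scheme.ΓSpecIso R).hom ((hl r).symm.trans h)
    exact (Iso.inv_hom_id_apply (Scheme.ΓSpecIso R) _).symm.trans (h'.trans (map_zero (Scheme.ΓSpecIso R).hom.hom))
  let eQ : Q ≅ QCohLib.ΓR N :=
    ((Submodule.quotEquivOfEq _ _ hker.symm).trans (l.quotKerEquivOfSurjective hsurj)).toModuleIso
  let lπ : R' →ₗ[R'] (ModuleCat.restrictScalars π.hom).obj (ModuleCat.of R R) :=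
    { toFun := fun r => (show R from π.hom r)
      map_add' := fun a b => map_add π.hom a b
      map_smul' := fun a b => map_mul π.hom a b }
  have hlπ : LinearMap.ker lπ = RingHom.ker π.hom := by
    ext r
    exact Iff.rfl
  let eR : Q ≅ (ModuleCat.restrictScalars π.hom).obj (ModuleCat.of R R) :=
    ((Submodule.quotEquivOfEq _ _ hlπ.symm).trans (lπ.quotKerEquivOfSurjective hπ)).toModuleIso
  let e : DCoh.inD (Spec R') N ≅ (DCoh.tildeD R').obj ((DerivedCategory.singleFunctor _ 0).obj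
      ((ModuleCat.restrictScalars π.hom).obj (ModuleCat.of R R))) :=
    (DerivedCategory.singleFunctor _ 0).mapIso ((QCohLib.counitIso N).symm ≪≫
      (tilde.functor R').mapIso (eQ.symm ≪≫ eR)) ≪≫
      (((tilde.functor R').mapDerivedCategorySingleFunctor 0).app _).symm
  exact ⟨fun h m => (DRingPC.isPC_iff_NPC R' m _).1 ((DCohPerf.isPC_tildeD_iff _ m).1 (DCohPerf.isPC_of_iso (h m) e)),
    fun h m => DCohPerf.isPC_of_iso ((DCohPerf.isPC_tildeD_iff _ m).2 ((DRingPC.isPC_iff_NPC R' m _).2 (h m))) e.symm⟩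

variable {X Y S : Scheme.{u}}

/-- A chart is good exactly when its ring map is. -/
theorem goodImm_chartImm_iff {f : X ⟶ S} {U : X.Opens} {V : S.Opens} {h : U ≤ f ⁻¹ᵁ V} (hU : IsAffineOpen U) {n : ℕ}
    {φ : MvPolynomial (Fin n) Γ(S, V) →+* Γ(X, U)} (hφ : DerSch.IsChart f U V h φ)
    [IsClosedImmersion (DerSch.chartImm U φ)] : GoodImm (DerSch.chartImm U φ) ↔ PCHom φ := by
  haveI : IsClosedImmersion (Spec.map (CommRingCat.ofHom φ : PR Γ(S, V) n ⟶ Γ(X, U))) :=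
    IsClosedImmersion.spec_of_surjective _ hφ.1
  haveI : IsIso U.toSpecΓ := (hU.isoSpec_hom) ▸ (inferInstance : IsIso hU.isoSpec.hom)
  refine Iff.trans ⟨fun h => ?_, fun h => ?_⟩
    (goodImm_iff_pcHom (CommRingCat.ofHom φ : PR Γ(S, V) n ⟶ Γ(X, U)) hφ.1)
  · refine GoodImm.of_eq (ι := inv U.toSpecΓ ≫ DerSch.chartImm U φ) ?_ ((goodImm_isIso (inv U.toSpecΓ)).comp h)
    show inv U.toSpecΓ ≫ U.toSpecΓ ≫ _ = _
    rw [IsIso.inv_hom_id_assoc]
  · exact GoodImm.of_eq (ι := U.toSpecΓ ≫ Spec.map (CommRingCat.ofHom φ : PR Γ(S, V) n ⟶ Γ(X, U))) rfl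
      ((goodImm_isIso U.toSpecΓ).comp h)

/-- Pseudo-coherent morphisms have good charts. -/
theorem pcHom_chart {g : Y ⟶ S} (hg : ∀ n : ℤ, DerSch.IsNPseudoCoherent g n) {U : Y.Opens} (hU : IsAffineOpen U)
    {V : S.Opens} (hV : IsAffineOpen V) {h : U ≤ g ⁻¹ᵁ V} {n : ℕ} {φ : MvPolynomial (Fin n) Γ(S, V) →+* Γ(Y, U)}
    (hφ : DerSch.IsChart g U V h φ) : PCHom φ := by
  haveI := isClosedImmersion_chartImm hU hφ
  refine (goodImm_chartImm_iff hU hφ).1 fun m => ?_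
  have hm : DerSch.IsPseudoCoherentRel g m (DCoh.toD Y (DerSch.unitCx Y)) := hg m
  have h1 := (chartPC_iff m _ U V φ).1 (chartPC_of_isRel hm hU hV hφ)
  have h2 : DCoh.IsPseudoCoherentD m (DCoh.inD (Spec (PR Γ(S, V) n))
      ((chartF U (DerSch.chartImm U φ)).obj (Coh.structureModule Y))) :=
    DCohPerf.isPC_of_iso h1 (chartDInD _ _ _)
  exact DCohPerf.isPC_of_iso h2 ((DerivedCategory.singleFunctor _ 0).mapIso
    ((Scheme.Modules.pushforward (DerSch.chartImm U φ)).mapIso (Scheme.Modules.restrictUnitIso U.ι)))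

/-- The composite chart and its comparison. -/
theorem exists_compChart (f : X ⟶ Y) (g : Y ⟶ S) (hg : ∀ n : ℤ, DerSch.IsNPseudoCoherent g n)
    {U : X.Opens} (hU : IsAffineOpen U) {U' : Y.Opens} (hU' : IsAffineOpen U') {V : S.Opens} (hV : IsAffineOpen V)
    {h₁ : U ≤ f ⁻¹ᵁ U'} (h₂ : U' ≤ g ⁻¹ᵁ V) (h₃ : U ≤ (f ≫ g) ⁻¹ᵁ V) {k : ℕ}
    {ψ : MvPolynomial (Fin k) Γ(Y, U') →+* Γ(X, U)} (hψ : DerSch.IsChart f U U' h₁ ψ) (m : ℤ) (K : DCoh.D X) :
    ∃ (N : ℕ) (Φ : MvPolynomial (Fin N) Γ(S, V) →+* Γ(X, U)), DerSch.IsChart (f ≫ g) U V h₃ Φ ∧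
      (DerSch.ChartPC m K U V Φ ↔ DerSch.ChartPC m K U U' ψ) := by
  haveI : LocallyOfFiniteType g := (hg 0).1
  obtain ⟨n, φ, hφ⟩ := exists_chart g ⟨U', hU'⟩ ⟨V, hV⟩ h₂
  have hP : PCHom φ := pcHom_chart hg hU' hV hφ
  let θ : MvPolynomial (Fin (k + n)) Γ(S, V) →+* MvPolynomial (Fin k) Γ(Y, U') :=
    (MvPolynomial.map φ).comp ((MvPolynomial.sumRingEquiv Γ(S, V) (Fin k) (Fin n)).toRingHom.comp
      (MvPolynomial.renameEquiv Γ(S, V) finSumFinEquiv.symm).toRingEquiv.toRingHom)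
  have hθs : Function.Surjective θ := (MvPolynomial.map_surjective _ hφ.1).comp
    ((MvPolynomial.sumRingEquiv Γ(S, V) (Fin k) (Fin n)).surjective.comp
      (MvPolynomial.renameEquiv Γ(S, V) finSumFinEquiv.symm).surjective)
  have hθ : PCHom θ := ((PCHom.of_bijective _ (MvPolynomial.renameEquiv Γ(S, V) finSumFinEquiv.symm).bijective).comp
    (PCHom.of_bijective _ (MvPolynomial.sumRingEquiv Γ(S, V) (Fin k) (Fin n)).bijective)).comp (PCHom.map_poly hP)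
  let Φ := ψ.comp θ
  have hΦe : Φ = compPres φ ψ := RingHom.ext fun _ => rfl
  have hΦ : DerSch.IsChart (f ≫ g) U V h₃ Φ := by
    refine ⟨hψ.1.comp hθs, ?_⟩
    rw [hΦe, compPres_C hφ.2 hψ.2, ← CommRingCat.hom_comp, Scheme.Hom.appLE_comp_appLE]
  refine ⟨_, Φ, hΦ, ?_⟩
  haveI := isClosedImmersion_chartImm hU hψ
  haveI := isClosedImmersion_chartImm hU hΦ
  haveI : IsClosedImmersion (Spec.map (CommRingCat.ofHom θ : PR Γ(S, V) (k + n) ⟶ PR Γ(Y, U') k)) :=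
    IsClosedImmersion.spec_of_surjective _ hθs
  have hgood := (goodImm_iff_pcHom (CommRingCat.ofHom θ : PR Γ(S, V) (k + n) ⟶ PR Γ(Y, U') k) hθs).2 hθ
  have he : DerSch.chartImm U ψ ≫ Spec.map (CommRingCat.ofHom θ : PR Γ(S, V) (k + n) ⟶ PR Γ(Y, U') k) =
      DerSch.chartImm U Φ := by
    show (U.toSpecΓ ≫ Spec.map _) ≫ Spec.map _ = U.toSpecΓ ≫ Spec.map _
    rw [Category.assoc, ← Spec.map_comp]
    rfl
  obtain ⟨i⟩ := nonempty_chartD_comp U (DerSch.chartImm U ψ) _ (DerSch.chartImm U Φ) he K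
  rw [chartPC_iff, chartPC_iff, ← isPC_pushD_iff hgood]
  exact ⟨fun h => DCohPerf.isPC_of_iso h i.symm, fun h => DCohPerf.isPC_of_iso h i⟩

/-- Three affine opens around a point. -/
theorem exists_triple (f : X ⟶ Y) (g : Y ⟶ S) (x : X) :
    ∃ (U : X.affineOpens) (U' : Y.affineOpens) (V : S.affineOpens),
      x ∈ (U : X.Opens) ∧ (U : X.Opens) ≤ f ⁻¹ᵁ (U' : Y.Opens) ∧ (U' : Y.Opens) ≤ g ⁻¹ᵁ (V : S.Opens) := by
  obtain ⟨V, hV, hxV, -⟩ := exists_isAffineOpen_mem_and_subset (x := g (f x)) (U := ⊤) trivial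
  obtain ⟨U', hU', hxU', h₂⟩ := exists_isAffineOpen_mem_and_subset (x := f x) (U := g ⁻¹ᵁ V) hxV
  obtain ⟨U, hU, hxU, h₁⟩ := exists_isAffineOpen_mem_and_subset (x := x) (U := f ⁻¹ᵁ U') hxU'
  exact ⟨⟨U, hU⟩, ⟨U', hU'⟩, ⟨V, hV⟩, hxU, h₁, h₂⟩

/-- Relative pseudo-coherence is insensitive to a pseudo-coherent morphism below. -/
theorem isRel_comp_iff (f : X ⟶ Y) (g : Y ⟶ S) [LocallyOfFiniteType f]
    (hg : ∀ n : ℤ, DerSch.IsNPseudoCoherent g n) (m : ℤ) (K : DCoh.D X) :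
    DerSch.IsPseudoCoherentRel f m K ↔ DerSch.IsPseudoCoherentRel (f ≫ g) m K := by
  haveI : LocallyOfFiniteType g := (hg 0).1
  constructor
  · intro hK
    refine isRel_of_local fun x => ?_
    obtain ⟨U, U', V, hx, h₁, h₂⟩ := exists_triple f g x
    have h₃ : (U : X.Opens) ≤ (f ≫ g) ⁻¹ᵁ (V : S.Opens) := fun y hy => h₂ (h₁ hy)
    obtain ⟨k, ψ, hψ, hPC⟩ := goodPair_of_isRel hK U U' h₁
    obtain ⟨N, Φ, hΦ, hiff⟩ := exists_compChart f g hg U.2 U'.2 V.2 h₂ h₃ hψ m K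
    exact ⟨U, V, h₃, hx, N, Φ, hΦ, hiff.2 hPC⟩
  · intro hK
    refine isRel_of_local fun x => ?_
    obtain ⟨U, U', V, hx, h₁, h₂⟩ := exists_triple f g x
    have h₃ : (U : X.Opens) ≤ (f ≫ g) ⁻¹ᵁ (V : S.Opens) := fun y hy => h₂ (h₁ hy)
    obtain ⟨k, ψ, hψ⟩ := exists_chart f U U' h₁
    obtain ⟨N, Φ, hΦ, hiff⟩ := exists_compChart f g hg U.2 U'.2 V.2 h₂ h₃ hψ m K
    exact ⟨U, U', h₁, hx, k, ψ, hψ, hiff.1 (chartPC_of_isRel hK U.2 V.2 hΦ)⟩

/-- Flat morphisms locally of finite presentation are pseudo-coherent. -/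
theorem isNPC_of_flat (g : Y ⟶ S) [Flat g] [LocallyOfFinitePresentation g] (m : ℤ) :
    DerSch.IsNPseudoCoherent g m := by
  refine isPseudoCoherentRel_of_forall g m _ fun U V h => ?_
  obtain ⟨n, φ, hφ⟩ := exists_chart g U V h
  haveI := isClosedImmersion_chartImm U.2 hφ
  have hfp : (g.appLE V.1 U.1 h).hom.FinitePresentation :=
    HasRingHomProperty.appLE @LocallyOfFinitePresentation g inferInstance V U h
  have hfl : (g.appLE V.1 U.1 h).hom.Flat := HasRingHomProperty.appLE @Flat g inferInstance V U h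
  have hP : PCRing (g.appLE V.1 U.1 h).hom := by
    algebraize [(g.appLE V.1 U.1 h).hom]
    haveI : Algebra.FinitePresentation Γ(S, V.1) Γ(Y, U.1) := hfp
    haveI : Module.Flat Γ(S, V.1) Γ(Y, U.1) := hfl
    exact (perfRing_of_flat_fp (A := Γ(S, V.1)) (B := Γ(Y, U.1))).toPC
  have h1 := (goodImm_chartImm_iff U.2 hφ).2 (hP.pcHom φ hφ.1 hφ.2) m
  have h2 : DCoh.IsPseudoCoherentD m (DCoh.inD (Spec (PR Γ(S, V.1) n))
      ((chartF U.1 (DerSch.chartImm U.1 φ)).obj (Coh.structureModule Y))) :=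
    DCohPerf.isPC_of_iso h1 ((DerivedCategory.singleFunctor _ 0).mapIso
      ((Scheme.Modules.pushforward (DerSch.chartImm U.1 φ)).mapIso (Scheme.Modules.restrictUnitIso U.1.ι))).symm
  exact ⟨n, φ, hφ, (chartPC_iff _ _ _ _ φ).2 (DCohPerf.isPC_of_iso h2 (chartDInD _ _ _).symm)⟩

/-- For a closed immersion relative pseudo-coherence is that of the direct image. -/
theorem isRel_closed_iff (i : X ⟶ Y) [IsClosedImmersion i] (m : ℤ) (K : DCoh.D X) :
    DerSch.IsPseudoCoherentRel i m K ↔ DCoh.IsPseudoCoherentD m ((pushD i).obj K) := by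
  have key : ∀ (V : Y.affineOpens), ∃ φ : MvPolynomial (Fin 0) Γ(Y, (V : Y.Opens)) →+* Γ(X, i ⁻¹ᵁ (V : Y.Opens)),
      DerSch.IsChart i (i ⁻¹ᵁ (V : Y.Opens)) (V : Y.Opens) le_rfl φ ∧
      (DerSch.ChartPC m K (i ⁻¹ᵁ (V : Y.Opens)) (V : Y.Opens) φ ↔
        DCoh.IsPseudoCoherentD m ((DCohPerf.RD (V : Y.Opens).ι).obj ((pushD i).obj K))) := fun V => by
    have hU : IsAffineOpen (i ⁻¹ᵁ (V : Y.Opens)) := V.2.preimage i
    let φ : MvPolynomial (Fin 0) Γ(Y, (V : Y.Opens)) →+* Γ(X, i ⁻¹ᵁ (V : Y.Opens)) :=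
      (i.appLE (V : Y.Opens) _ le_rfl).hom.comp (MvPolynomial.isEmptyAlgEquiv Γ(Y, (V : Y.Opens)) (Fin 0)).toRingEquiv.toRingHom
    have hs : Function.Surjective (i.appLE (V : Y.Opens) (i ⁻¹ᵁ (V : Y.Opens)) le_rfl).hom := by
      rw [← Scheme.Hom.app_eq_appLE]
      exact i.app_surjective (V : Y.Opens) V.2
    have hφ : DerSch.IsChart i (i ⁻¹ᵁ (V : Y.Opens)) (V : Y.Opens) le_rfl φ :=
      ⟨hs.comp (MvPolynomial.isEmptyAlgEquiv _ (Fin 0)).surjective, RingHom.ext fun r => congrArg (i.appLE (V : Y.Opens) _ le_rfl).hom ((MvPolynomial.isEmptyAlgEquiv Γ(Y, (V : Y.Opens)) (Fin 0)).commutes r)⟩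
    refine ⟨φ, hφ, ?_⟩
    haveI := isClosedImmersion_chartImm hU hφ
    haveI : IsIso (V : Y.Opens).toSpecΓ := (V.2.isoSpec_hom) ▸ (inferInstance : IsIso V.2.isoSpec.hom)
    let e : CommRingCat.of (MvPolynomial (Fin 0) Γ(Y, (V : Y.Opens))) ≅ Γ(Y, (V : Y.Opens)) :=
      (MvPolynomial.isEmptyAlgEquiv Γ(Y, (V : Y.Opens)) (Fin 0)).toRingEquiv.toCommRingCatIso
    let τ : ((V : Y.Opens) : Scheme.{u}) ⟶ Spec (PR Γ(Y, (V : Y.Opens)) 0) :=
      (V : Y.Opens).toSpecΓ ≫ Spec.map e.hom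
    haveI : IsIso τ := inferInstanceAs (IsIso (_ ≫ _))
    have he : (i ∣_ (V : Y.Opens)) ≫ τ = DerSch.chartImm (i ⁻¹ᵁ (V : Y.Opens)) φ := by
      show _ = (i ⁻¹ᵁ (V : Y.Opens)).toSpecΓ ≫ _
      rw [← cancel_mono (inv (Spec.map e.hom))]
      simp only [τ, Category.assoc, IsIso.hom_inv_id, Category.comp_id]
      rw [show Spec.map (CommRingCat.ofHom φ) = Spec.map (i.appLE (V : Y.Opens) (i ⁻¹ᵁ (V : Y.Opens)) le_rfl) ≫
          Spec.map e.hom from by rw [← Spec.map_comp]; rfl, Category.assoc, IsIso.hom_inv_id, Category.comp_id,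
        ← cancel_mono V.2.fromSpec, Category.assoc, Category.assoc, V.2.toSpecΓ_fromSpec, morphismRestrict_ι,
        V.2.SpecMap_appLE_fromSpec _ hU, hU.toSpecΓ_fromSpec_assoc]
    obtain ⟨c⟩ := nonempty_chartD_comp _ (i ∣_ (V : Y.Opens)) τ _ he K
    obtain ⟨p⟩ := nonempty_chartD_push (i ⁻¹ᵁ (V : Y.Opens)) (i ∣_ (V : Y.Opens)) K
    obtain ⟨r⟩ := nonempty_RD_pushD i (V : Y.Opens) K
    rw [chartPC_iff]
    constructor
    · intro h
      exact DCohPerf.isPC_of_iso ((isPC_pushD_iff (goodImm_isIso τ) m _).1 (DCohPerf.isPC_of_iso h c.symm))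
        (p ≪≫ r.symm)
    · intro h
      exact DCohPerf.isPC_of_iso (isPC_pushD (goodImm_isIso τ) (DCohPerf.isPC_of_iso h (r ≪≫ p.symm))) c
  constructor
  · intro hK
    refine DCohPerf.isPC_of_locally fun y => ?_
    obtain ⟨V, hV, hyV, -⟩ := exists_isAffineOpen_mem_and_subset (x := y) (U := ⊤) trivial
    obtain ⟨φ, hφ, hiff⟩ := key ⟨V, hV⟩
    exact ⟨_, V.ι, inferInstance, ⟨y, hyV⟩, rfl, hiff.1 (chartPC_of_isRel hK (hV.preimage i) hV hφ)⟩
  · intro h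
    refine isRel_of_local fun x => ?_
    obtain ⟨V, hV, hxV, -⟩ := exists_isAffineOpen_mem_and_subset (x := i x) (U := ⊤) trivial
    obtain ⟨φ, hφ, hiff⟩ := key ⟨V, hV⟩
    exact ⟨⟨_, hV.preimage i⟩, ⟨V, hV⟩, le_rfl, hxV, 0, φ, hφ, hiff.2 (DCohPerf.isPC_restrict h _)⟩

theorem isRel_id_iff (m : ℤ) (K : DCoh.D Y) :
    DerSch.IsPseudoCoherentRel (𝟙 Y) m K ↔ DCoh.IsPseudoCoherentD m K :=
  (isRel_closed_iff (𝟙 Y) m K).trans (isPC_pushD_iff (goodImm_isIso (𝟙 Y)) m K)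

theorem isRel_iff_isPC (g : Y ⟶ S) (hg : ∀ n : ℤ, DerSch.IsNPseudoCoherent g n) (m : ℤ) (K : DCoh.D Y) :
    DerSch.IsPseudoCoherentRel g m K ↔ DCoh.IsPseudoCoherentD m K := by
  rw [← isRel_id_iff m K, isRel_comp_iff (𝟙 Y) g hg m K, Category.id_comp]

end Groth.Agent.RelPC
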