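import Groth.Agent.RelPC.Trunc

/-!
Detecting pseudo-coherence through a map pseudo-coherent up to a degree.
-/

set_option autoImplicit false
set_option linter.style.haveILetI false

universe u

open CategoryTheory CategoryTheory.Limits CategoryTheory.Pretriangulated AlgebraicGeometry TopologicalSpace
  HomologicalComplex

attribute [local instance] HasDerivedCategory.standard

namespace Groth.Agent.RelPC

variable {Z P : Scheme.{u}} (ι : Z ⟶ P) [IsClosedImmersion ι]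

/-- The structure sheaf of the source is pseudo-coherent on the target up to degree `m`. -/
def GoodUpTo (m : ℤ) : Prop :=
  DCoh.IsPseudoCoherentD m (DCoh.inD P ((Scheme.Modules.pushforward ι).obj (Coh.structureModule Z)))

variable {ι}

theorem GoodUpTo.restrict {m : ℤ} (h : GoodUpTo ι m) (W : P.Opens) : GoodUpTo (ι ∣_ W) m := by
  obtain ⟨t⟩ := HigherDirect.nonempty_push_restrict_iso ι W
  unfold GoodUpTo
  exact DCohPerf.isPC_of_iso (DCohPerf.isPC_restrict h W.ι)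
    (((DCohPerf.rF W.ι).mapDerivedCategorySingleFunctor 0).app _ ≪≫
      (DerivedCategory.singleFunctor _ 0).mapIso (t.app _ ≪≫
        (Scheme.Modules.pushforward (ι ∣_ W)).mapIso (Scheme.Modules.restrictUnitIso (ι ⁻¹ᵁ W).ι)))

theorem isPC_push_free' {m : ℤ} (h : GoodUpTo ι m) : ∀ n : ℕ,
    DCoh.IsPseudoCoherentD m ((pushD ι).obj (DCoh.inD Z (FlatMod.freeMod Z n)))
  | 0 => DCohPerf.isPC_of_isZero m fun i _ =>
      (DerivedCategory.homologyFunctor P.Modules i).map_isZero ((pushD ι).map_isZero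
        ((DerivedCategory.singleFunctor Z.Modules 0).map_isZero
          ((IsZero.iff_id_eq_zero _).2 (Sigma.hom_ext _ _ fun j => j.elim0))))
  | n + 1 => by
    let S := DerivedCategory.singleFunctor Z.Modules 0 ⋙ pushD ι
    haveI := preservesBinaryBiproducts_of_preservesBiproducts S
    have h1 : DCoh.IsPseudoCoherentD m (S.obj (FlatMod.freeMod Z 1)) :=
      DCohPerf.isPC_of_iso h ((pushDInD ι _).symm ≪≫ S.mapIso
        (coproductUniqueIso fun _ : Fin 1 => Coh.structureModule Z).symm)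
    have hb : DCoh.IsPseudoCoherentD m (S.obj (FlatMod.freeMod Z n) ⊞ S.obj (FlatMod.freeMod Z 1)) :=
      DCohPerf.isPC_triangle₂ m (binaryBiproductTriangle_distinguished _ _) (isPC_push_free' h n) h1
    exact DCohPerf.isPC_of_iso hb ((S.mapBiprod _ _).symm ≪≫ S.mapIso (LocFree.freeSumIso Z n 1))

theorem isPC_of_pushD_upTo : ∀ (k : ℕ) {Z P : Scheme.{u}} (ι : Z ⟶ P) [IsClosedImmersion ι] (s : ℤ), GoodUpTo ι s →
    ∀ (m b : ℤ) (E : DCoh.D Z), b + s ≤ m + 1 → b < m + k → (∀ i, b < i → IsZero (DCoh.HD E i)) →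
      DCoh.IsPseudoCoherentD m ((pushD ι).obj E) → DCoh.IsPseudoCoherentD m E := by
  intro k
  induction k with
  | zero => exact fun ι _ _ _ m b E _ hb hz _ => DCohPerf.isPC_of_isZero m fun i hi => hz i (by omega)
  | succ k ih =>
    intro Z P ι _ s hι m b E hs hb hz hpc
    by_cases hbm : b < m
    · exact DCohPerf.isPC_of_isZero m fun i hi => hz i (by omega)
    have hft0 : CohB1.IsFT (DCoh.HD ((pushD ι).obj E) b) :=
      DCohPerf.isFT_top b (DCohPerf.isPC_mono hpc (by omega)) fun i hi => by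
        obtain ⟨e⟩ := nonempty_HD_pushD ι E i
        exact ((Scheme.Modules.pushforward ι).map_isZero (hz i hi)).of_iso e
    obtain ⟨eH⟩ := nonempty_HD_pushD ι E b
    have hft : CohB1.IsFT (DCoh.HD E b) := isFT_of_push ι (DCohPerf.isFT_of_epi eH.hom hft0)
    haveI : E.IsLE b := (DerivedCategory.isLE_iff E b).2 hz
    obtain ⟨G, hG, ⟨eG⟩⟩ := E.exists_iso_Q_obj_of_isLE b
    have hGz : ∀ i, b < i → IsZero (G.X i) := fun i hi => CochainComplex.isZero_of_isStrictlyLE G b i hi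
    have hz1 : IsZero (G.X (b + 1)) := hGz _ (by omega)
    have hftG : CohB1.IsFT (G.homology b) := DCohPerf.isFT_of_epi
      ((DerivedCategory.homologyFunctor Z.Modules b).mapIso eG ≪≫
        (DerivedCategory.homologyFunctorFactors Z.Modules b).app G).hom hft
    refine DCohPerf.isPC_of_locally fun x => ?_
    obtain ⟨W₁, j, hj, w₁, hw₁, n, p, hp⟩ := DCohPerf.exists_free_epi hftG x
    haveI := epi_topπ G b hz1
    haveI : Epi ((DCohPerf.rF j).map (topπ G b hz1)) := inferInstance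
    obtain ⟨W₂, j', hj', w₂, hw₂, l, hl⟩ := DCohPerf.exists_local_lift ((DCohPerf.rF j).map (topπ G b hz1))
      (DCohPerf.isFinLocFree_free n) p w₁
    obtain ⟨hm, i, hi, hij⟩ := DCohPerf.exists_opens (j' ≫ j) w₂
    obtain ⟨o, hxo, u, hu⟩ : ∃ (o : Z.Opens) (_ : x ∈ o) (u : FlatMod.freeMod (o : Scheme.{u}) n ⟶
        (DCohPerf.rF o.ι).obj (G.X b)), Epi (u ≫ (DCohPerf.rF o.ι).map (topπ G b hz1)) := by
      refine ⟨(j' ≫ j).opensRange, ⟨w₂, by rw [Scheme.Hom.comp_apply, hw₂, hw₁]⟩, ?_⟩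
      let c : DCohPerf.rF (j' ≫ j).opensRange.ι ≅ DCohPerf.rF j ⋙ DCohPerf.rF j' ⋙ DCohPerf.rF i :=
        Scheme.Modules.restrictFunctorCongr hij.symm ≪≫ DCohPerf.rFComp i (j' ≫ j) ≪≫
          Functor.isoWhiskerRight (DCohPerf.rFComp j' j) _ ≪≫ Functor.associator _ _ _
      let f := (LocFree.restrictFreeIso i n).inv ≫ (DCohPerf.rF i).map (LocFree.restrictFreeIso j' n).inv
      refine ⟨f ≫ (DCohPerf.rF i).map l ≫ c.inv.app (G.X b), ?_⟩
      haveI := hp
      have e1 : (f ≫ (DCohPerf.rF i).map l ≫ c.inv.app (G.X b)) ≫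
          (DCohPerf.rF (j' ≫ j).opensRange.ι).map (topπ G b hz1) =
          f ≫ (DCohPerf.rF i).map ((DCohPerf.rF j').map p) ≫ c.inv.app (G.homology b) := by
        have hn := c.inv.naturality (topπ G b hz1)
        simp only [Category.assoc]
        rw [← hl, ← hn, Functor.map_comp, Category.assoc]
        rfl
      rw [e1]
      infer_instance
    obtain ⟨W, hxW, hW⟩ := exists_nhd (ι := ι) x o hxo
    subst hW
    refine ⟨((ι ⁻¹ᵁ W : Z.Opens) : Scheme.{u}), (ι ⁻¹ᵁ W).ι, inferInstance, ⟨x, hxo⟩, rfl, ?_⟩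
    let R := DCohPerf.rF (ι ⁻¹ᵁ W).ι
    let G' := (DCohPerf.rC (ι ⁻¹ᵁ W).ι).obj G
    have hz1' : IsZero (G'.X (b + 1)) := R.map_isZero hz1
    let γ : FlatMod.freeMod ((ι ⁻¹ᵁ W : Z.Opens) : Scheme.{u}) n ⟶ G'.cycles b :=
      u ≫ G'.liftCycles (𝟙 _) (b + 1) (by simp) (hz1'.eq_of_tgt _ _)
    haveI : Epi (γ ≫ G'.homologyπ b) := by
      have h := epi_comp_topπ_map G b hz1 R u hu
      have e : γ ≫ G'.homologyπ b = u ≫ topπ G' b hz1' := Category.assoc _ _ _
      rw [e]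
      exact h
    have hex : PCohLib.ExactFrom (b + 1) G' := fun i hi =>
      ShortComplex.exact_of_isZero_X₂ _ (R.map_isZero (hGz i (by omega)))
    have hN := PCohLib.NQ_mkHomFromSingle γ hex
    let Fc := (HomologicalComplex.single ((ι ⁻¹ᵁ W : Z.Opens) : Scheme.{u}).Modules (ComplexShape.up ℤ) b).obj
      (FlatMod.freeMod ((ι ⁻¹ᵁ W : Z.Opens) : Scheme.{u}) n)
    let v : Fc ⟶ G' := mkHomFromSingle (c := ComplexShape.up ℤ) (γ ≫ G'.iCycles b) (fun k _ => by simp)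
    let eE : DCoh.toD _ G' ≅ (DCohPerf.RD (ι ⁻¹ᵁ W).ι).obj E :=
      (DCohPerf.RQ (ι ⁻¹ᵁ W).ι G).symm ≪≫ (DCohPerf.RD (ι ⁻¹ᵁ W).ι).mapIso eG.symm
    let φ : DCoh.toD _ Fc ⟶ (DCohPerf.RD (ι ⁻¹ᵁ W).ι).obj E := DerivedCategory.Q.map v ≫ eE.hom
    have hφ : DCohPerf.NQ b φ := DCohPerf.NQ.comp
      ⟨fun i hi => (PCohLib.isIso_homologyMap_Q_iff v i).2 (hN.1 i hi), (PCohLib.epi_homologyMap_Q_iff v b).2 hN.2⟩
      (DCohPerf.nq_of_isIso b eE.hom)
    obtain ⟨C, g, d, hT⟩ := distinguished_cocone_triangle φ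
    have hC := (DCohPerf.nq_iff hT b).1 hφ
    have hsp : DCoh.IsStrictlyPerfect Fc := DCohPerf.sp_single (DCohPerf.isFinLocFree_free n) b
    obtain ⟨t⟩ := nonempty_RD_pushD ι W E
    have hpc' : DCoh.IsPseudoCoherentD m ((pushD (ι ∣_ W)).obj ((DCohPerf.RD (ι ⁻¹ᵁ W).ι).obj E)) :=
      DCohPerf.isPC_of_iso (DCohPerf.isPC_restrict hpc W.ι) t
    have eFc : DerivedCategory.Q.obj Fc ≅ (DCoh.inD _ (FlatMod.freeMod ((ι ⁻¹ᵁ W : Z.Opens) : Scheme.{u}) n))⟦-b⟧ :=
      PCohLib.singleQIso b _ ≪≫ (PCohLib.singleShiftIso (-b) b 0 (by omega) _).symm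
    have p1 : DCoh.IsPseudoCoherentD (m + 1) ((pushD (ι ∣_ W)).obj (DCoh.toD _ Fc)) :=
      DCohPerf.isPC_mono (DCohPerf.isPC_of_iso
        (DCohPerf.isPC_shift (isPC_push_free' (hι.restrict W) n) (-b) (s + b) (by omega))
        (((pushD (ι ∣_ W)).commShiftIso (-b)).symm.app _ ≪≫ (pushD (ι ∣_ W)).mapIso eFc.symm)) (by omega)
    have hpC : DCoh.IsPseudoCoherentD m ((pushD (ι ∣_ W)).obj C) :=
      DCohPerf.isPC_triangle₃ m ((pushD (ι ∣_ W)).map_distinguished _ hT) p1 hpc'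
    have hC' := ih (ι ∣_ W) s (hι.restrict W) m (b - 1) C (by omega) (by omega) (fun i hi => hC i (by omega)) hpC
    exact DCohPerf.isPC_triangle₂ m hT (DCohPerf.isPC_of_isPerfect (DCohPerf.isPerfect_of_sp hsp)) hC'

open Groth.Agent.DRingPC Groth.Agent.PCohLib Groth.Agent.PerfMor in
theorem goodUpTo_of_npc {R' R : CommRingCat.{u}} (π : R' ⟶ R) [IsClosedImmersion (Spec.map π)] (m : ℤ)
    (h : NPC (FF R') m ((DerivedCategory.singleFunctor _ 0).obj
      ((ModuleCat.restrictScalars π.hom).obj (ModuleCat.of R R)))) : GoodUpTo (Spec.map π) m := by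
  haveI : PreservesFiniteLimits (tilde.functor R') := QCohLib.preservesFiniteLimits_tilde
  haveI : PreservesFiniteLimits (tilde.functor R) := QCohLib.preservesFiniteLimits_tilde
  obtain ⟨j⟩ := nonempty_pushD_tildeD π ((DerivedCategory.singleFunctor _ 0).obj (ModuleCat.of R R))
  have h1 : DCoh.IsPseudoCoherentD m ((DCoh.tildeD R').obj ((DRing.restrictD π.hom).obj
      ((DerivedCategory.singleFunctor _ 0).obj (ModuleCat.of R R)))) :=
    (DCohPerf.isPC_tildeD_iff _ m).2 ((isPC_iff_NPC R' m _).2 (h.of_iso (restrictSingle π.hom 0 _).symm))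
  exact DCohPerf.isPC_of_iso h1 (j.symm ≪≫ (pushD (Spec.map π)).mapIso
    (((tilde.functor R).mapDerivedCategorySingleFunctor 0).app _ ≪≫
      (DerivedCategory.singleFunctor _ 0).mapIso tildeSelf) ≪≫ pushDInD (Spec.map π) _)

open Groth.Agent.DRingPC Groth.Agent.PCohLib Groth.Agent.PerfMor in
theorem isRel_of_comp {X Y S : Scheme.{u}} (f : X ⟶ Y) (g : Y ⟶ S) [LocallyOfFiniteType f] [LocallyOfFiniteType g]
    (a b : ℤ) (E : DCoh.D X) [E.IsLE b] (hE : DerSch.IsPseudoCoherentRel (f ≫ g) a E)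
    (hg : DerSch.IsNPseudoCoherent g (a + 1 - b)) : DerSch.IsPseudoCoherentRel f a E := by
  refine isRel_of_local fun x => ?_
  obtain ⟨U, U', V, hx, h₁, h₂⟩ := exists_triple f g x
  have h₃ : (U : X.Opens) ≤ (f ≫ g) ⁻¹ᵁ (V : S.Opens) := fun y hy => h₂ (h₁ hy)
  obtain ⟨n, φ, hφ⟩ := exists_chart g U' V h₂
  obtain ⟨k, ψ, hψ⟩ := exists_chart f U U' h₁
  have hP := (chartPC_unit_iff U'.2 hφ (a + 1 - b)).1 (chartPC_of_isRel hg U'.2 V.2 hφ)
  let σ : MvPolynomial (Fin (k + n)) Γ(S, (V : S.Opens)) →+*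
      MvPolynomial (Fin k) (MvPolynomial (Fin n) Γ(S, (V : S.Opens))) :=
    (MvPolynomial.sumRingEquiv Γ(S, (V : S.Opens)) (Fin k) (Fin n)).toRingHom.comp
      (MvPolynomial.renameEquiv Γ(S, (V : S.Opens)) finSumFinEquiv.symm).toRingEquiv.toRingHom
  have hσ : Function.Bijective σ := (MvPolynomial.sumRingEquiv _ _ _).bijective.comp
    (MvPolynomial.renameEquiv _ finSumFinEquiv.symm).bijective
  let μ : MvPolynomial (Fin k) (MvPolynomial (Fin n) Γ(S, (V : S.Opens))) →+*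
      MvPolynomial (Fin k) Γ(Y, (U' : Y.Opens)) := MvPolynomial.map φ
  have hμ : NPC (FF _) (a + 1 - b) ((DerivedCategory.singleFunctor _ 0).obj
      ((ModuleCat.restrictScalars μ).obj (ModuleCat.of _ (MvPolynomial (Fin k) Γ(Y, (U' : Y.Opens)))))) := by
    letI := φ.toAlgebra
    letI : Algebra (MvPolynomial (Fin k) (MvPolynomial (Fin n) Γ(S, (V : S.Opens))))
        (MvPolynomial (Fin k) Γ(Y, (U' : Y.Opens))) := MvPolynomial.algebraMvPolynomial
    exact (NPC_extend_of_flat (algebraMap (MvPolynomial (Fin n) Γ(S, (V : S.Opens)))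
        (MvPolynomial (Fin k) (MvPolynomial (Fin n) Γ(S, (V : S.Opens))))) (RingHom.flat_algebraMap_iff.2 inferInstance)
      ((NPC_single_congr selfRestrictIso hP).of_iso (PCohLib.singleQIso 0 _).symm)).of_iso
        (pushSingleIso (P := MvPolynomial (Fin n) Γ(S, (V : S.Opens)))
          (P' := MvPolynomial (Fin k) (MvPolynomial (Fin n) Γ(S, (V : S.Opens))))
          (B := Γ(Y, (U' : Y.Opens))) (C := MvPolynomial (Fin k) Γ(Y, (U' : Y.Opens))))
  let θ := μ.comp σ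
  have hθ : NPC (FF _) (a + 1 - b) ((DerivedCategory.singleFunctor _ 0).obj
      ((ModuleCat.restrictScalars θ).obj (ModuleCat.of _ (MvPolynomial (Fin k) Γ(Y, (U' : Y.Opens)))))) :=
    ((PCHom.of_bijective σ hσ).NPC_restrict (hμ.of_iso (restrictSingle μ 0 _).symm)).of_iso
      ((restrictQComp μ σ _).symm ≪≫ restrictSingle θ 0 _)
  have hθs : Function.Surjective θ := (MvPolynomial.map_surjective _ hφ.1).comp hσ.2
  let Φ := ψ.comp θ
  have hΦe : Φ = compPres φ ψ := RingHom.ext fun _ => rfl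
  have hΦ : DerSch.IsChart (f ≫ g) (U : X.Opens) (V : S.Opens) h₃ Φ := by
    refine ⟨hψ.1.comp hθs, ?_⟩
    rw [hΦe, compPres_C hφ.2 hψ.2, ← CommRingCat.hom_comp, Scheme.Hom.appLE_comp_appLE]
  haveI := isClosedImmersion_chartImm U.2 hψ
  haveI := isClosedImmersion_chartImm U.2 hΦ
  let t : PR Γ(S, (V : S.Opens)) (k + n) ⟶ PR Γ(Y, (U' : Y.Opens)) k := CommRingCat.ofHom θ
  haveI : IsClosedImmersion (Spec.map t) := IsClosedImmersion.spec_of_surjective _ hθs
  have he : DerSch.chartImm (U : X.Opens) ψ ≫ Spec.map t = DerSch.chartImm (U : X.Opens) Φ := by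
    show ((U : X.Opens).toSpecΓ ≫ Spec.map _) ≫ Spec.map _ = (U : X.Opens).toSpecΓ ≫ Spec.map _
    rw [Category.assoc, ← Spec.map_comp]
    rfl
  obtain ⟨i⟩ := nonempty_chartD_comp _ (DerSch.chartImm (U : X.Opens) ψ) (Spec.map t) _ he E
  refine ⟨U, U', h₁, hx, k, ψ, hψ, (chartPC_iff _ _ _ _ ψ).2 ?_⟩
  refine isPC_of_pushD_upTo ((b - a).toNat + 1) (Spec.map t) (a + 1 - b) (goodUpTo_of_npc t _ hθ) a b _
    (by omega) (by omega) (fun j hj => ?_)
    (DCohPerf.isPC_of_iso ((chartPC_iff _ _ _ _ Φ).1 (chartPC_of_isRel hE U.2 V.2 hΦ)) i.symm)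
  obtain ⟨e⟩ := nonempty_chartD_push (U : X.Opens) (DerSch.chartImm (U : X.Opens) ψ) E
  obtain ⟨e'⟩ := nonempty_HD_pushD (DerSch.chartImm (U : X.Opens) ψ) ((DCohPerf.RD (U : X.Opens).ι).obj E) j
  exact ((Scheme.Modules.pushforward _).map_isZero
    (DCohPerf.isZero_homology_restrict _ E j (DerivedCategory.isZero_of_isLE E b j hj))).of_iso
      ((DerivedCategory.homologyFunctor _ j).mapIso e ≪≫ e')

end Groth.Agent.RelPC
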