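import Groth.Agent.RelPC.Terms
import Groth.Agent.RelPC.FT
import Groth.Agent.RelPC.RelFP
import Groth.Agent.DCohPerf.CohPC
import Groth.Agent.DQCPush.QCohD
import Groth.Agent.DQCPush.CohBound
import Groth.Agent.HigherDirect.Coherent

/-!
Relative pseudo-coherence over Noetherian bases and proper direct images.
-/

set_option autoImplicit false
set_option linter.style.haveILetI false

universe u

open CategoryTheory CategoryTheory.Limits CategoryTheory.Pretriangulated AlgebraicGeometry DerivedCategory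

attribute [local instance] HasDerivedCategory.standard

namespace Groth.Agent.RelPC

variable {X S : Scheme.{u}} {f : X ⟶ S}

theorem isRel_of_isCoh [LocallyOfFiniteType f] [IsLocallyNoetherian S] (M : X.Modules) (hM : Coh.IsCoh M) (m : ℤ) :
    DerSch.IsPseudoCoherentRel f m (DCoh.inD X M) := by
  haveI := hM.1
  refine isRel_iff.2 fun U V h => ?_
  obtain ⟨n, φ, hφ⟩ := exists_chart f U V h
  haveI := isClosedImmersion_chartImm U.2 hφ
  haveI : IsNoetherianRing Γ(S, (V : S.Opens)) := IsLocallyNoetherian.component_noetherian V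
  haveI : IsNoetherianRing (PR Γ(S, (V : S.Opens)) n) :=
    inferInstanceAs (IsNoetherianRing (MvPolynomial (Fin n) Γ(S, (V : S.Opens))))
  have h0 := (isPseudoCoherentRel_zero_iff f M).2 hM.2
  have h1 : CohB1.IsFT ((chartF (U : X.Opens) (DerSch.chartImm (U : X.Opens) φ)).obj M) :=
    (DCohPerf.isPC_zero_iff _).1 (DCohPerf.isPC_of_iso
      ((chartPC_iff _ _ _ _ φ).1 (chartPC_of_isRel h0 U.2 V.2 hφ)) (chartDInD _ _ M))
  have h2 : Coh.IsCoh ((chartF (U : X.Opens) (DerSch.chartImm (U : X.Opens) φ)).obj M) :=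
    ⟨isQuasicoherent_chartF _ M, h1⟩
  exact ⟨n, φ, hφ, (chartPC_iff _ _ _ _ φ).2 (DCohPerf.isPC_of_iso (DCohPerf.isPC_of_isCoh h2 m) (chartDInD _ _ M).symm)⟩

theorem isRelAll_of_isCohD [LocallyOfFiniteType f] [IsLocallyNoetherian S] (E : DCoh.D X) (b : ℤ) [E.IsLE b]
    (hE : DCoh.IsCohD E) : DerSch.IsPseudoCoherentRelAll f E := fun m =>
  isRel_of_cohomology m ((b - m).toNat + 1) b E (by omega) inferInstance fun i => isRel_of_isCoh _ (hE i) (m - i)

theorem isCoh_HD_of_isRelAll [LocallyOfFiniteType f] [IsLocallyNoetherian S] : ∀ (k : ℕ) (b i : ℤ) (E : DCoh.D X),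
    b < i + k → E.IsLE b → DerSch.IsPseudoCoherentRelAll f E → Coh.IsCoh (DCoh.HD E i) := by
  intro k
  induction k with
  | zero => exact fun b i E hb hE _ => QCohLib.isCoh_of_isZero (isZero_of_isLE E b i (by omega))
  | succ k ih =>
    intro b i E hb hE h
    let T := (TStructure.t.triangleLTGE b).obj E
    have hT : T ∈ distTriang _ := TStructure.t.triangleLTGE_distinguished _ _
    have hA : T.obj₁.IsLE (b - 1) := inferInstanceAs (TStructure.t.IsLE _ _)
    have hC : T.obj₃.IsGE b := inferInstanceAs (TStructure.t.IsGE _ _)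
    have isoA : ∀ j ≤ b - 1, IsIso ((homologyFunctor X.Modules j).map T.mor₁) := fun j hj => by
      have h1 : Mono ((homologyFunctor X.Modules j).map T.mor₁) :=
        (HomologySequence.mono_homologyMap_mor₁_iff T hT (j - 1) j (by omega)).2
          ((isZero_of_isGE T.obj₃ b (j - 1) (by omega)).eq_of_src _ _)
      have h2 : Epi ((homologyFunctor X.Modules j).map T.mor₁) :=
        (HomologySequence.epi_homologyMap_mor₁_iff T hT j).2
          ((isZero_of_isGE T.obj₃ b j (by omega)).eq_of_tgt _ _)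
      exact isIso_of_mono_of_epi _
    have isoC : ∀ j, b ≤ j → IsIso ((homologyFunctor X.Modules j).map T.mor₂) := fun j hj => by
      have h1 : Mono ((homologyFunctor X.Modules j).map T.mor₂) :=
        (HomologySequence.mono_homologyMap_mor₂_iff T hT j).2
          ((isZero_of_isLE T.obj₁ (b - 1) j (by omega)).eq_of_src _ _)
      have h2 : Epi ((homologyFunctor X.Modules j).map T.mor₂) :=
        (HomologySequence.epi_homologyMap_mor₂_iff T hT j (j + 1) rfl).2
          ((isZero_of_isLE T.obj₁ (b - 1) (j + 1) (by omega)).eq_of_tgt _ _)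
      exact isIso_of_mono_of_epi _
    have hCle : T.obj₃.IsLE b := by
      rw [isLE_iff]
      intro j hj
      have := isoC j hj.le
      exact (isZero_of_isLE E b j hj).of_iso (asIso ((homologyFunctor X.Modules j).map T.mor₂)).symm
    obtain ⟨A, ⟨eA⟩⟩ := T.obj₃.exists_iso_singleFunctor_obj_of_isGE_of_isLE b
    let eH : DCoh.HD E b ≅ A := (@asIso _ _ _ _ _ (isoC b le_rfl)) ≪≫
      (homologyFunctor X.Modules b).mapIso eA ≪≫ (singleFunctorCompHomologyFunctorIso X.Modules b).app A
    have htop : DerSch.IsPseudoCoherentRel f b T.obj₃ :=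
      isRel_triangle₃ b hT (isRel_of_isZero _ fun j hj => isZero_of_isLE T.obj₁ (b - 1) j (by omega)) (h b)
    have hb0 : DerSch.IsPseudoCoherentRel f 0 (DCoh.inD X (DCoh.HD E b)) :=
      isRel_of_iso (isRel_shift htop b 0 (by omega))
        ((shiftFunctor (DCoh.D X) b).mapIso eA ≪≫ ((singleFunctors X.Modules).shiftIso b 0 b (by omega)).app A ≪≫
          (DerivedCategory.singleFunctor X.Modules 0).mapIso eH.symm)
    have hcoh : Coh.IsCoh (DCoh.HD E b) :=
      ⟨isQCoh_HD f (b - 1) E (h (b - 1)) b (by omega), (isPseudoCoherentRel_zero_iff f _).1 hb0⟩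
    rcases lt_trichotomy i b with hi | rfl | hi
    · have h₃ : DerSch.IsPseudoCoherentRelAll f T.obj₃ := fun m =>
        isRel_of_iso (isRel_shift (isRel_of_isCoh (f := f) _ hcoh (m - b)) (-b) m (by omega))
          ((shiftFunctor (DCoh.D X) (-b)).mapIso ((DerivedCategory.singleFunctor X.Modules 0).mapIso eH) ≪≫
            ((singleFunctors X.Modules).shiftIso (-b) b 0 (by omega)).app A ≪≫ eA.symm)
      have h₁ : DerSch.IsPseudoCoherentRelAll f T.obj₁ := fun m => isRel_triangle₁ m hT (h m) (h₃ (m - 1))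

      exact QCohLib.isCoh_of_iso (@asIso _ _ _ _ _ (isoA i (by omega)))
        (ih (b - 1) i T.obj₁ (by omega) hA h₁)
    · exact hcoh
    · exact QCohLib.isCoh_of_isZero (isZero_of_isLE E b i hi)

theorem isCohD_of_isRelAll [LocallyOfFiniteType f] [IsLocallyNoetherian S] (E : DCoh.D X) (b : ℤ) [E.IsLE b]
    (h : DerSch.IsPseudoCoherentRelAll f E) : DCoh.IsCohD E := fun i =>
  isCoh_HD_of_isRelAll ((b - i).toNat + 1) b i E (by omega) inferInstance h

theorem rpush_proper {Y : Scheme.{u}} [IsNoetherian S] (p : X ⟶ S) (q : Y ⟶ S) [LocallyOfFiniteType p]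
    [LocallyOfFiniteType q] [QuasiCompact q] (g : X ⟶ Y) [IsProper g] [DCoh.HasRpush g] (E : DCoh.D X) (a b : ℤ)
    [E.IsGE a] [E.IsLE b] (hE : DerSch.IsPseudoCoherentRelAll p E) :
    (∃ c : ℤ, ((DCoh.Rpush g).obj E).IsLE c) ∧ ((DCoh.Rpush g).obj E).IsGE a ∧
      DerSch.IsPseudoCoherentRelAll q ((DCoh.Rpush g).obj E) := by
  haveI : IsLocallyNoetherian X := LocallyOfFiniteType.isLocallyNoetherian p
  haveI : IsLocallyNoetherian Y := LocallyOfFiniteType.isLocallyNoetherian q
  haveI : CompactSpace Y := QuasiCompact.compactSpace_of_compactSpace q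
  haveI : IsNoetherian Y := ⟨⟩
  have hc := isCohD_of_isRelAll (f := p) E b hE
  have hs : ∀ i : ℤ, ClSub.IsProperOver g (CohB1.support (DCoh.HD E i)) := fun i =>
    HigherDirect.isProperOver_of_subset_range g (QCohLib.isClosed_support (hc i).2) (𝟙 X)
      (by intro x _; exact ⟨x, rfl⟩)
  obtain ⟨c, hc'⟩ := DQCPush.exists_isLE_Rpush g E a b hc hs
  haveI := hc'
  exact ⟨⟨c, hc'⟩, DQCPush.isGE_Rpush g E a,
    isRelAll_of_isCohD _ c (DQCPush.isCohD_Rpush_of_isGE g E a hc hs)⟩

end Groth.Agent.RelPC
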