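import Groth.Agent.RelPC.Global

/-!
Relative pseudo-coherence and restriction to opens of the source.
-/

set_option autoImplicit false
set_option linter.style.haveILetI false

universe u

open CategoryTheory CategoryTheory.Limits AlgebraicGeometry TopologicalSpace

attribute [local instance] HasDerivedCategory.standard

namespace Groth.Agent.RelPC

variable {X S : Scheme.{u}} {f : X ⟶ S}

lemma isChart_restrict_iff (O : X.Opens) (U₁ : (O : Scheme.{u}).Opens) (V : S.Opens)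
    (h₀ : O.ι ''ᵁ U₁ ≤ f ⁻¹ᵁ V) (h₁ : U₁ ≤ (O.ι ≫ f) ⁻¹ᵁ V) {n : ℕ}
    (φ : MvPolynomial (Fin n) Γ(S, V) →+* Γ(X, O.ι ''ᵁ U₁)) :
    DerSch.IsChart (O.ι ≫ f) U₁ V h₁ ((O.ι.appIso U₁).hom.hom.comp φ) ↔ DerSch.IsChart f (O.ι ''ᵁ U₁) V h₀ φ := by
  have hb : Function.Bijective (O.ι.appIso U₁).hom := ConcreteCategory.bijective_of_isIso _
  have hc : (f.appLE V (O.ι ''ᵁ U₁) h₀) ≫ (O.ι.appIso U₁).hom = (O.ι ≫ f).appLE V U₁ h₁ := by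
    rw [Scheme.Hom.appIso_hom', Scheme.Hom.appLE_comp_appLE]
  constructor
  · rintro ⟨hs, hC⟩
    refine ⟨fun y => ?_, RingHom.ext fun r => hb.1 ?_⟩
    · obtain ⟨p, hp⟩ := hs ((O.ι.appIso U₁).hom y)
      exact ⟨p, hb.1 hp⟩
    · exact (RingHom.congr_fun hC r).trans (ConcreteCategory.congr_hom hc r).symm
  · rintro ⟨hs, hC⟩
    refine ⟨hb.2.comp hs, RingHom.ext fun r => ?_⟩
    refine Eq.trans ?_ (ConcreteCategory.congr_hom hc r)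
    exact congrArg (O.ι.appIso U₁).hom (RingHom.congr_fun hC r)

lemma chartPC_restrict_iff (O : X.Opens) {U₁ : (O : Scheme.{u}).Opens} (hU₁ : IsAffineOpen U₁) {V : S.Opens}
    {h₀ : O.ι ''ᵁ U₁ ≤ f ⁻¹ᵁ V} (h₁ : U₁ ≤ (O.ι ≫ f) ⁻¹ᵁ V) {n : ℕ}
    {φ : MvPolynomial (Fin n) Γ(S, V) →+* Γ(X, O.ι ''ᵁ U₁)} (hφ : DerSch.IsChart f (O.ι ''ᵁ U₁) V h₀ φ)
    (m : ℤ) (E : CochainComplex X.Modules ℤ) :
    DerSch.ChartPC m (DCoh.toD (O : Scheme.{u}) ((DCoh.restrictCx O).obj E)) U₁ V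
        ((O.ι.appIso U₁).hom.hom.comp φ) ↔
      DerSch.ChartPC m (DCoh.toD X E) (O.ι ''ᵁ U₁) V φ := by
  have hU₀ : IsAffineOpen (O.ι ''ᵁ U₁) := hU₁.image_of_isOpenImmersion O.ι
  let φ₁ := (O.ι.appIso U₁).hom.hom.comp φ
  haveI := isClosedImmersion_chartImm hU₁ ((isChart_restrict_iff O U₁ V h₀ h₁ φ).2 hφ)
  haveI := isClosedImmersion_chartImm hU₀ hφ
  let t := (O.ι.isoImage U₁).hom
  have ha : t ≫ (O.ι ''ᵁ U₁).ι = U₁.ι ≫ O.ι := Scheme.Hom.isoImage_hom_ι _ _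
  have ht : t ≫ (O.ι ''ᵁ U₁).toSpecΓ = U₁.toSpecΓ ≫ Spec.map (O.ι.appIso U₁).hom := by
    rw [← cancel_mono hU₀.fromSpec, Category.assoc, Category.assoc, hU₀.toSpecΓ_fromSpec, ha,
      Scheme.Hom.appIso_hom', hU₀.SpecMap_appLE_fromSpec _ hU₁, hU₁.toSpecΓ_fromSpec_assoc]
  have hd : t ≫ DerSch.chartImm (O.ι ''ᵁ U₁) φ = DerSch.chartImm U₁ φ₁ := by
    show t ≫ _ ≫ _ = U₁.toSpecΓ ≫ _
    rw [reassoc_of% ht, ← Spec.map_comp]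
    rfl
  obtain ⟨s⟩ := nonempty_functor_congr (U₁.ι ≫ O.ι) (O.ι ''ᵁ U₁).ι t (DerSch.chartImm U₁ φ₁)
    (DerSch.chartImm (O.ι ''ᵁ U₁) φ) ha hd
  let F : DCohPerf.rF O.ι ⋙ chartF U₁ (DerSch.chartImm U₁ φ₁) ≅
      chartF (O.ι ''ᵁ U₁) (DerSch.chartImm (O.ι ''ᵁ U₁) φ) :=
    (Functor.associator _ _ _).symm ≪≫ Functor.isoWhiskerRight (DCohPerf.rFComp U₁.ι O.ι).symm _ ≪≫ s
  let i : (chartD U₁ (DerSch.chartImm U₁ φ₁)).obj (DCoh.toD (O : Scheme.{u}) ((DCoh.restrictCx O).obj E)) ≅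
      (chartD (O.ι ''ᵁ U₁) (DerSch.chartImm (O.ι ''ᵁ U₁) φ)).obj (DCoh.toD X E) :=
    chartDQ U₁ _ _ ≪≫ DerivedCategory.Q.mapIso ((NatIso.mapHomologicalComplex F (ComplexShape.up ℤ)).app E) ≪≫
      (chartDQ _ _ E).symm
  rw [chartPC_iff, chartPC_iff]
  exact ⟨fun h => DCohPerf.isPC_of_iso h i, fun h => DCohPerf.isPC_of_iso h i.symm⟩

theorem isRel_restrict {m : ℤ} {E : CochainComplex X.Modules ℤ}
    (hE : DerSch.IsPseudoCoherentRel f m (DCoh.toD X E)) (O : X.Opens) :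
    DerSch.IsPseudoCoherentRel (O.ι ≫ f) m (DCoh.toD (O : Scheme.{u}) ((DCoh.restrictCx O).obj E)) := by
  haveI : LocallyOfFiniteType f := hE.1
  refine isPseudoCoherentRel_of_forall (O.ι ≫ f) m _ fun U₁ V h₁ => ?_
  have h₀ : O.ι ''ᵁ U₁.1 ≤ f ⁻¹ᵁ V.1 := by
    rintro _ ⟨y, hy, rfl⟩
    exact h₁ hy
  have hU₀ : IsAffineOpen (O.ι ''ᵁ U₁.1) := U₁.2.image_of_isOpenImmersion O.ι
  obtain ⟨n, φ, hφ⟩ := exists_chart f ⟨_, hU₀⟩ V h₀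
  exact ⟨n, _, (isChart_restrict_iff O U₁.1 V.1 h₀ h₁ φ).2 hφ,
    (chartPC_restrict_iff O U₁.2 h₁ hφ m E).2 (chartPC_of_isRel hE hU₀ V.2 hφ)⟩

theorem isRel_glue [LocallyOfFiniteType f] {m : ℤ} {E : CochainComplex X.Modules ℤ} {ι : Type u} (U : ι → X.Opens)
    (hU : ⨆ i, U i = ⊤)
    (h : ∀ i : ι, DerSch.IsPseudoCoherentRel ((U i).ι ≫ f) m
      (DCoh.toD (U i : Scheme.{u}) ((DCoh.restrictCx (U i)).obj E))) :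
    DerSch.IsPseudoCoherentRel f m (DCoh.toD X E) := by
  refine isRel_of_local fun x => ?_
  obtain ⟨i, hx⟩ := Opens.mem_iSup.1 (hU.symm ▸ Opens.mem_top x)
  obtain ⟨U₁, V, h₁, hx₁, n, ψ, hψ, hPC⟩ := exists_goodPair (h i) ⟨x, hx⟩
  have h₀ : (U i).ι ''ᵁ U₁.1 ≤ f ⁻¹ᵁ V.1 := by
    rintro _ ⟨y, hy, rfl⟩
    exact h₁ hy
  let φ := ((U i).ι.appIso U₁.1).inv.hom.comp ψ
  have e : ((U i).ι.appIso U₁.1).hom.hom.comp φ = ψ :=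
    RingHom.ext fun p => Iso.inv_hom_id_apply ((U i).ι.appIso U₁.1) _
  have hφ : DerSch.IsChart f ((U i).ι ''ᵁ U₁.1) V.1 h₀ φ := (isChart_restrict_iff (U i) U₁.1 V.1 h₀ h₁ φ).1 (e.symm ▸ hψ)
  exact ⟨⟨_, U₁.2.image_of_isOpenImmersion (U i).ι⟩, V, h₀, ⟨⟨x, hx⟩, hx₁, rfl⟩, n, φ, hφ,
    (chartPC_restrict_iff (U i) U₁.2 h₁ hφ m E).1 (e.symm ▸ hPC)⟩

end Groth.Agent.RelPC
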