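import Groth.Agent.RelPC.Proper
import Groth.Agent.RelPC.Restrict
import Groth.Agent.DQCPush.Restrict

/-!
Proper direct images over locally Noetherian bases.
-/

set_option autoImplicit false
set_option linter.style.haveILetI false

universe u

open CategoryTheory CategoryTheory.Limits AlgebraicGeometry TopologicalSpace

attribute [local instance] HasDerivedCategory.standard

namespace Groth.Agent.RelPC

theorem rpush_proper_compact {X Y S : Scheme.{u}} [IsLocallyNoetherian S] (p : X ⟶ S) (q : Y ⟶ S)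
    [LocallyOfFiniteType p] [LocallyOfFiniteType q] [CompactSpace Y] (g : X ⟶ Y) [IsProper g] [DCoh.HasRpush g]
    (E : DCoh.D X) (a b : ℤ) [E.IsGE a] [E.IsLE b] (hE : DerSch.IsPseudoCoherentRelAll p E) :
    DerSch.IsPseudoCoherentRelAll q ((DCoh.Rpush g).obj E) := by
  haveI : IsLocallyNoetherian X := LocallyOfFiniteType.isLocallyNoetherian p
  haveI : IsLocallyNoetherian Y := LocallyOfFiniteType.isLocallyNoetherian q
  haveI : IsNoetherian Y := ⟨⟩
  have hc := isCohD_of_isRelAll (f := p) E b hE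
  have hs : ∀ i : ℤ, ClSub.IsProperOver g (CohB1.support (DCoh.HD E i)) := fun i =>
    HigherDirect.isProperOver_of_subset_range g (QCohLib.isClosed_support (hc i).2) (𝟙 X)
      (by intro x _; exact ⟨x, rfl⟩)
  obtain ⟨c, hc'⟩ := DQCPush.exists_isLE_Rpush g E a b hc hs
  haveI := hc'
  exact isRelAll_of_isCohD _ c (DQCPush.isCohD_Rpush_of_isGE g E a hc hs)

theorem rpush_proper_local {X Y S : Scheme.{u}} [IsLocallyNoetherian S] (p : X ⟶ S) (q : Y ⟶ S)
    [LocallyOfFiniteType p] [LocallyOfFiniteType q] (f : X ⟶ Y) [IsProper f] (w : f ≫ q = p) [DCoh.HasRpush f]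
    (E : DCoh.D X) (a : ℤ) [E.IsGE a] (hE : DerSch.IsPseudoCoherentRelAll p E) :
    DerSch.IsPseudoCoherentRelAll q ((DCoh.Rpush f).obj E) := fun m => by
  subst w
  let G := DerivedCategory.Q.objPreimage ((DCoh.Rpush f).obj E)
  let eG : DCoh.toD Y G ≅ (DCoh.Rpush f).obj E := DerivedCategory.Q.objObjPreimageIso _
  refine isRel_of_iso ?_ eG
  refine isRel_glue (fun W : Y.affineOpens => (W : Y.Opens)) (iSup_affineOpens_eq_top Y) fun W => ?_
  let U : X.Opens := f ⁻¹ᵁ (W : Y.Opens)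
  haveI := DQCPush.hasRpush (f ∣_ (W : Y.Opens))
  haveI : IsProper (f ∣_ (W : Y.Opens)) := IsZariskiLocalAtTarget.restrict ‹_› _
  haveI : IsAffine ((W : Y.Opens) : Scheme.{u}) := W.2
  haveI : CompactSpace (U : Scheme.{u}) := QuasiCompact.compactSpace_of_compactSpace (f ∣_ (W : Y.Opens))
  haveI : PreservesFiniteLimits (Scheme.Modules.restrictFunctor (W : Y.Opens).ι) :=
    CxOX.preservesFiniteLimits_restrictFunctor _
  haveI : PreservesFiniteLimits (Scheme.Modules.restrictFunctor (f ⁻¹ᵁ (W : Y.Opens)).ι) :=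
    CxOX.preservesFiniteLimits_restrictFunctor _
  obtain ⟨r⟩ := DQCPush.nonempty_Rpush_restrict_iso f (W : Y.Opens)
  let F := DerivedCategory.Q.objPreimage E
  let eF : DCoh.toD X F ≅ E := DerivedCategory.Q.objObjPreimageIso E
  have hrw : (f ∣_ (W : Y.Opens)) ≫ (W : Y.Opens).ι ≫ q = U.ι ≫ f ≫ q := by
    rw [morphismRestrict_ι_assoc]
  haveI : LocallyOfFiniteType ((f ∣_ (W : Y.Opens)) ≫ (W : Y.Opens).ι ≫ q) := inferInstance
  have h1 : DerSch.IsPseudoCoherentRelAll ((f ∣_ (W : Y.Opens)) ≫ (W : Y.Opens).ι ≫ q)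
      ((DCohPerf.RD U.ι).obj E) := fun n => by
    rw [hrw]
    exact isRel_of_iso (isRel_restrict (isRel_of_iso (hE n) eF.symm) U)
      ((DCohPerf.RQ U.ι F).symm ≪≫ (DCohPerf.RD U.ι).mapIso eF)
  obtain ⟨b, hb⟩ := exists_isLE _ 0 _ (h1 0)
  haveI := hb
  haveI : ((DCohPerf.RD U.ι).obj E).IsGE a := (DerivedCategory.isGE_iff _ a).2 fun i hi =>
    DCohPerf.isZero_homology_restrict U.ι E i (DerivedCategory.isZero_of_isGE E a i hi)
  exact isRel_of_iso (rpush_proper_compact _ ((W : Y.Opens).ι ≫ q) (f ∣_ (W : Y.Opens))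
    ((DCohPerf.RD U.ι).obj E) a b h1 m)
    ((r.app E).symm ≪≫ (DCohPerf.RD (W : Y.Opens).ι).mapIso eG.symm ≪≫ DCohPerf.RQ (W : Y.Opens).ι G)

end Groth.Agent.RelPC
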