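import Groth.Agent.RelPC.Morph
import Groth.Agent.DQC.Affine
import Groth.Agent.DQC.PushAffine

/-!
Relative pseudo-coherence through complexes of modules over the affine charts.
-/

set_option autoImplicit false
set_option linter.style.haveILetI false

universe u

open CategoryTheory CategoryTheory.Limits AlgebraicGeometry TopologicalSpace

attribute [local instance] HasDerivedCategory.standard

namespace Groth.Agent.RelPC

/-- Direct image of the sheaf of a complex of modules along a map of spectra. -/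
theorem nonempty_pushD_tildeD {R S : CommRingCat.{u}} (φ : R ⟶ S) [IsClosedImmersion (Spec.map φ)]
    [PreservesFiniteLimits (tilde.functor R)] [PreservesFiniteLimits (tilde.functor S)] (M : Dual.D S) :
    Nonempty ((pushD (Spec.map φ)).obj ((DCoh.tildeD S).obj M) ≅
      (DCoh.tildeD R).obj ((DRing.restrictD φ.hom).obj M)) := by
  let N := DerivedCategory.Q.objPreimage M
  let eN : DerivedCategory.Q.obj N ≅ M := DerivedCategory.Q.objObjPreimageIso M
  exact ⟨(pushD (Spec.map φ)).mapIso ((DCoh.tildeD S).mapIso eN.symm ≪≫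
      (tilde.functor S).mapDerivedCategoryFactors.app N) ≪≫ pushDQ (Spec.map φ) _ ≪≫
    DerivedCategory.Q.mapIso ((NatIso.mapHomologicalComplex (DQC.pushTildeIso φ) (ComplexShape.up ℤ)).app N) ≪≫
    ((tilde.functor R).mapDerivedCategoryFactors.app ((DRing.restrictCx φ.hom).obj N)).symm ≪≫
    (DCoh.tildeD R).mapIso ((DRingPC.restrictQ φ.hom N).symm ≪≫ (DRing.restrictD φ.hom).mapIso eN)⟩

variable {X S : Scheme.{u}} {f : X ⟶ S}

theorem chartPC_ring {U : X.Opens} (hU : IsAffineOpen U) {V : S.Opens} {h : U ≤ f ⁻¹ᵁ V} {n : ℕ}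
    {φ : MvPolynomial (Fin n) Γ(S, V) →+* Γ(X, U)} (hφ : DerSch.IsChart f U V h φ) (m : ℤ) (E : DCoh.D X)
    [IsClosedImmersion hU.isoSpec.hom] [PreservesFiniteLimits (tilde.functor Γ(X, U))]
    (M : Dual.D Γ(X, U)) (e : (DCoh.tildeD Γ(X, U)).obj M ≅ (chartD U hU.isoSpec.hom).obj E) :
    DerSch.ChartPC m E U V φ ↔
      DRing.IsPseudoCoherent (MvPolynomial (Fin n) Γ(S, V)) m ((DRing.restrictD φ).obj M) := by
  haveI := isClosedImmersion_chartImm hU hφ
  haveI : IsClosedImmersion (Spec.map (CommRingCat.ofHom φ : PR Γ(S, V) n ⟶ Γ(X, U))) :=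
    IsClosedImmersion.spec_of_surjective _ hφ.1
  haveI : PreservesFiniteLimits (tilde.functor (PR Γ(S, V) n)) := QCohLib.preservesFiniteLimits_tilde
  obtain ⟨i⟩ := nonempty_chartD_comp U hU.isoSpec.hom (Spec.map (CommRingCat.ofHom φ : PR Γ(S, V) n ⟶ Γ(X, U)))
    (DerSch.chartImm U φ) rfl E
  obtain ⟨j⟩ := nonempty_pushD_tildeD (CommRingCat.ofHom φ : PR Γ(S, V) n ⟶ Γ(X, U)) M
  let k := j.symm ≪≫ (pushD (Spec.map (CommRingCat.ofHom φ : PR Γ(S, V) n ⟶ Γ(X, U)))).mapIso e ≪≫ i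
  rw [chartPC_iff]
  exact ⟨fun h => (DCohPerf.isPC_tildeD_iff (R := PR Γ(S, V) n)
      ((DRing.restrictD (CommRingCat.ofHom φ : PR Γ(S, V) n ⟶ Γ(X, U)).hom).obj M) m).1 (DCohPerf.isPC_of_iso h k.symm),
    fun h => DCohPerf.isPC_of_iso ((DCohPerf.isPC_tildeD_iff (R := PR Γ(S, V) n)
      ((DRing.restrictD (CommRingCat.ofHom φ : PR Γ(S, V) n ⟶ Γ(X, U)).hom).obj M) m).2 h) k⟩

theorem exists_tildeD {U : X.Opens} (hU : IsAffineOpen U) [IsClosedImmersion hU.isoSpec.hom]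
    [PreservesFiniteLimits (tilde.functor Γ(X, U))] (E : DCoh.D X) (hE : DCoh.IsQCohD E) :
    ∃ M : Dual.D Γ(X, U), Nonempty ((DCoh.tildeD Γ(X, U)).obj M ≅ (chartD U hU.isoSpec.hom).obj E) := by
  refine (DQC.isQCohD_iff Γ(X, U) _).1 fun i => ?_
  obtain ⟨p⟩ := nonempty_chartD_push U hU.isoSpec.hom E
  obtain ⟨q⟩ := nonempty_HD_pushD hU.isoSpec.hom ((DCohPerf.RD U.ι).obj E) i
  haveI : (DCoh.HD ((DCohPerf.RD U.ι).obj E) i).IsQuasicoherent := DQC.isQCohD_restrict U.ι hE i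
  exact (DQC.qc _).prop_of_iso ((DerivedCategory.homologyFunctor _ i).mapIso p ≪≫ q).symm
    (QCohLib.isQuasicoherent_pushforward hU.isoSpec.hom)

/-- The presentation form. -/
theorem isRel_iff_ring [LocallyOfFiniteType f]
    [∀ U : X.affineOpens, PreservesFiniteLimits (tilde.functor (X.presheaf.obj (Opposite.op (U : X.Opens))))]
    (E : DCoh.D X) (hE : DCoh.IsQCohD E) (m : ℤ) :
    DerSch.IsPseudoCoherentRel f m E ↔
      ∀ (U : X.affineOpens) (V : S.affineOpens) (h : (U : X.Opens) ≤ f ⁻¹ᵁ (V : S.Opens))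
        (G : CochainComplex X.Modules ℤ), Nonempty (DCoh.toD X G ≅ E) →
        ∀ M : Dual.D Γ(X, (U : X.Opens)),
          Nonempty ((DCoh.tildeD (X.presheaf.obj (Opposite.op (U : X.Opens)))).obj M ≅
            DCoh.toD _ ((DerSch.pushCx U.2.isoSpec.hom).obj ((DCoh.restrictCx (U : X.Opens)).obj G))) →
          letI := (f.appLE (V : S.Opens) (U : X.Opens) h).hom.toAlgebra
          DerCA.IsRelPseudoCoherent Γ(S, (V : S.Opens)) Γ(X, (U : X.Opens)) m M := by
  constructor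
  · rintro hK U V h G ⟨eG⟩ M ⟨eM⟩
    letI := (f.appLE (V : S.Opens) (U : X.Opens) h).hom.toAlgebra
    obtain ⟨n, φ, hφ, hPC⟩ := goodPair_of_isRel hK U V h
    let α : MvPolynomial (Fin n) Γ(S, (V : S.Opens)) →ₐ[Γ(S, (V : S.Opens))] Γ(X, (U : X.Opens)) :=
      { φ with commutes' := fun r => RingHom.congr_fun hφ.2 r }
    haveI : IsClosedImmersion U.2.isoSpec.hom := inferInstance
    exact ⟨n, α, hφ.1, (chartPC_ring U.2 hφ m E M (eM ≪≫ (chartDQ _ _ G).symm ≪≫ (chartD _ _).mapIso eG)).1 hPC⟩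
  · intro H
    refine isRel_iff.2 fun U V h => ?_
    letI := (f.appLE (V : S.Opens) (U : X.Opens) h).hom.toAlgebra
    haveI : IsClosedImmersion U.2.isoSpec.hom := inferInstance
    obtain ⟨M, ⟨eM⟩⟩ := exists_tildeD U.2 E hE
    let G := DerivedCategory.Q.objPreimage E
    let eG : DCoh.toD X G ≅ E := DerivedCategory.Q.objObjPreimageIso E
    obtain ⟨n, α, hα, hM⟩ := H U V h G ⟨eG⟩ M ⟨eM ≪≫ (chartD _ _).mapIso eG.symm ≪≫ chartDQ _ _ G⟩
    have hφ : DerSch.IsChart f (U : X.Opens) (V : S.Opens) h α.toRingHom := ⟨hα, α.comp_algebraMap⟩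
    exact ⟨n, α.toRingHom, hφ, (chartPC_ring U.2 hφ m E M eM).2 hM⟩

end Groth.Agent.RelPC
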