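import Groth.Agent.RelPC.BaseChange

/-!
Composition of morphisms pseudo-coherent up to a degree.
-/

set_option autoImplicit false
set_option linter.style.haveILetI false

universe u

open CategoryTheory CategoryTheory.Limits CategoryTheory.Pretriangulated Groth.Agent.DRingPC Groth.Agent.PCohLib

attribute [local instance] HasDerivedCategory.standard

namespace Groth.Agent.RelPC

section Alg

variable {A B : Type u} [CommRing A] [CommRing B]

lemma npc_restrict_free {f : A →+* B} {m : ℤ} (hf : NPC (FF A) m ((DerivedCategory.singleFunctor _ 0).obj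
      ((ModuleCat.restrictScalars f).obj (ModuleCat.of B B)))) (M : ModuleCat.{u} B) (hM : FF B M) :
    NPC (FF A) m ((DerivedCategory.singleFunctor _ 0).obj ((ModuleCat.restrictScalars f).obj M)) := by
  have key : ∀ n : ℕ, NPC (FF A) m ((DerivedCategory.singleFunctor _ 0).obj
      ((ModuleCat.restrictScalars f).obj (ModuleCat.of B (Fin n → B)))) := by
    intro n
    induction n with
    | zero =>
      exact finite_zero _ _ (Functor.map_isZero _ (ModuleCat.isZero_of_subsingleton _))
    | succ n ih =>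
      let S := ShortComplex.mk (biprod.inl : ModuleCat.of B B ⟶ _ ⊞ ModuleCat.of B (Fin n → B))
        biprod.snd biprod.inl_snd
      have hS : S.ShortExact :=
        (ShortComplex.Splitting.ofHasBinaryBiproduct (ModuleCat.of B B)
          (ModuleCat.of B (Fin n → B))).shortExact
      refine NPC_single_congr ((ModuleCat.restrictScalars f).mapIso
        (ModuleCat.biprodIsoProd (ModuleCat.of B B) (ModuleCat.of B (Fin n → B)) ≪≫
          (Fin.consLinearEquiv B (fun _ => B)).toModuleIso)) ?_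
      exact NPC.of_triangle₂ (FF.sum A) (FF.qs A) (FF.ql A)
        ((hS.map_of_exact (ModuleCat.restrictScalars f)).singleTriangle_distinguished) hf ih
  haveI := hM.1; haveI := hM.2
  obtain ⟨n, e⟩ : ∃ n : ℕ, Nonempty ((Fin n → B) ≃ₗ[B] M) := by
    let b := Module.Free.chooseBasis B M
    exact ⟨_, ⟨(b.reindex (Fintype.equivFin _)).equivFun.symm⟩⟩
  exact NPC_single_congr ((ModuleCat.restrictScalars f).mapIso e.some.toModuleIso) (key n)

/-- Restriction along a map pseudo-coherent up to degree `s`. -/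
lemma npc_restrict_trunc {f : A →+* B} {r s M' : ℤ} (hf : NPC (FF A) s ((DerivedCategory.singleFunctor _ 0).obj
      ((ModuleCat.restrictScalars f).obj (ModuleCat.of B B)))) (hr : r ≤ M') :
    ∀ (k : ℕ) (b : ℤ) (K : Dual.D B), b < r + k → K.IsLE b → b + s ≤ M' → NPC (FF B) r K →
      NPC (FF A) M' ((DRing.restrictD f).obj K) := by
  intro k
  induction k with
  | zero =>
    intro b K hb hK _ _
    haveI := isLE_restrict f K b
    exact NPC_of_isLE _ (b := b) (by lia)
  | succ k ih =>
    intro b K hb hK hs h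
    haveI := isLE_restrict f K b
    by_cases hbm : b < r
    · exact NPC_of_isLE _ (b := b) (by lia)
    have hfin : Module.Finite B ((DerivedCategory.homologyFunctor (ModuleCat.{u} B) b).obj K) :=
      (ft_FF_iff B _).1 ((NPC_iff_ft_homology (FF.sum B) (FF.qs B) (FF.ql B) b _
        (fun i hi => DerivedCategory.isZero_of_isLE _ b i hi)).1 (h.mono (by lia)))
    obtain ⟨M, p, hM, hp⟩ := (ft_FF_iff B _).2 hfin
    obtain ⟨α, hα⟩ := exists_top_lift K b M hM p hp
    obtain ⟨Z, g, δ, hT⟩ := distinguished_cocone_triangle α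
    have hS : ∀ n, NPC (FF B) n ((DerivedCategory.singleFunctor _ b).obj M) := fun n =>
      (NPC_single_of_mem hM (n - b)).single_shift b n (by lia)
    haveI : Z.IsLE (b - 1) := (DerivedCategory.isLE_iff _ _).2 fun i hi => by
      refine (DerivedCategory.HomologySequence.exact₃ _ hT i (i + 1) rfl).isZero_of_both_zeros
        ?_ ?_
      · by_cases hib : i = b
        · subst hib
          exact (DerivedCategory.HomologySequence.epi_homologyMap_mor₁_iff _ hT i).1 hα
        · exact (K.isZero_of_isLE b i (by lia)).eq_of_src _ _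
      · exact (((DerivedCategory.singleFunctor _ b).obj M).isZero_of_isLE b (i + 1) (by lia)).eq_of_tgt _ _
    have hZ : NPC (FF B) r Z := NPC.of_triangle₃ (FF.sum B) (FF.qs B) (FF.ql B) hT (hS (r + 1)) h
    have h1 : NPC (FF A) M' ((DRing.restrictD f).obj ((DerivedCategory.singleFunctor _ b).obj M)) :=
      (((npc_restrict_free hf M hM).single_shift b (s + b) (by lia)).mono (by lia)).of_iso
        (restrictSingle f b M).symm
    exact NPC.of_triangle₂ (FF.sum A) (FF.qs A) (FF.ql A) ((DRing.restrictD f).map_distinguished _ hT)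
      h1 (ih (b - 1) Z (by lia) inferInstance (by lia) hZ)

end Alg

open AlgebraicGeometry Groth.Agent.PerfMor in
/-- Composition. -/
theorem isNPC_comp {X Y Z : Scheme.{u}} (f : X ⟶ Y) (g : Y ⟶ Z) (r s : ℤ)
    (hf : DerSch.IsNPseudoCoherent f r) (hg : DerSch.IsNPseudoCoherent g s) :
    DerSch.IsNPseudoCoherent (f ≫ g) (max r s) := by
  haveI : LocallyOfFiniteType f := hf.1
  haveI : LocallyOfFiniteType g := hg.1
  refine isRel_of_local fun x => ?_
  obtain ⟨U, U', V, hx, h₁, h₂⟩ := exists_triple f g x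
  have h₃ : (U : X.Opens) ≤ (f ≫ g) ⁻¹ᵁ (V : Z.Opens) := fun y hy => h₂ (h₁ hy)
  obtain ⟨n, φ, hφ⟩ := exists_chart g U' V h₂
  obtain ⟨k, ψ, hψ⟩ := exists_chart f U U' h₁
  have hP := (chartPC_unit_iff U'.2 hφ s).1 (chartPC_of_isRel hg U'.2 V.2 hφ)
  have hC := (chartPC_unit_iff U.2 hψ r).1 (chartPC_of_isRel hf U.2 U'.2 hψ)
  let σ : MvPolynomial (Fin (k + n)) Γ(Z, (V : Z.Opens)) →+*
      MvPolynomial (Fin k) (MvPolynomial (Fin n) Γ(Z, (V : Z.Opens))) :=
    (MvPolynomial.sumRingEquiv Γ(Z, (V : Z.Opens)) (Fin k) (Fin n)).toRingHom.comp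
      (MvPolynomial.renameEquiv Γ(Z, (V : Z.Opens)) finSumFinEquiv.symm).toRingEquiv.toRingHom
  have hσ : Function.Bijective σ := (MvPolynomial.sumRingEquiv _ _ _).bijective.comp
    (MvPolynomial.renameEquiv _ finSumFinEquiv.symm).bijective
  let μ : MvPolynomial (Fin k) (MvPolynomial (Fin n) Γ(Z, (V : Z.Opens))) →+*
      MvPolynomial (Fin k) Γ(Y, (U' : Y.Opens)) := MvPolynomial.map φ
  have hμ : NPC (FF _) s ((DerivedCategory.singleFunctor _ 0).obj
      ((ModuleCat.restrictScalars μ).obj (ModuleCat.of _ (MvPolynomial (Fin k) Γ(Y, (U' : Y.Opens)))))) := by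
    letI := φ.toAlgebra
    letI : Algebra (MvPolynomial (Fin k) (MvPolynomial (Fin n) Γ(Z, (V : Z.Opens))))
        (MvPolynomial (Fin k) Γ(Y, (U' : Y.Opens))) := MvPolynomial.algebraMvPolynomial
    exact (NPC_extend_of_flat (algebraMap (MvPolynomial (Fin n) Γ(Z, (V : Z.Opens)))
        (MvPolynomial (Fin k) (MvPolynomial (Fin n) Γ(Z, (V : Z.Opens))))) (RingHom.flat_algebraMap_iff.2 inferInstance)
      ((NPC_single_congr selfRestrictIso hP).of_iso (singleQIso 0 _).symm)).of_iso
        (pushSingleIso (P := MvPolynomial (Fin n) Γ(Z, (V : Z.Opens)))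
          (P' := MvPolynomial (Fin k) (MvPolynomial (Fin n) Γ(Z, (V : Z.Opens))))
          (B := Γ(Y, (U' : Y.Opens))) (C := MvPolynomial (Fin k) Γ(Y, (U' : Y.Opens))))
  let Φ := ψ.comp (μ.comp σ)
  have hΦe : Φ = compPres φ ψ := RingHom.ext fun _ => rfl
  have hΦ : DerSch.IsChart (f ≫ g) (U : X.Opens) (V : Z.Opens) h₃ Φ := by
    refine ⟨hψ.1.comp ((MvPolynomial.map_surjective _ hφ.1).comp hσ.2), ?_⟩
    rw [hΦe, compPres_C hφ.2 hψ.2, ← CommRingCat.hom_comp, Scheme.Hom.appLE_comp_appLE]
  refine ⟨U, V, h₃, hx, _, Φ, hΦ, (chartPC_unit_iff U.2 hΦ _).2 ?_⟩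
  let K : Dual.D Γ(X, (U : X.Opens)) :=
    (DerivedCategory.singleFunctor _ 0).obj (ModuleCat.of Γ(X, (U : X.Opens)) Γ(X, (U : X.Opens)))
  haveI := isLE_restrict ψ K 0
  have h1 := npc_restrict_trunc hμ (le_max_left r s) ((0 - r).toNat + 1) 0 _ (by omega) inferInstance
    (by simp) (hC.of_iso (restrictSingle ψ 0 _).symm)
  have h2 : NPC (FF _) (max r s) ((DRing.restrictD (ψ.comp (μ.comp σ))).obj K) :=
    ((PCHom.of_bijective σ hσ).NPC_restrict h1).of_iso
      ((DRing.restrictD σ).mapIso (restrictQComp ψ μ K).symm ≪≫ (restrictQComp (ψ.comp μ) σ K).symm)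
  exact h2.of_iso (restrictSingle Φ 0 _)

end Groth.Agent.RelPC
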