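import Groth.Agent.RelPC.BaseChange
import Groth.Agent.RelPC.Trunc
import Groth.Agent.DRingPC.PushoutTor
import Groth.Agent.LBC.Basic

/-!
Base change of pseudo-coherent morphisms between schemes flat over a base.
-/

set_option autoImplicit false
set_option linter.style.haveILetI false

universe u

open CategoryTheory CategoryTheory.Limits AlgebraicGeometry TopologicalSpace Groth.Agent.DRingPC Groth.Agent.PerfMor
  Groth.Agent.PCohLib
open CochainComplex (mappingCone)

attribute [local instance] HasDerivedCategory.standard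

namespace Groth.Agent.RelPC

section Alg

variable {R R' P P' B C : Type u} [CommRing R] [CommRing R'] [CommRing P] [CommRing P'] [CommRing B] [CommRing C]
  [Algebra R R'] [Algebra R P] [Algebra P P'] [Algebra R' P'] [Algebra R P'] [IsScalarTower R P P']
  [IsScalarTower R R' P'] [Algebra.IsPushout R R' P P']

/-- Extending along a pushout and restricting to the bottom is restricting and extending. -/
noncomputable def extRestrictPushIso :
    ModuleCat.extendScalars.{u, u, u} (algebraMap P P') ⋙ ModuleCat.restrictScalars.{u} (algebraMap R' P') ≅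
      ModuleCat.restrictScalars.{u} (algebraMap R P) ⋙ ModuleCat.extendScalars.{u, u, u} (algebraMap R R') :=
  NatIso.ofComponents
    (fun M => ((pushoutEquiv (R := R) (S := R') (B := P') M).trans
      (extendLEquiv R R' ↑((ModuleCat.restrictScalars.{u} (algebraMap R P)).obj M))).toModuleIso)
    (fun {M N} f => ModuleCat.hom_ext (LinearMap.ext fun z => by
      obtain ⟨t, rfl⟩ := (pushoutEquiv (R := R) (S := R') (B := P') M).symm.surjective z
      show extendLEquiv R R' ↑((ModuleCat.restrictScalars.{u} (algebraMap R P)).obj N) (pushoutEquiv (R := R) (S := R') (B := P') N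
          (((ModuleCat.restrictScalars.{u} (algebraMap R' P')).map
            ((ModuleCat.extendScalars.{u, u, u} (algebraMap P P')).map f)).hom
              ((pushoutEquiv (R := R) (S := R') (B := P') M).symm t))) = _
      rw [pushoutEquiv_natural, LinearEquiv.apply_symm_apply]
      show _ = ((ModuleCat.extendScalars.{u, u, u} (algebraMap R R')).map
        ((ModuleCat.restrictScalars.{u} (algebraMap R P)).map f)).hom
          (extendLEquiv R R' ↑((ModuleCat.restrictScalars.{u} (algebraMap R P)).obj M) (pushoutEquiv (R := R) (S := R') (B := P') M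
            ((pushoutEquiv (R := R) (S := R') (B := P') M).symm t)))
      rw [LinearEquiv.apply_symm_apply]
      induction t using TensorProduct.induction_on with
      | zero => simp
      | add x y hx hy => simp only [map_add, hx, hy]
      | tmul s x => rfl))

variable [Algebra P B] [Algebra R B] [IsScalarTower R P B] [Algebra P' C] [Algebra B C] [Algebra P C]
  [IsScalarTower P P' C] [IsScalarTower P B C] [Algebra.IsPushout P P' B C]

include R R' in
/-- Pseudo-coherence survives base change of flat algebras. -/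
theorem pcHom_torIndep [Module.Flat R P] [Module.Flat R B] (h : PCHom (algebraMap P B)) :
    PCHom (algebraMap P' C) := by
  obtain ⟨E, q, hE, hq⟩ := exists_strictPCAll_qiso (FF.sum P) (FF.qs P) (FF.ql P)
    (F := (HomologicalComplex.single _ (ComplexShape.up ℤ) 0).obj (ModuleCat.of P B))
    (fun m => (NPC_single_congr selfRestrictIso (h m)).of_iso (singleQIso 0 _).symm)
  obtain ⟨⟨b, hb⟩, hEX⟩ := hE
  let G := (ModuleCat.restrictScalars.{u} (algebraMap R P)).mapHomologicalComplex (ComplexShape.up ℤ)
  let lB : B ≃ₗ[R] (ModuleCat.restrictScalars.{u} (algebraMap R P)).obj (ModuleCat.of P B) :=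
    { AddEquiv.refl B with map_smul' := fun r x => (IsScalarTower.algebraMap_smul P r x).symm }
  have hfl : ∀ i, Module.Flat R
      ((G.obj ((HomologicalComplex.single _ (ComplexShape.up ℤ) 0).obj (ModuleCat.of P B))).X i) := fun i => by
    by_cases hi : i = 0
    · subst hi
      haveI : Module.Flat R ((ModuleCat.restrictScalars.{u} (algebraMap R P)).obj (ModuleCat.of P B)) :=
        Module.Flat.of_linearEquiv lB.symm
      exact Module.Flat.of_linearEquiv (((ModuleCat.restrictScalars.{u} (algebraMap R P)).mapIso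
        (HomologicalComplex.singleObjXSelf (ComplexShape.up ℤ) 0 (ModuleCat.of P B))).toLinearEquiv)
    · haveI := ModuleCat.subsingleton_of_isZero ((ModuleCat.restrictScalars.{u} (algebraMap R P)).map_isZero
        (HomologicalComplex.isZero_single_obj_X (ComplexShape.up ℤ) 0 (ModuleCat.of P B) i hi))
      exact inferInstanceAs (Module.Flat R ((ModuleCat.restrictScalars.{u} (algebraMap R P)).obj _))
  have hqG : QuasiIso (G.map q) := inferInstance
  have hext : QuasiIso ((LBC.ext (algebraMap R R')).map (G.map q)) :=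
    LBC.quasiIso_ext_of_kFlat _ (isKFlat_restrict E b hb fun i => by
      haveI := (hEX i).2
      infer_instance) (KFlat.isKFlat_of_boundedAbove 0
        (fun i hi => (ModuleCat.restrictScalars.{u} _).map_isZero
          (HomologicalComplex.isZero_single_obj_X _ _ _ _ (by omega))) hfl) _ hqG
  haveI : QuasiIso ((extCx (algebraMap P P')).map q) := by
    let H := (ModuleCat.restrictScalars.{u} (algebraMap R' P')).mapHomologicalComplex (ComplexShape.up ℤ)
    let α := Functor.mapHomologicalComplexCompIso (extRestrictPushIso (R := R) (R' := R') (P := P) (P' := P'))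
      (ComplexShape.up ℤ)
    refine (HomologicalComplex.quasiIso_map_iff_of_preservesHomology ((extCx (algebraMap P P')).map q)
      (ModuleCat.restrictScalars.{u} (algebraMap R' P'))).1 ?_
    exact (quasiIso_iff_of_arrow_mk_iso _ _ (((Functor.mapArrowFunctor _ _).mapIso α).app (Arrow.mk q))).2 hext
  haveI : IsIso (DerivedCategory.Q.map ((extCx (algebraMap P P')).map q)) := by
    rw [DerivedCategory.isIso_Q_map_iff_quasiIso]; infer_instance
  exact fun m => (NPC.mk ⟨⟨b, fun i hi => (ModuleCat.extendScalars.{u, u, u} _).map_isZero (hb i hi)⟩,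
    fun i _ => FF_extend _ (hEX i)⟩ (asIso (DerivedCategory.Q.map ((extCx (algebraMap P P')).map q)))).of_iso
      pushSingleIso

end Alg

section Alg2

variable {R R' A A' B B' : Type u} [CommRing R] [CommRing R'] [CommRing A] [CommRing B] [CommRing A'] [CommRing B']
  [Algebra R R'] [Algebra R A] [Algebra R' A'] [Algebra R A'] [Algebra A A'] [IsScalarTower R A A'] [IsScalarTower R R' A']
  [Algebra.IsPushout R R' A A']
  [Algebra A B] [Algebra A' B'] [Algebra B B'] [Algebra A B'] [IsScalarTower A A' B'] [IsScalarTower A B B']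
  [Algebra.IsPushout A A' B B'] [Algebra R B] [IsScalarTower R A B]

include R R' in
attribute [local instance] MvPolynomial.algebraMvPolynomial in
/-- Pseudo-coherent presentations survive base change of flat algebras. -/
theorem pcHom_pushPres_torIndep [Module.Flat R A] [Module.Flat R B] {n : ℕ} {π : MvPolynomial (Fin n) A →+* B}
    (hc : π.comp MvPolynomial.C = algebraMap A B) (h : PCHom π) :
    PCHom (pushPres (A' := A') (B' := B') π) := by
  letI := π.toAlgebra
  letI := (pushPres (A' := A') (B' := B') π).toAlgebra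
  letI : Algebra (MvPolynomial (Fin n) A) B' := ((algebraMap B B').comp π).toAlgebra
  haveI : IsScalarTower (MvPolynomial (Fin n) A) B B' := IsScalarTower.of_algebraMap_eq fun _ => rfl
  haveI : IsScalarTower (MvPolynomial (Fin n) A) (MvPolynomial (Fin n) A') B' :=
    IsScalarTower.of_algebraMap_eq fun p => (RingHom.congr_fun (pushPres_map hc) p).symm
  haveI : IsScalarTower A (MvPolynomial (Fin n) A) B :=
    IsScalarTower.of_algebraMap_eq fun a => (RingHom.congr_fun hc a).symm
  haveI : IsScalarTower A (MvPolynomial (Fin n) A) B' :=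
    IsScalarTower.of_algebraMap_eq fun a => by
      show _ = algebraMap B B' (π (MvPolynomial.C a))
      rw [show π (MvPolynomial.C a) = algebraMap A B a from RingHom.congr_fun hc a,
        ← IsScalarTower.algebraMap_apply]
  haveI : IsScalarTower A' (MvPolynomial (Fin n) A') B' :=
    IsScalarTower.of_algebraMap_eq fun a => (show _ = pushPres (A' := A') (B' := B') π (MvPolynomial.C a) by
      simp [pushPres])
  haveI : IsScalarTower A (MvPolynomial (Fin n) A) (MvPolynomial (Fin n) A') :=
    IsScalarTower.of_algebraMap_eq fun a => (MvPolynomial.map_C (algebraMap A A') a).symm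
  haveI : IsScalarTower A (MvPolynomial (Fin n) A') B' :=
    IsScalarTower.of_algebraMap_eq fun a => by
      show _ = pushPres (A' := A') (B' := B') π (MvPolynomial.C (algebraMap A A' a))
      simp [pushPres, ← IsScalarTower.algebraMap_apply]
  haveI : Algebra.IsPushout (MvPolynomial (Fin n) A) (MvPolynomial (Fin n) A') B B' :=
    haveI : Algebra.IsPushout A B A' B' := .symm inferInstance
    Algebra.IsPushout.symm ((Algebra.IsPushout.comp_iff (R := A) (S := MvPolynomial (Fin n) A) (R' := A')
      (S' := MvPolynomial (Fin n) A') (T := B) (T' := B')).1 inferInstance)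
  haveI : IsScalarTower R (MvPolynomial (Fin n) A) B := IsScalarTower.of_algebraMap_eq fun r => by
    rw [IsScalarTower.algebraMap_apply R A B, IsScalarTower.algebraMap_apply A (MvPolynomial (Fin n) A) B]
    rfl
  haveI : IsScalarTower R (MvPolynomial (Fin n) A) (MvPolynomial (Fin n) A') := IsScalarTower.of_algebraMap_eq fun r => by
    rw [IsScalarTower.algebraMap_apply R A (MvPolynomial (Fin n) A), IsScalarTower.algebraMap_apply R A' (MvPolynomial (Fin n) A'),
      ← IsScalarTower.algebraMap_apply A (MvPolynomial (Fin n) A) (MvPolynomial (Fin n) A'),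
      IsScalarTower.algebraMap_apply R A A', ← IsScalarTower.algebraMap_apply A A' (MvPolynomial (Fin n) A')]
  haveI : Algebra.IsPushout R R' (MvPolynomial (Fin n) A) (MvPolynomial (Fin n) A') :=
    haveI : Algebra.IsPushout R A R' A' := .symm inferInstance
    Algebra.IsPushout.symm ((Algebra.IsPushout.comp_iff (R := R) (S := A) (R' := R') (S' := A')
      (T := MvPolynomial (Fin n) A) (T' := MvPolynomial (Fin n) A')).2
        (.symm (inferInstanceAs (Algebra.IsPushout A A' (MvPolynomial (Fin n) A) (MvPolynomial (Fin n) A')))))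
  haveI : Module.Flat R (MvPolynomial (Fin n) A) := Module.Flat.trans R A _
  exact pcHom_torIndep (R := R) (R' := R') (P := MvPolynomial (Fin n) A) (P' := MvPolynomial (Fin n) A')
    (B := B) (C := B') h

end Alg2

/-- Flat base change, for any pullback square. -/
theorem isNPC_baseChange_of_isPullback {X Y X' Y' : Scheme.{u}} {p : X' ⟶ X} {q : X' ⟶ Y'} {f : X ⟶ Y}
    {h : Y' ⟶ Y} (hpb : IsPullback p q f h) [Flat h] (n : ℤ) (hf : DerSch.IsNPseudoCoherent f n) :
    DerSch.IsNPseudoCoherent q n := by
  haveI := hf.1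
  rw [← hpb.isoPullback_hom_snd, ← max_self n]
  exact isNPC_comp _ _ n n (isNPC_of_flat _ n) (isNPC_baseChange f n hf h)

/-- Base change of a morphism of flat schemes over a base, along any base change. -/
theorem isNPC_baseChange_torIndep {X Y X' Y' S S' : Scheme.{u}} {p : X' ⟶ X} {q : X' ⟶ Y'} {f : X ⟶ Y}
    {h : Y' ⟶ Y} (hpb : IsPullback p q f h) (g : Y ⟶ S) {t : Y' ⟶ S'} {s : S' ⟶ S} (hY : IsPullback h t g s)
    [Flat g] [Flat (f ≫ g)] [LocallyOfFiniteType f] (hf : ∀ n : ℤ, DerSch.IsNPseudoCoherent f n) (n : ℤ) :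
    DerSch.IsNPseudoCoherent q n := by
  haveI : LocallyOfFiniteType q := MorphismProperty.of_isPullback hpb inferInstance
  refine isRel_of_local fun x => ?_
  obtain ⟨W, hW, hxW, -⟩ := exists_isAffineOpen_mem_and_subset (x := g (f (p x))) (U := ⊤) trivial
  have hcx : h (q x) = f (p x) := by
    rw [← Scheme.Hom.comp_apply, ← Scheme.Hom.comp_apply, hpb.w]
  have hcy : s (t (q x)) = g (f (p x)) := by
    rw [← hcx, ← Scheme.Hom.comp_apply t s, ← Scheme.Hom.comp_apply h g, hY.w]
  obtain ⟨W', hW', hxW', hW'W⟩ := exists_isAffineOpen_mem_and_subset (x := t (q x)) (U := s ⁻¹ᵁ W)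
    (show s (t (q x)) ∈ W from hcy ▸ hxW)
  obtain ⟨V, hV, hxV, hVW⟩ := exists_isAffineOpen_mem_and_subset (x := f (p x)) (U := g ⁻¹ᵁ W) hxW
  obtain ⟨U, hU, hxU, hUV⟩ := exists_isAffineOpen_mem_and_subset (x := p x) (U := f ⁻¹ᵁ V) hxV
  let V' := h ⁻¹ᵁ V ⊓ t ⁻¹ᵁ W'
  have hV' : IsAffineOpen V' := by
    have : IsAffine V := hV
    have : IsAffine W := hW
    have : IsAffine W' := hW'
    exact .of_isIso (Scheme.Hom.isPullback_resLE hY hW'W hVW rfl).isoPullback.hom
  have hxV' : q x ∈ V' := ⟨show h (q x) ∈ V from hcx ▸ hxV, hxW'⟩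
  have hV'V : V' ≤ h ⁻¹ᵁ V := inf_le_left
  let U' := p ⁻¹ᵁ U ⊓ q ⁻¹ᵁ V'
  have hU' : IsAffineOpen U' := by
    have : IsAffine V := hV
    have : IsAffine U := hU
    have : IsAffine V' := hV'
    exact .of_isIso (Scheme.Hom.isPullback_resLE hpb hV'V hUV rfl).isoPullback.hom
  have hpushY : CategoryTheory.IsPushout (g.appLE W V hVW) (s.appLE W W' hW'W)
      (h.appLE V V' inf_le_left) (t.appLE W' V' inf_le_right) :=
    (isIso_pushoutSection_iff hY hW'W hVW rfl).1
      (isIso_pushoutSection_of_isAffineOpen hY hW'W hVW rfl hW hW' hV)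
  have hpush : CategoryTheory.IsPushout (f.appLE V U hUV) (h.appLE V V' hV'V)
      (p.appLE U U' inf_le_left) (q.appLE V' U' inf_le_right) :=
    (isIso_pushoutSection_iff hpb hV'V hUV rfl).1
      (isIso_pushoutSection_of_isAffineOpen hpb hV'V hUV rfl hV hV' hU)
  letI := (g.appLE W V hVW).hom.toAlgebra
  letI := (s.appLE W W' hW'W).hom.toAlgebra
  letI := (t.appLE W' V' inf_le_right).hom.toAlgebra
  letI := (f.appLE V U hUV).hom.toAlgebra
  letI := (h.appLE V V' hV'V).hom.toAlgebra
  letI := (p.appLE U U' inf_le_left).hom.toAlgebra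
  letI := (q.appLE V' U' inf_le_right).hom.toAlgebra
  letI : Algebra Γ(S, W) Γ(Y', V') := ((t.appLE W' V' inf_le_right).hom.comp (s.appLE W W' hW'W).hom).toAlgebra
  haveI : IsScalarTower Γ(S, W) Γ(S', W') Γ(Y', V') := IsScalarTower.of_algebraMap_eq' rfl
  haveI : IsScalarTower Γ(S, W) Γ(Y, V) Γ(Y', V') :=
    IsScalarTower.of_algebraMap_eq' (congrArg CommRingCat.Hom.hom hpushY.w).symm
  haveI : Algebra.IsPushout Γ(S, W) Γ(S', W') Γ(Y, V) Γ(Y', V') :=
    CommRingCat.isPushout_iff_isPushout.1 hpushY.flip
  letI : Algebra Γ(Y, V) Γ(X', U') := ((q.appLE V' U' inf_le_right).hom.comp (h.appLE V V' hV'V).hom).toAlgebra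
  haveI : IsScalarTower Γ(Y, V) Γ(Y', V') Γ(X', U') := IsScalarTower.of_algebraMap_eq' rfl
  haveI : IsScalarTower Γ(Y, V) Γ(X, U) Γ(X', U') :=
    IsScalarTower.of_algebraMap_eq' (congrArg CommRingCat.Hom.hom hpush.w).symm
  haveI : Algebra.IsPushout Γ(Y, V) Γ(Y', V') Γ(X, U) Γ(X', U') :=
    CommRingCat.isPushout_iff_isPushout.1 hpush.flip
  letI : Algebra Γ(S, W) Γ(X, U) := ((f.appLE V U hUV).hom.comp (g.appLE W V hVW).hom).toAlgebra
  haveI : IsScalarTower Γ(S, W) Γ(Y, V) Γ(X, U) := IsScalarTower.of_algebraMap_eq' rfl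
  haveI : Module.Flat Γ(S, W) Γ(Y, V) := HasRingHomProperty.appLE @Flat g inferInstance ⟨W, hW⟩ ⟨V, hV⟩ hVW
  haveI : Module.Flat Γ(S, W) Γ(X, U) := by
    have hle : U ≤ (f ≫ g) ⁻¹ᵁ W := fun y hy => hVW (hUV hy)
    have hfl := HasRingHomProperty.appLE @Flat (f ≫ g) inferInstance ⟨W, hW⟩ ⟨U, hU⟩ hle
    rw [← Scheme.Hom.appLE_comp_appLE _ _ W V U hVW hUV] at hfl
    exact hfl
  obtain ⟨k, φ, hφ⟩ := exists_chart f ⟨U, hU⟩ ⟨V, hV⟩ hUV
  have hc : φ.comp MvPolynomial.C = algebraMap Γ(Y, V) Γ(X, U) := hφ.2
  let φ' := pushPres (A' := Γ(Y', V')) (B' := Γ(X', U')) φ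
  have hφ' : DerSch.IsChart q U' V' inf_le_right φ' :=
    ⟨pushPres_surjective hφ.1 hc, RingHom.ext fun a => by
      show φ' (MvPolynomial.C a) = _
      simp only [φ', pushPres, MvPolynomial.eval₂Hom_C]
      rfl⟩
  exact ⟨⟨U', hU'⟩, ⟨V', hV'⟩, inf_le_right, ⟨hxU, hxV'⟩, k, φ', hφ', (chartPC_unit_iff hU' hφ' n).2
    (pcHom_pushPres_torIndep (R := Γ(S, W)) (R' := Γ(S', W')) hc
      (fun m => (chartPC_unit_iff hU hφ m).1 (chartPC_of_isRel (hf m) hU hV hφ)) n)⟩

end Groth.Agent.RelPC
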